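import Cfsg.Agent.H341.ThreeFin
import Cfsg.Agent.H341.EightSpor
import Cfsg.Agent.H542.Frobenius
import Cfsg.Agent.H497.AltId
import Cfsg.Agent.SporadicA.M11Facts2

/-!
# The end of the 3-local characterizations of `A₈` and `S₈` (helper341)

`Loc e D y z` : the local structure common to S3329 (`e = 1`) and S3330 (`e = 2`).
-/

set_option autoImplicit false

namespace Cfsg.Agent.H341.EndEight

open Subgroup Cfsg Cfsg.Agent.OrdDiv Cfsg.Agent.H341.ThreeElts Cfsg.Agent.H341.ThreeFin

universe u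

section basic

variable {G : Type u} [Group G]

theorem relIndex_card {H K : Subgroup G} (h : H ≤ K) : H.relIndex K * Nat.card H = Nat.card K := by
  have h1 := Subgroup.relIndex_mul_relIndex ⊥ H K bot_le h
  rw [relIndex_bot_left, relIndex_bot_left] at h1
  rw [mul_comm]
  exact h1

/-- orbit-stabilizer for conjugation by a subgroup -/
theorem orbit_stab [Finite G] (H : Subgroup G) (x : G) :
    {g : G | ∃ h ∈ H, h * x * h⁻¹ = g}.ncard * Nat.card (H ⊓ centralizer ({x} : Set G) : Subgroup G) = Nat.card H := by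
  letI : MulAction H G := MulAction.compHom G (MulAut.conj.comp H.subtype)
  have h1 := MulAction.index_stabilizer H x
  have h2 : MulAction.orbit H x = {g : G | ∃ h ∈ H, h * x * h⁻¹ = g} := by
    ext g
    constructor
    · rintro ⟨h, rfl⟩
      exact ⟨h, h.2, rfl⟩
    · rintro ⟨h, hh, rfl⟩
      exact ⟨⟨h, hh⟩, rfl⟩
  have h3 : (MulAction.stabilizer H x).map H.subtype = H ⊓ centralizer ({x} : Set G) := by
    ext g
    constructor
    · rintro ⟨h, hh, rfl⟩
      refine ⟨h.2, mem_centralizer_singleton_iff.2 ?_⟩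
      have h4 : (h : G) * x * (h : G)⁻¹ = x := hh
      exact mul_inv_eq_iff_eq_mul.1 h4
    · rintro ⟨h4, h5⟩
      refine ⟨⟨g, h4⟩, ?_, rfl⟩
      show g * x * g⁻¹ = x
      rw [mul_inv_eq_iff_eq_mul]
      exact mem_centralizer_singleton_iff.1 h5
  rw [← h2, ← h1, ← h3, Subgroup.card_map_of_injective H.subtype_injective]
  exact Subgroup.index_mul_card _

/-- the size of a conjugacy class -/
theorem card_class [Finite G] (x : G) :
    {g : G | ∃ h : G, h * x * h⁻¹ = g}.ncard * Nat.card (centralizer ({x} : Set G)) = Nat.card G := by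
  have h := orbit_stab (⊤ : Subgroup G) x
  rw [top_inf_eq, Subgroup.card_top] at h
  rw [← h]
  congr 2
  ext g
  constructor
  · rintro ⟨h, hh⟩
    exact ⟨h, mem_top _, hh⟩
  · rintro ⟨h, -, hh⟩
    exact ⟨h, hh⟩

/-- conjugate elements have centralizers of the same order -/
theorem card_cent_conj (x g : G) :
    Nat.card (centralizer ({g * x * g⁻¹} : Set G)) = Nat.card (centralizer ({x} : Set G)) := by
  have h3 : (centralizer ({x} : Set G)).map (MulAut.conj g).toMonoidHom = centralizer ({g * x * g⁻¹} : Set G) := by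
    ext k
    constructor
    · rintro ⟨y, hy, rfl⟩
      rw [SetLike.mem_coe, mem_centralizer_singleton_iff] at hy
      rw [mem_centralizer_singleton_iff]
      change g * y * g⁻¹ * (g * x * g⁻¹) = g * x * g⁻¹ * (g * y * g⁻¹)
      calc g * y * g⁻¹ * (g * x * g⁻¹) = g * (y * x) * g⁻¹ := by group
        _ = g * (x * y) * g⁻¹ := by rw [hy]
        _ = _ := by group
    · intro hk
      rw [mem_centralizer_singleton_iff] at hk
      refine ⟨g⁻¹ * k * g, ?_, ?_⟩
      · rw [SetLike.mem_coe, mem_centralizer_singleton_iff]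
        calc g⁻¹ * k * g * x = g⁻¹ * (k * (g * x * g⁻¹)) * g := by group
          _ = g⁻¹ * (g * x * g⁻¹ * k) * g := by rw [hk]
          _ = _ := by group
      · change g * (g⁻¹ * k * g) * g⁻¹ = k
        group
  rw [← h3]
  exact Subgroup.card_map_of_injective (MulAut.conj g).injective

end basic

/-- The local structure. -/
structure Loc {G : Type u} [Group G] (e : ℕ) (D : Subgroup G) (y z : G) : Prop where
  he : e = 1 ∨ e = 2
  syl : ∃ P : Sylow 3 G, (P : Subgroup G) = D
  card : Nat.card D = 9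
  comm : ∀ a ∈ D, ∀ b ∈ D, a * b = b * a
  exp : ∀ a ∈ D, a ^ 3 = 1
  hy : y ∈ D
  hz : z ∈ D
  y1 : y ≠ 1
  z1 : z ≠ 1
  cN : Nat.card (normalizer (D : Set G)) = 72 * e
  cy : Nat.card (centralizer ({y} : Set G)) = 18 * e
  yD : centralizer ({y} : Set G) ≤ normalizer (D : Set G)
  ey : ∀ h : G, y * h = h * y → h ^ 12 = 1 ∨ h ^ 15 = 1
  cz : Nat.card (centralizer ({z} : Set G)) = 180 * e
  ez : ∀ h : G, z * h = h * z → h ^ 12 = 1 ∨ h ^ 15 = 1

namespace Loc

variable {G : Type u} [Group G] [Finite G] {e : ℕ} {D : Subgroup G} {y z : G}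

/-- the orbit under the normalizer of `D` -/
def orb (D : Subgroup G) (x : G) : Set G := {g : G | ∃ h ∈ normalizer (D : Set G), h * x * h⁻¹ = g}

theorem epos (L : Loc e D y z) : 0 < e := by rcases L.he with h | h <;> omega

omit [Finite G] in
theorem orb_le {x : G} (hx : x ∈ D) : orb D x ⊆ (D : Set G) := by
  rintro _ ⟨h, hh, rfl⟩
  exact (mem_normalizer_iff.1 hh x).1 hx

theorem orb_y (L : Loc e D y z) : (orb D y).ncard = 4 := by
  have h := orbit_stab (normalizer (D : Set G)) y
  rw [inf_eq_right.2 L.yD, L.cy, L.cN] at h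
  have h1 : (orb D y).ncard * (18 * e) = 4 * (18 * e) := h.trans (by ring)
  exact Nat.eq_of_mul_eq_mul_right (by have := L.epos; positivity) h1

theorem D_le (L : Loc e D y z) : D ≤ centralizer ({z} : Set G) := fun a ha =>
  mem_centralizer_singleton_iff.2 (L.comm a ha z L.hz)

theorem not_conj (L : Loc e D y z) (g : G) : g * y * g⁻¹ ≠ z := by
  intro h
  have h1 := card_cent_conj y g
  rw [h, L.cz, L.cy] at h1
  have := L.epos
  omega

theorem disj (L : Loc e D y z) : Disjoint (orb D y) (orb D z) := by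
  rw [Set.disjoint_left]
  rintro _ ⟨h, -, rfl⟩ ⟨k, -, hk⟩
  apply L.not_conj (k⁻¹ * h)
  calc k⁻¹ * h * y * (k⁻¹ * h)⁻¹ = k⁻¹ * (h * y * h⁻¹) * k := by group
    _ = k⁻¹ * (k * z * k⁻¹) * k := by rw [hk]
    _ = z := by group

theorem orb_z (L : Loc e D y z) : (orb D z).ncard = 4 := by
  have : Fact (Nat.Prime 3) := ⟨Nat.prime_three⟩
  have he := L.he
  obtain ⟨P, hP⟩ := L.syl
  -- bound
  have hle : (orb D z).ncard ≤ 4 := by
    have h1 : (insert 1 (orb D y ∪ orb D z) : Set G) ⊆ (D : Set G) := by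
      rw [Set.insert_subset_iff]
      exact ⟨D.one_mem, Set.union_subset (orb_le L.hy) (orb_le L.hz)⟩
    have h2 := Set.ncard_le_ncard h1 (Set.toFinite _)
    have h3 : (1 : G) ∉ orb D y ∪ orb D z := by
      rintro (⟨h, -, hh⟩ | ⟨h, -, hh⟩)
      · apply L.y1
        rw [mul_inv_eq_one, mul_eq_left] at hh
        exact hh
      · apply L.z1
        rw [mul_inv_eq_one, mul_eq_left] at hh
        exact hh
    rw [Set.ncard_insert_of_notMem h3 (Set.toFinite _), Set.ncard_union_eq L.disj (Set.toFinite _) (Set.toFinite _),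
      L.orb_y] at h2
    have h4 : (D : Set G).ncard = 9 := L.card
    omega
  -- the number of Sylow 3-subgroups of `C(z)`
  have hPz : (P : Subgroup G) ≤ centralizer ({z} : Set G) := by rw [hP]; exact L.D_le
  have h1 := card_sylow_modEq_one 3 (centralizer ({z} : Set G))
  rw [Sylow.card_eq_index_normalizer (P.subtype hPz)] at h1
  have h2 : (normalizer ((P.subtype hPz : Subgroup (centralizer ({z} : Set G))) : Set (centralizer ({z} : Set G)))) =
      (normalizer (D : Set G)).subgroupOf (centralizer ({z} : Set G)) := by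
    rw [Sylow.coe_subtype, hP]
    exact (subgroupOf_normalizer_eq L.D_le).symm
  change (normalizer ((P.subtype hPz : Subgroup (centralizer ({z} : Set G))) :
    Set (centralizer ({z} : Set G)))).index ≡ 1 [MOD 3] at h1
  rw [h2] at h1
  change (normalizer (D : Set G)).relIndex (centralizer ({z} : Set G)) ≡ 1 [MOD 3] at h1
  have h3 := relIndex_card (inf_le_right : normalizer (D : Set G) ⊓ centralizer ({z} : Set G) ≤
    centralizer ({z} : Set G))
  rw [Subgroup.inf_relIndex_right, L.cz] at h3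
  have h4 := orbit_stab (normalizer (D : Set G)) z
  rw [L.cN] at h4
  change (orb D z).ncard * _ = _ at h4
  have h5 : Nat.card D ∣ Nat.card (normalizer (D : Set G) ⊓ centralizer ({z} : Set G) : Subgroup G) :=
    Subgroup.card_dvd_of_le (le_inf le_normalizer L.D_le)
  rw [L.card] at h5
  obtain ⟨k, hk⟩ := h5
  rw [hk] at h3 h4
  generalize (orb D z).ncard = o at *
  generalize (normalizer (D : Set G)).relIndex (centralizer ({z} : Set G)) = r at *
  unfold Nat.ModEq at h1
  have h6 : o = 0 ∨ o = 1 ∨ o = 2 ∨ o = 3 ∨ o = 4 := by omega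
  rcases he with rfl | rfl
  · rcases h6 with rfl | rfl | rfl | rfl | rfl
    · omega
    · have : k = 8 := by omega
      subst this; omega
    · have : k = 4 := by omega
      subst this; omega
    · omega
    · rfl
  · rcases h6 with rfl | rfl | rfl | rfl | rfl
    · omega
    · have : k = 16 := by omega
      subst this; omega
    · have : k = 8 := by omega
      subst this; omega
    · omega
    · rfl

theorem cover (L : Loc e D y z) {a : G} (ha : a ∈ D) (ha1 : a ≠ 1) : a ∈ orb D y ∨ a ∈ orb D z := by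
  by_contra hno
  have hno' : a ∉ orb D y ∪ orb D z := hno
  have h3 : (1 : G) ∉ orb D y ∪ orb D z := by
    rintro (⟨h, -, hh⟩ | ⟨h, -, hh⟩)
    · apply L.y1
      rw [mul_inv_eq_one, mul_eq_left] at hh
      exact hh
    · apply L.z1
      rw [mul_inv_eq_one, mul_eq_left] at hh
      exact hh
  have h4 : a ∉ insert 1 (orb D y ∪ orb D z) := by
    rw [Set.mem_insert_iff]
    rintro (h | h)
    · exact ha1 h
    · exact hno' h
  have h1 : (insert a (insert 1 (orb D y ∪ orb D z)) : Set G) ⊆ (D : Set G) := by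
    rw [Set.insert_subset_iff, Set.insert_subset_iff]
    exact ⟨ha, D.one_mem, Set.union_subset (orb_le L.hy) (orb_le L.hz)⟩
  have h2 := Set.ncard_le_ncard h1 (Set.toFinite _)
  rw [Set.ncard_insert_of_notMem h4 (Set.toFinite _), Set.ncard_insert_of_notMem h3 (Set.toFinite _),
    Set.ncard_union_eq L.disj (Set.toFinite _) (Set.toFinite _), L.orb_y, L.orb_z] at h2
  have h5 : (D : Set G).ncard = 9 := L.card
  omega

/-- every 3-subgroup is conjugate to a subgroup of `D` -/
theorem conj_le (L : Loc e D y z) {Q : Subgroup G} (hQ : IsPGroup 3 Q) :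
    ∃ g : G, ∀ x ∈ Q, g * x * g⁻¹ ∈ D := by
  have : Fact (Nat.Prime 3) := ⟨Nat.prime_three⟩
  obtain ⟨P, hP⟩ := L.syl
  obtain ⟨R, hR⟩ := hQ.exists_le_sylow
  obtain ⟨g, hg⟩ := MulAction.exists_smul_eq G R P
  refine ⟨g, fun x hx => ?_⟩
  rw [← hP, ← hg, Sylow.coe_subgroup_smul]
  have h1 : x ∈ (R : Subgroup G) := hR hx
  exact Subgroup.smul_mem_pointwise_smul x (MulAut.conj g) _ h1

/-- elements of order dividing 9 are conjugate to `y` or `z` or trivial -/
theorem conj_of_nine (L : Loc e D y z) {g : G} (hg : g ^ 9 = 1) (hg1 : g ≠ 1) :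
    (∃ h : G, h * y * h⁻¹ = g) ∨ ∃ h : G, h * z * h⁻¹ = g := by
  have : Fact (Nat.Prime 3) := ⟨Nat.prime_three⟩
  have hQ : IsPGroup 3 (zpowers g) := by
    rintro ⟨_, i, rfl⟩
    refine ⟨2, Subtype.ext ?_⟩
    change (g ^ i) ^ 9 = 1
    rw [← zpow_natCast, ← zpow_mul, mul_comm, zpow_mul, zpow_natCast, hg, one_zpow]
  obtain ⟨k, hk⟩ := L.conj_le hQ
  have h1 := hk g (mem_zpowers g)
  have h2 : k * g * k⁻¹ ≠ 1 := by
    intro h
    apply hg1
    rw [mul_inv_eq_one, mul_eq_left] at h
    exact h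
  rcases L.cover h1 h2 with ⟨h, -, hh⟩ | ⟨h, -, hh⟩
  · left
    refine ⟨k⁻¹ * h, ?_⟩
    calc k⁻¹ * h * y * (k⁻¹ * h)⁻¹ = k⁻¹ * (h * y * h⁻¹) * k := by group
      _ = k⁻¹ * (k * g * k⁻¹) * k := by rw [hh]
      _ = g := by group
  · right
    refine ⟨k⁻¹ * h, ?_⟩
    calc k⁻¹ * h * z * (k⁻¹ * h)⁻¹ = k⁻¹ * (h * z * h⁻¹) * k := by group
      _ = k⁻¹ * (k * g * k⁻¹) * k := by rw [hh]
      _ = g := by group

theorem cube (L : Loc e D y z) {g : G} (hg : g ^ 9 = 1) : g ^ 3 = 1 := by
  by_cases h1 : g = 1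
  · rw [h1, one_pow]
  · rcases L.conj_of_nine hg h1 with ⟨h, rfl⟩ | ⟨h, rfl⟩
    · rw [conj_pow, L.exp y L.hy]
      group
    · rw [conj_pow, L.exp z L.hz]
      group

/-- **the order formula** -/
theorem order (L : Loc e D y z) : ∃ c : ℕ, Nat.card G = 180 * e * c ∧ c % 9 = 4 := by
  have hy := card_class y
  have hz := card_class z
  rw [L.cy] at hy
  rw [L.cz] at hz
  have h9 : 9 ∣ Nat.card G := by
    rw [← L.card]
    exact Subgroup.card_subgroup_dvd_card D
  have hF := H542.Frobenius.frobenius_dvd h9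
  have h1 : Nat.card {x : G // x ^ 9 = 1} = {x : G | x ^ 9 = 1}.ncard := rfl
  have h2 : {x : G | x ^ 9 = 1} = insert 1 ({g : G | ∃ h : G, h * y * h⁻¹ = g} ∪ {g : G | ∃ h : G, h * z * h⁻¹ = g}) := by
    ext x
    rw [Set.mem_insert_iff, Set.mem_union]
    constructor
    · intro hx
      by_cases h1 : x = 1
      · exact Or.inl h1
      · exact Or.inr (L.conj_of_nine hx h1)
    · have h9y : y ^ 9 = 1 := by rw [show 9 = 3 * 3 by rfl, pow_mul, L.exp y L.hy, one_pow]
      have h9z : z ^ 9 = 1 := by rw [show 9 = 3 * 3 by rfl, pow_mul, L.exp z L.hz, one_pow]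
      rintro (rfl | ⟨h, rfl⟩ | ⟨h, rfl⟩)
      · exact one_pow 9
      · show (h * y * h⁻¹) ^ 9 = 1
        rw [conj_pow, h9y]
        group
      · show (h * z * h⁻¹) ^ 9 = 1
        rw [conj_pow, h9z]
        group
  have h3 : (1 : G) ∉ ({g : G | ∃ h : G, h * y * h⁻¹ = g} ∪ {g : G | ∃ h : G, h * z * h⁻¹ = g}) := by
    rintro (⟨h, hh⟩ | ⟨h, hh⟩)
    · apply L.y1
      rw [mul_inv_eq_one, mul_eq_left] at hh
      exact hh
    · apply L.z1
      rw [mul_inv_eq_one, mul_eq_left] at hh
      exact hh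
  have h4 : Disjoint {g : G | ∃ h : G, h * y * h⁻¹ = g} {g : G | ∃ h : G, h * z * h⁻¹ = g} := by
    rw [Set.disjoint_left]
    rintro _ ⟨h, rfl⟩ ⟨k, hk⟩
    apply L.not_conj (k⁻¹ * h)
    calc k⁻¹ * h * y * (k⁻¹ * h)⁻¹ = k⁻¹ * (h * y * h⁻¹) * k := by group
      _ = k⁻¹ * (k * z * k⁻¹) * k := by rw [hk]
      _ = z := by group
  rw [h1, h2, Set.ncard_insert_of_notMem h3 (Set.toFinite _),
    Set.ncard_union_eq h4 (Set.toFinite _) (Set.toFinite _)] at hF
  generalize {g : G | ∃ h : G, h * y * h⁻¹ = g}.ncard = cy at *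
  generalize {g : G | ∃ h : G, h * z * h⁻¹ = g}.ncard = cz at *
  have he := L.epos
  have h5 : cy = 10 * cz := by
    have h6 : cy * (18 * e) = 10 * cz * (18 * e) := by
      rw [hy, ← hz]
      ring
    exact Nat.eq_of_mul_eq_mul_right (by positivity) h6
  refine ⟨cz, ?_, ?_⟩
  · rw [← hz]
    ring
  · rw [h5] at hF
    omega

/-- a normal subgroup containing `D` -/
theorem index_dvd (L : Loc e D y z) {K : Subgroup G} [hK : K.Normal] (hDK : D ≤ K) : K.index ∣ 8 * e := by
  have : Fact (Nat.Prime 3) := ⟨Nat.prime_three⟩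
  obtain ⟨P, hP⟩ := L.syl
  have hPK : (P : Subgroup G) ≤ K := by rw [hP]; exact hDK
  have h1 := Sylow.normalizer_sup_eq_top (P.subtype hPK)
  rw [Sylow.coe_subtype, hP, map_subgroupOf_eq_of_le hDK] at h1
  have h2 : K.index = K.relIndex (normalizer (D : Set G)) := by
    rw [← Subgroup.relIndex_top_right, ← h1, Subgroup.relIndex_sup_right]
  have h3 : K.relIndex (normalizer (D : Set G)) ∣ D.relIndex (normalizer (D : Set G)) :=
    Subgroup.relIndex_dvd_of_le_left _ hDK
  have h4 := relIndex_card (le_normalizer : D ≤ normalizer (D : Set G))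
  rw [L.card, L.cN] at h4
  rw [h2]
  have h5 : D.relIndex (normalizer (D : Set G)) = 8 * e := by omega
  rwa [h5] at h3

/-- the hypothesis of the elimination -/
theorem hyp (L : Loc e D y z) (K : Subgroup G) : Hyp K := by
  have he := L.he
  have key : ∀ g : G, orderOf g = 3 → Nat.card (centralizer ({g} : Set G)) ∣ 360 ∧
      ∀ h : G, g * h = h * g → h ^ 12 = 1 ∨ h ^ 15 = 1 := by
    intro g hg
    have hg9 : g ^ 9 = 1 := by
      rw [show 9 = 3 * 3 by rfl, pow_mul, ← hg, pow_orderOf_eq_one, one_pow]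
    have hg1 : g ≠ 1 := by
      rintro rfl
      rw [orderOf_one] at hg
      omega
    have tr : ∀ x : G, (∀ h : G, x * h = h * x → h ^ 12 = 1 ∨ h ^ 15 = 1) → ∀ k : G, k * x * k⁻¹ = g →
        ∀ h : G, g * h = h * g → h ^ 12 = 1 ∨ h ^ 15 = 1 := by
      intro x hx k hk h hh
      have h1 : x * (k⁻¹ * h * k) = (k⁻¹ * h * k) * x := by
        calc x * (k⁻¹ * h * k) = k⁻¹ * (k * x * k⁻¹ * h) * k := by group
          _ = k⁻¹ * (h * (k * x * k⁻¹)) * k := by rw [hk, hh]
          _ = _ := by group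
      have h2 : ∀ n : ℕ, (k⁻¹ * h * k) ^ n = 1 → h ^ n = 1 := by
        intro n hn
        have h3 : (k⁻¹ * h * k⁻¹⁻¹) ^ n = 1 := by rwa [inv_inv]
        rw [conj_pow] at h3
        rw [inv_inv] at h3
        calc h ^ n = k * (k⁻¹ * h ^ n * k) * k⁻¹ := by group
          _ = 1 := by rw [h3]; group
      rcases hx _ h1 with h3 | h3
      · exact Or.inl (h2 _ h3)
      · exact Or.inr (h2 _ h3)
    rcases L.conj_of_nine hg9 hg1 with ⟨k, hk⟩ | ⟨k, hk⟩
    · refine ⟨?_, tr y L.ey k hk⟩
      rw [← hk, card_cent_conj, L.cy]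
      rcases he with rfl | rfl <;> norm_num
    · refine ⟨?_, tr z L.ez k hk⟩
      rw [← hk, card_cent_conj, L.cz]
      rcases he with rfl | rfl <;> norm_num
  refine ⟨fun g hg => ?_, fun g h hg hh => ?_⟩
  · have h1 : orderOf (g : G) = 3 := by rw [Subgroup.orderOf_coe, hg]
    refine dvd_trans ?_ (key g h1).1
    have h2 : (centralizer ({g} : Set K)).map K.subtype ≤ centralizer ({(g : G)} : Set G) := by
      rintro _ ⟨x, hx, rfl⟩
      rw [SetLike.mem_coe, mem_centralizer_singleton_iff] at hx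
      rw [mem_centralizer_singleton_iff]
      exact congrArg Subtype.val hx
    have h3 := Subgroup.card_dvd_of_le h2
    rwa [Subgroup.card_map_of_injective K.subtype_injective] at h3
  · have h1 : orderOf (g : G) = 3 := by rw [Subgroup.orderOf_coe, hg]
    have h2 : (g : G) * h = h * g := congrArg Subtype.val hh
    rcases (key g h1).2 h h2 with h3 | h3
    · exact Or.inl (Subtype.ext h3)
    · exact Or.inr (Subtype.ext h3)

omit [Finite G] in
theorem orb_card {x g : G} (hg : g ∈ orb D x) :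
    Nat.card (centralizer ({g} : Set G)) = Nat.card (centralizer ({x} : Set G)) := by
  obtain ⟨h, -, rfl⟩ := hg
  exact card_cent_conj x h

/-- at most four elements of `D` have a centralizer of given order -/
theorem class_le (L : Loc e D y z) (N : ℕ) :
    {x : G | x ∈ D ∧ x ≠ 1 ∧ Nat.card (centralizer ({x} : Set G)) = N}.ncard ≤ 4 := by
  have he := L.epos
  by_cases h : N = 18 * e
  · rw [← L.orb_y]
    apply Set.ncard_le_ncard _ (Set.toFinite _)
    rintro x ⟨hx, hx1, hxN⟩
    rcases L.cover hx hx1 with h1 | h1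
    · exact h1
    · exfalso
      have h2 := orb_card h1
      rw [hxN, L.cz] at h2
      omega
  · rw [← L.orb_z]
    apply Set.ncard_le_ncard _ (Set.toFinite _)
    rintro x ⟨hx, hx1, hxN⟩
    rcases L.cover hx hx1 with h1 | h1
    · exfalso
      have h2 := orb_card h1
      rw [hxN, L.cy] at h2
      omega
    · exact h1

theorem not_tri (L : Loc e D y z) {K : Subgroup G} (h : Tri K) : False := by
  have : Fact (Nat.Prime 3) := ⟨Nat.prime_three⟩
  obtain ⟨a₀, b₀, ha, hb, hab, hne, ⟨g₀, hg⟩, k₀, hk⟩ := h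
  obtain ⟨a, ha'⟩ : ∃ a : G, a = a₀ := ⟨_, rfl⟩
  obtain ⟨b, hb'⟩ : ∃ b : G, b = b₀ := ⟨_, rfl⟩
  have ha3 : orderOf a = 3 := by rw [ha', Subgroup.orderOf_coe, ha]
  have hb3 : orderOf b = 3 := by rw [hb', Subgroup.orderOf_coe, hb]
  have hab' : a * b = b * a := by rw [ha', hb']; exact congrArg Subtype.val hab
  have hne' : b ∉ zpowers a := by
    rintro ⟨i, hi⟩
    apply hne
    refine ⟨i, Subtype.ext ?_⟩
    change (a₀ : G) ^ i = b₀
    rw [← ha', ← hb']
    exact hi
  have hg' : (g₀ : G) * a * (g₀ : G)⁻¹ = b := by rw [ha', hb']; exact congrArg Subtype.val hg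
  have hk' : (k₀ : G) * a * (k₀ : G)⁻¹ = a * b := by rw [ha', hb']; exact congrArg Subtype.val hk
  have hQa : IsPGroup 3 (zpowers a) := IsPGroup.of_card (n := 1) (by rw [Nat.card_zpowers, ha3, pow_one])
  have hQb : IsPGroup 3 (zpowers b) := IsPGroup.of_card (n := 1) (by rw [Nat.card_zpowers, hb3, pow_one])
  have hQ : IsPGroup 3 (zpowers a ⊔ zpowers b : Subgroup G) := by
    refine hQa.to_sup_of_normal_right' hQb ?_
    rw [zpowers_le]
    refine centralizer_le_normalizer _ ?_
    rw [mem_centralizer_iff]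
    rintro _ ⟨i, rfl⟩
    have h1 : Commute b a := hab'.symm
    exact (h1.zpow_left i).eq
  obtain ⟨x, hx⟩ := L.conj_le hQ
  have haD := hx a (mem_sup_left (mem_zpowers a))
  have hbD := hx b (mem_sup_right (mem_zpowers b))
  -- the five elements
  have inv_card : ∀ c : G, Nat.card (centralizer ({c⁻¹} : Set G)) = Nat.card (centralizer ({c} : Set G)) := by
    intro c
    congr 2
    ext g
    rw [mem_centralizer_singleton_iff, mem_centralizer_singleton_iff]
    constructor
    · intro h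
      have h1 : Commute g c⁻¹ := h
      have h2 := h1.inv_right
      rw [inv_inv] at h2
      exact h2.eq
    · intro h
      have h1 : Commute g c := h
      exact h1.inv_right.eq
  set N := Nat.card (centralizer ({a} : Set G)) with hN
  have hbN : Nat.card (centralizer ({b} : Set G)) = N := by rw [← hg', card_cent_conj]
  have habN : Nat.card (centralizer ({a * b} : Set G)) = N := by rw [← hk', card_cent_conj]
  have ha1 : a ≠ 1 := by
    rintro rfl
    rw [orderOf_one] at ha3
    omega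
  have hb1 : b ≠ 1 := by
    rintro rfl
    rw [orderOf_one] at hb3
    omega
  have haa : a ^ 3 = 1 := by rw [← ha3, pow_orderOf_eq_one]
  have hbb : b ^ 3 = 1 := by rw [← hb3, pow_orderOf_eq_one]
  have n1 : a ≠ a⁻¹ := by
    intro h
    apply ha1
    have h1 : a * a = 1 := by
      nth_rewrite 2 [h]
      exact mul_inv_cancel a
    calc a = (a * a)⁻¹ * a ^ 3 := by group
      _ = 1 := by rw [h1, haa]; group
  have n2 : a ≠ b := fun h => hne' (h ▸ mem_zpowers a)
  have n3 : a ≠ b⁻¹ := fun h => hne' (by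
    have h1 : b = a⁻¹ := by rw [h, inv_inv]
    rw [h1]
    exact (zpowers a).inv_mem (mem_zpowers a))
  have n4 : a ≠ a * b := fun h => hb1 (mul_eq_left.1 h.symm)
  have n5 : a⁻¹ ≠ b := fun h => hne' (h ▸ (zpowers a).inv_mem (mem_zpowers a))
  have n6 : a⁻¹ ≠ b⁻¹ := fun h => n2 (inv_injective h)
  have n7 : a⁻¹ ≠ a * b := fun h => hne' (by
    have h1 : b = a⁻¹ * a⁻¹ := by
      nth_rewrite 2 [h]
      group
    rw [h1]
    exact (zpowers a).mul_mem ((zpowers a).inv_mem (mem_zpowers a)) ((zpowers a).inv_mem (mem_zpowers a)))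
  have n8 : b ≠ b⁻¹ := by
    intro h
    apply hb1
    have h1 : b * b = 1 := by
      nth_rewrite 2 [h]
      exact mul_inv_cancel b
    calc b = (b * b)⁻¹ * b ^ 3 := by group
      _ = 1 := by rw [h1, hbb]; group
  have n9 : b ≠ a * b := fun h => ha1 (mul_eq_right.1 h.symm)
  have n10 : b⁻¹ ≠ a * b := by
    intro h
    apply n2
    calc a = a * b * b⁻¹ := by group
      _ = b⁻¹ * b⁻¹ := by rw [← h]
      _ = (b ^ 3)⁻¹ * b := by group
      _ = b := by rw [hbb]; group
  let S : Set G := {a, a⁻¹, b, b⁻¹, a * b}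
  have hS : S.ncard = 5 := by
    show ({a, a⁻¹, b, b⁻¹, a * b} : Set G).ncard = 5
    rw [Set.ncard_insert_of_notMem (by
        simp only [Set.mem_insert_iff, Set.mem_singleton_iff, not_or]; exact ⟨n1, n2, n3, n4⟩) (Set.toFinite _),
      Set.ncard_insert_of_notMem (by
        simp only [Set.mem_insert_iff, Set.mem_singleton_iff, not_or]; exact ⟨n5, n6, n7⟩) (Set.toFinite _),
      Set.ncard_insert_of_notMem (by
        simp only [Set.mem_insert_iff, Set.mem_singleton_iff, not_or]; exact ⟨n8, n9⟩) (Set.toFinite _),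
      Set.ncard_pair n10]
  have hcl := L.class_le N
  have hsub : (fun g => x * g * x⁻¹) '' S ⊆
      {x : G | x ∈ D ∧ x ≠ 1 ∧ Nat.card (centralizer ({x} : Set G)) = N} := by
    have hcj : ∀ g : G, g ≠ 1 → x * g * x⁻¹ ≠ 1 := by
      intro g hg1 h
      apply hg1
      rw [mul_inv_eq_one, mul_eq_left] at h
      exact h
    have hinv : ∀ g : G, x * g⁻¹ * x⁻¹ = (x * g * x⁻¹)⁻¹ := fun g => by group
    have hmul : x * (a * b) * x⁻¹ = (x * a * x⁻¹) * (x * b * x⁻¹) := by group
    rintro _ ⟨g, hg, rfl⟩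
    change g = a ∨ g = a⁻¹ ∨ g = b ∨ g = b⁻¹ ∨ g = a * b at hg
    rcases hg with rfl | rfl | rfl | rfl | rfl
    · exact ⟨haD, hcj _ ha1, by rw [card_cent_conj]⟩
    · refine ⟨?_, hcj _ (inv_ne_one.2 ha1), by rw [card_cent_conj, inv_card]⟩
      show x * a⁻¹ * x⁻¹ ∈ D
      rw [hinv]
      exact D.inv_mem haD
    · exact ⟨hbD, hcj _ hb1, by rw [card_cent_conj, hbN]⟩
    · refine ⟨?_, hcj _ (inv_ne_one.2 hb1), by rw [card_cent_conj, inv_card, hbN]⟩
      show x * b⁻¹ * x⁻¹ ∈ D
      rw [hinv]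
      exact D.inv_mem hbD
    · refine ⟨?_, hcj _ (fun h => n3 (eq_inv_of_mul_eq_one_left h)), by rw [card_cent_conj, habN]⟩
      show x * (a * b) * x⁻¹ ∈ D
      rw [hmul]
      exact D.mul_mem haD hbD
  have h1 := Set.ncard_le_ncard hsub (Set.toFinite _)
  have hinj : Function.Injective (fun g => x * g * x⁻¹) := (MulAut.conj x).injective
  rw [Set.ncard_image_of_injective S hinj, hS] at h1
  omega

/-- an element of order 5 of `K` commuting with `z` -/
theorem pair (L : Loc e D y z) {K : Subgroup G} [hK : K.Normal] (hDK : D ≤ K) :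
    ∃ w ∈ K, orderOf w = 5 ∧ z * w = w * z := by
  have he := L.he
  have : Fact (Nat.Prime 5) := ⟨Nat.prime_five⟩
  obtain ⟨⟨w, hw⟩, hw5⟩ := exists_prime_orderOf_dvd_card' (G := centralizer ({z} : Set G)) 5 (by
    rw [L.cz]
    rcases he with rfl | rfl <;> norm_num)
  rw [Subgroup.orderOf_mk] at hw5
  refine ⟨w, ?_, hw5, (mem_centralizer_singleton_iff.1 hw).symm⟩
  have h16 : K.index ∣ 16 := (L.index_dvd hDK).trans (by rcases he with rfl | rfl <;> norm_num)
  obtain ⟨k, hk⟩ := h16
  have h1 := K.pow_mem (K.pow_index_mem w) k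
  rw [← pow_mul, ← hk] at h1
  have h2 : w ^ 16 = w := by
    rw [show 16 = 5 * 3 + 1 by norm_num, pow_succ, pow_mul, ← hw5, pow_orderOf_eq_one, one_pow, one_mul]
  rwa [h2] at h1

/-- **the elimination** -/
theorem elim (T : OrderTable.{u}) (L : Loc e D y z)
    (ht : e = 2 → ∃ t : G, orderOf t = 2 ∧ ∀ a ∈ D, a * t = t * a) {K : Subgroup G} [hK : K.Normal] (hDK : D ≤ K)
    (hsim : IsSimpleGroup K) (hna : ¬ ∀ a b : K, a * b = b * a) (hk : IsKnownSimple' K) :
    Nonempty (K ≃* ↥(alternatingGroup (Fin 8))) ∧ K.index = e := by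
  have he := L.he
  obtain ⟨c, hc, hc9⟩ := L.order
  have hidx := L.index_dvd hDK
  have hcard := K.index_mul_card
  rw [hc] at hcard
  have hidx' : K.index = 1 ∨ K.index = 2 ∨ K.index = 4 ∨ K.index = 8 ∨ (K.index = 16 ∧ e = 2) := by
    have h1 : K.index ≤ 16 := by
      have := Nat.le_of_dvd (by have := L.epos; omega) hidx
      omega
    generalize K.index = i at *
    rcases he with rfl | rfl
    · interval_cases i <;> omega
    · interval_cases i <;> omega
  have h9 : 9 ∣ Nat.card K := by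
    rw [← L.card]
    exact Subgroup.card_dvd_of_le hDK
  have h27 : ¬ 27 ∣ Nat.card K := by
    intro h
    have h1 : 27 ∣ K.index * Nat.card K := Dvd.dvd.mul_left h _
    rw [hcard] at h1
    rcases he with rfl | rfl <;> omega
  have hel : ∀ g : K, orderOf g ≠ 9 := by
    intro g hg
    have h1 : (g : G) ^ 9 = 1 := by
      rw [← hg, ← Subgroup.orderOf_coe, pow_orderOf_eq_one]
    have h2 := orderOf_dvd_of_pow_eq_one (L.cube h1)
    rw [Subgroup.orderOf_coe, hg] at h2
    omega
  obtain ⟨w, hw, hw5, hzw⟩ := L.pair hDK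
  have hz3 : orderOf z = 3 := by
    have : Fact (Nat.Prime 3) := ⟨Nat.prime_three⟩
    exact orderOf_eq_prime (L.exp z L.hz) L.z1
  have hy3 : orderOf y = 3 := by
    have : Fact (Nat.Prime 3) := ⟨Nat.prime_three⟩
    exact orderOf_eq_prime (L.exp y L.hy) L.y1
  have halt : ∀ n ≤ 7, (K ≃* ↥(alternatingGroup (Fin n))) → False := by
    intro n hn f
    have hf : ∀ k : K, orderOf ((f k : alternatingGroup (Fin n)) : Equiv.Perm (Fin n)) = orderOf (k : G) := by
      intro k
      rw [Subgroup.orderOf_coe, MulEquiv.orderOf_eq, Subgroup.orderOf_coe]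
    refine EightSpor.no_fifteen hn (f ⟨z, hDK L.hz⟩ : alternatingGroup (Fin n)) (f ⟨w, hw⟩ : alternatingGroup (Fin n))
      (by rw [hf]; exact hz3) (by rw [hf]; exact hw5) ?_
    rw [← Subgroup.coe_mul, ← Subgroup.coe_mul, ← map_mul, ← map_mul]
    congr 2
    exact Subtype.ext hzw
  rcases nine T hk hna h9 h27 hel (L.hyp K) with ⟨⟨f⟩⟩ | ⟨⟨f⟩⟩ | ⟨⟨f⟩⟩ | h | ⟨F, _, _, hq, ⟨f⟩⟩ | h | h | h | h
  · exact (halt 6 (by norm_num) f).elim
  · exact (halt 7 (by norm_num) f).elim
  · refine ⟨⟨f⟩, ?_⟩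
    have h1 := alt_card (by norm_num) f
    rw [show Nat.factorial 8 = 40320 by rfl] at h1
    have h2 : Nat.card K = 20160 := by omega
    rw [h2] at hcard
    rcases he with rfl | rfl
    · rcases hidx' with h | h | h | h | h <;> omega
    · rcases hidx' with h | h | h | h | h <;> omega
  · exact (L.not_tri h).elim
  · exfalso
    obtain ⟨v, hv, hyv⟩ := psp4_five hq (f ⟨y, hDK L.hy⟩) (by
      rw [MulEquiv.orderOf_eq, Subgroup.orderOf_mk]
      exact hy3)
    have h1 : orderOf ((f.symm v : K) : G) = 5 := by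
      rw [Subgroup.orderOf_coe, MulEquiv.orderOf_eq, hv]
    have h2 : y * (f.symm v : K) = (f.symm v : K) * y := by
      have h3 : (⟨y, hDK L.hy⟩ : K) * f.symm v = f.symm v * ⟨y, hDK L.hy⟩ := by
        apply f.injective
        rw [map_mul, map_mul, f.apply_symm_apply]
        exact hyv
      exact congrArg Subtype.val h3
    have h3 : ((f.symm v : K) : G) ∈ centralizer ({y} : Set G) := mem_centralizer_singleton_iff.2 h2.symm
    have h4 := orderOf_dvd_natCard (⟨_, h3⟩ : centralizer ({y} : Set G))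
    rw [Subgroup.orderOf_mk, h1, L.cy] at h4
    rcases he with rfl | rfl <;> omega
  · exfalso
    have h1 := SporadicA.M11Facts2.card_centralizer_three (G := K) ⟨hsim, T.spor K (.m11, 7920) (by decide) h⟩
      (y := ⟨z, hDK L.hz⟩) (by rw [Subgroup.orderOf_mk]; exact hz3)
    have h3 : (⟨w, hw⟩ : K) ∈ centralizer ({(⟨z, hDK L.hz⟩ : K)} : Set K) :=
      mem_centralizer_singleton_iff.2 (Subtype.ext hzw.symm)
    have h4 := orderOf_dvd_natCard (⟨_, h3⟩ : centralizer ({(⟨z, hDK L.hz⟩ : K)} : Set K))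
    rw [Subgroup.orderOf_mk, Subgroup.orderOf_mk, h1, hw5] at h4
    omega
  · exfalso
    have h2 := T.spor K (.m22, 443520) (by decide) h
    rw [h2] at hcard
    rcases he with rfl | rfl
    · rcases hidx' with h | h | h | h | h <;> omega
    · rcases hidx' with h | h | h | h | h <;> omega
  · exfalso
    have h2 := T.spor K (.m23, 10200960) (by decide) h
    rw [h2] at hcard
    have h3 : e = 2 ∧ K.index = 1 := by
      rcases he with rfl | rfl
      · exfalso
        rcases hidx' with h | h | h | h | h <;> omega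
      · refine ⟨rfl, ?_⟩
        rcases hidx' with h | h | h | h | h <;> omega
    obtain ⟨t, ht2, htc⟩ := ht h3.1
    have hKt : K = ⊤ := Subgroup.index_eq_one.1 h3.2
    obtain ⟨f⟩ := h
    let φ : K →* Equiv.Perm GolayPt := (Spor.M23).subtype.comp f.toMonoidHom
    have hφ : Function.Injective φ := fun a b hab => f.injective (Subtype.ext hab)
    have htK : t ∈ K := by rw [hKt]; exact mem_top _
    refine EightSpor.m23_false ((D.subgroupOf K).map φ) ?_ ?_ ?_ ?_ (φ ⟨t, htK⟩) ?_ ?_ ?_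
    · rintro _ ⟨x, -, rfl⟩
      exact (f x).2
    · rw [Subgroup.card_map_of_injective hφ, Nat.card_congr (subgroupOfEquivOfLe hDK).toEquiv, L.card]
    · rintro _ ⟨x, hx, rfl⟩ _ ⟨x', hx', rfl⟩
      rw [← map_mul, ← map_mul]
      congr 1
      exact Subtype.ext (L.comm _ hx _ hx')
    · rintro _ ⟨x, hx, rfl⟩
      rw [← map_pow]
      have h5 : x ^ 3 = 1 := Subtype.ext (L.exp _ hx)
      rw [h5, map_one]
    · exact (f _).2
    · rw [orderOf_injective φ hφ, Subgroup.orderOf_mk, ht2]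
    · rintro _ ⟨x, hx, rfl⟩
      rw [← map_mul, ← map_mul]
      congr 1
      exact Subtype.ext (htc _ hx)
  · exfalso
    have h2 := T.spor K (.hs, 44352000) (by decide) h
    rw [h2] at hcard
    rcases he with rfl | rfl
    · rcases hidx' with h | h | h | h | h <;> omega
    · rcases hidx' with h | h | h | h | h <;> omega

/-- **`A₈`** -/
theorem end_one (T : OrderTable.{u}) (L : Loc 1 D y z) {K : Subgroup G} [hK : K.Normal] (hDK : D ≤ K)
    (hsim : IsSimpleGroup K) (hna : ¬ ∀ a b : K, a * b = b * a) (hk : IsKnownSimple' K) :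
    Nonempty (G ≃* ↥(alternatingGroup (Fin 8))) := by
  obtain ⟨⟨f⟩, h1⟩ := L.elim T (fun h => absurd h (by norm_num)) hDK hsim hna hk
  have h2 : K = ⊤ := Subgroup.index_eq_one.1 h1
  subst h2
  exact ⟨Subgroup.topEquiv.symm.trans f⟩

/-- **`S₈`** -/
theorem end_two (T : OrderTable.{u}) (L : Loc 2 D y z)
    (ht : ∃ t : G, orderOf t = 2 ∧ ∀ a ∈ D, a * t = t * a) {K : Subgroup G} [hK : K.Normal] (hDK : D ≤ K)
    (hsim : IsSimpleGroup K) (hna : ¬ ∀ a b : K, a * b = b * a) (hk : IsKnownSimple' K)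
    (hC : centralizer (K : Set G) = ⊥) :
    Nonempty (G ≃* Equiv.Perm (Fin 8)) := by
  obtain ⟨⟨f⟩, h1⟩ := L.elim T (fun _ => ht) hDK hsim hna hk
  have h2 : Nonempty (G ≃* alternatingGroup (Fin (6 + 2))) ∨ Nonempty (G ≃* Equiv.Perm (Fin (6 + 2))) := by
    refine H497.AltId.ident (m := 6) (by norm_num) f hC ?_
    intro x
    obtain ⟨σ, hσ⟩ := Cfsg.Agent.StandardComponent.AltAut.exists_conj (m := 6) (by norm_num)
      (MulAut.congr f (MulAut.conjNormal x))
    refine ⟨σ, fun k => ?_⟩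
    rw [← hσ]
    change _ = ((f (MulAut.conjNormal x (f.symm (f k))) : alternatingGroup (Fin 8)) : Equiv.Perm (Fin 8))
    rw [f.symm_apply_apply]
  rcases h2 with ⟨⟨g⟩⟩ | h2
  · exfalso
    have h3 : Nat.card G = Nat.card K := Nat.card_congr (g.trans f.symm).toEquiv
    have h4 := K.index_mul_card
    rw [h1, ← h3] at h4
    have : 0 < Nat.card G := Nat.card_pos
    omega
  · exact h2

end Loc

/-! ### the statements -/

section statements

open Loc

theorem s5_pow : ∀ b : Equiv.Perm (Fin 5), b ^ 12 = 1 ∨ b ^ 15 = 1 := by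
  decide +kernel

theorem card_mz (n : ℕ) : Nat.card (Multiplicative (ZMod n)) = n := Nat.card_zmod n

theorem z3_pow : ∀ a : Multiplicative (ZMod 3), a ^ 3 = 1 := by
  decide

variable {G : Type u} [Group G] [Finite G]

theorem ne_one_of_closure {D : Subgroup G} {y z : G} (hgen : closure {y, z} = D) (hcard : Nat.card D = 9)
    (hexp : ∀ a ∈ D, a ^ 3 = 1) : y ∈ D ∧ z ∈ D ∧ y ≠ 1 ∧ z ≠ 1 := by
  have hy : y ∈ D := by rw [← hgen]; exact subset_closure (Set.mem_insert _ _)
  have hz : z ∈ D := by rw [← hgen]; exact subset_closure (Set.mem_insert_of_mem _ rfl)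
  refine ⟨hy, hz, ?_, ?_⟩
  · rintro rfl
    rw [closure_insert_one, ← zpowers_eq_closure] at hgen
    rw [← hgen, Nat.card_zpowers] at hcard
    have h1 := orderOf_dvd_of_pow_eq_one (hexp z hz)
    rw [hcard] at h1
    omega
  · rintro rfl
    rw [Set.pair_comm, closure_insert_one, ← zpowers_eq_closure] at hgen
    rw [← hgen, Nat.card_zpowers] at hcard
    have h1 := orderOf_dvd_of_pow_eq_one (hexp y hy)
    rw [hcard] at h1
    omega

theorem loc29 (P : Sylow 3 G) (D : Subgroup G) (hDP : D = P) (y z : G) (hgen : Subgroup.closure {y, z} = D)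
    (hcomm : IsMulCommutative D) (hcard : Nat.card D = 9) (hexp : ∀ a ∈ D, a ^ 3 = 1)
    (eN : Subgroup.normalizer (D : Set G) ⧸ D.subgroupOf (Subgroup.normalizer (D : Set G)) ≃* DihedralGroup 4)
    (hyn : (D.subgroupOf (Subgroup.centralizer ({y} : Set G))).Normal)
    (hycard : Nat.card (Subgroup.centralizer ({y} : Set G)) = 18)
    (eC : Subgroup.centralizer ({z} : Set G) ≃* Multiplicative (ZMod 3) × alternatingGroup (Fin 5)) :
    Loc 1 D y z := by
  obtain ⟨hy, hz, hy1, hz1⟩ := ne_one_of_closure hgen hcard hexp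
  have hc : ∀ a ∈ D, ∀ b ∈ D, a * b = b * a := fun a ha b hb =>
    congrArg Subtype.val (hcomm.is_comm.comm (⟨a, ha⟩ : D) ⟨b, hb⟩)
  have hDy : D ≤ centralizer ({y} : Set G) := fun a ha => mem_centralizer_singleton_iff.2 (hc a ha y hy)
  refine ⟨Or.inl rfl, ⟨P, hDP.symm⟩, hcard, hc, hexp, hy, hz, hy1, hz1, ?_, ?_, ?_, ?_, ?_, ?_⟩
  · have h1 := card_eq_card_quotient_mul_card_subgroup (D.subgroupOf (normalizer (D : Set G)))
    rw [Nat.card_congr eN.toEquiv, Nat.card_congr (subgroupOfEquivOfLe (le_normalizer (H := D))).toEquiv, hcard,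
      DihedralGroup.nat_card] at h1
    omega
  · rw [hycard]
  · exact (normal_subgroupOf_iff_le_normalizer hDy).1 hyn
  · intro h hh
    have hm : h ∈ centralizer ({y} : Set G) := mem_centralizer_singleton_iff.2 hh.symm
    have h1 : (D.subgroupOf (centralizer ({y} : Set G))).index = 2 := by
      have h2 := relIndex_card hDy
      rw [hycard, hcard] at h2
      change D.relIndex (centralizer ({y} : Set G)) = 2
      omega
    have h2 := (D.subgroupOf (centralizer ({y} : Set G))).pow_index_mem ⟨h, hm⟩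
    rw [h1] at h2
    have h3 : h ^ 2 ∈ D := h2
    left
    rw [show 12 = 2 * 3 * 2 by norm_num, pow_mul, pow_mul, hexp _ h3, one_pow]
  · rw [Nat.card_congr eC.toEquiv, Nat.card_prod, nat_card_alternatingGroup, Nat.card_eq_fintype_card,
      Nat.card_eq_fintype_card, Fintype.card_fin, Fintype.card_multiplicative, ZMod.card]
    rfl
  · intro h hh
    have hm : h ∈ centralizer ({z} : Set G) := mem_centralizer_singleton_iff.2 hh.symm
    have h1 : ∀ n : ℕ, (eC ⟨h, hm⟩) ^ n = 1 → h ^ n = 1 := by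
      intro n hn
      rw [← map_pow, EmbeddingLike.map_eq_one_iff] at hn
      exact congrArg Subtype.val hn
    rcases s5_pow (eC ⟨h, hm⟩).2 with h2 | h2
    · left
      apply h1
      refine Prod.ext ?_ (Subtype.ext h2)
      rw [Prod.pow_fst, show 12 = 3 * 4 by norm_num, pow_mul, z3_pow, one_pow]
      rfl
    · right
      apply h1
      refine Prod.ext ?_ (Subtype.ext h2)
      rw [Prod.pow_fst, show 15 = 3 * 5 by norm_num, pow_mul, z3_pow, one_pow]
      rfl

theorem loc30 (P : Sylow 3 G) (D : Subgroup G) (hDP : D = P) (y z : G) (hgen : Subgroup.closure {y, z} = D)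
    (hcomm : IsMulCommutative D) (hcard : Nat.card D = 9) (hexp : ∀ a ∈ D, a ^ 3 = 1)
    (eN : Subgroup.normalizer (D : Set G) ⧸ D.subgroupOf (Subgroup.normalizer (D : Set G)) ≃*
      DihedralGroup 4 × Multiplicative (ZMod 2))
    (hyn : (D.subgroupOf (Subgroup.centralizer ({y} : Set G))).Normal)
    (hycard : Nat.card (Subgroup.centralizer ({y} : Set G)) = 36)
    (hysq : ∀ g ∈ Subgroup.centralizer ({y} : Set G), g ^ 2 ∈ D)
    (eC : Subgroup.centralizer ({z} : Set G) ≃* Multiplicative (ZMod 3) × Equiv.Perm (Fin 5)) :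
    Loc 2 D y z := by
  obtain ⟨hy, hz, hy1, hz1⟩ := ne_one_of_closure hgen hcard hexp
  have hc : ∀ a ∈ D, ∀ b ∈ D, a * b = b * a := fun a ha b hb =>
    congrArg Subtype.val (hcomm.is_comm.comm (⟨a, ha⟩ : D) ⟨b, hb⟩)
  have hDy : D ≤ centralizer ({y} : Set G) := fun a ha => mem_centralizer_singleton_iff.2 (hc a ha y hy)
  refine ⟨Or.inr rfl, ⟨P, hDP.symm⟩, hcard, hc, hexp, hy, hz, hy1, hz1, ?_, ?_, ?_, ?_, ?_, ?_⟩
  · have h1 := card_eq_card_quotient_mul_card_subgroup (D.subgroupOf (normalizer (D : Set G)))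
    rw [Nat.card_congr eN.toEquiv, Nat.card_congr (subgroupOfEquivOfLe (le_normalizer (H := D))).toEquiv, hcard,
      Nat.card_prod, DihedralGroup.nat_card, card_mz] at h1
    omega
  · rw [hycard]
  · exact (normal_subgroupOf_iff_le_normalizer hDy).1 hyn
  · intro h hh
    have hm : h ∈ centralizer ({y} : Set G) := mem_centralizer_singleton_iff.2 hh.symm
    left
    rw [show 12 = 2 * 3 * 2 by norm_num, pow_mul, pow_mul, hexp _ (hysq h hm), one_pow]
  · rw [Nat.card_congr eC.toEquiv, Nat.card_prod, Nat.card_perm, Nat.card_eq_fintype_card,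
      Nat.card_eq_fintype_card, Fintype.card_fin, Fintype.card_multiplicative, ZMod.card]
    rfl
  · intro h hh
    have hm : h ∈ centralizer ({z} : Set G) := mem_centralizer_singleton_iff.2 hh.symm
    have h1 : ∀ n : ℕ, (eC ⟨h, hm⟩) ^ n = 1 → h ^ n = 1 := by
      intro n hn
      rw [← map_pow, EmbeddingLike.map_eq_one_iff] at hn
      exact congrArg Subtype.val hn
    rcases s5_pow (eC ⟨h, hm⟩).2 with h2 | h2
    · left
      apply h1
      refine Prod.ext ?_ h2
      rw [Prod.pow_fst, show 12 = 3 * 4 by norm_num, pow_mul, z3_pow, one_pow]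
      rfl
    · right
      apply h1
      refine Prod.ext ?_ h2
      rw [Prod.pow_fst, show 15 = 3 * 5 by norm_num, pow_mul, z3_pow, one_pow]
      rfl

theorem exists_t (D : Subgroup G) (hcard : Nat.card (centralizer (D : Set G)) = 18) :
    ∃ t : G, orderOf t = 2 ∧ ∀ a ∈ D, a * t = t * a := by
  have : Fact (Nat.Prime 2) := ⟨Nat.prime_two⟩
  obtain ⟨⟨t, ht⟩, ht2⟩ := exists_prime_orderOf_dvd_card' (G := centralizer (D : Set G)) 2 (by rw [hcard]; norm_num)
  rw [Subgroup.orderOf_mk] at ht2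
  exact ⟨t, ht2, fun a ha => mem_centralizer_iff.1 ht a ha⟩

end statements

end Cfsg.Agent.H341.EndEight
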