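import Cfsg.Agent.H341.T3Base

/-!
# The rows S3337 and S3368: alternating groups (helper341)
-/

set_option autoImplicit false

namespace Cfsg.Agent.H341.T3

open Cfsg Subgroup H349.T3

/-- the centralizer of a three-cycle in the alternating group -/
theorem card_cent_three {n : ℕ} (hn : 5 ≤ n) : ∃ y : alternatingGroup (Fin n), orderOf y = 3 ∧
    3 * (n - 3).factorial ∣ 2 * Nat.card (centralizer ({y} : Set (alternatingGroup (Fin n)))) := by
  have : Nontrivial (Fin n) := Fin.nontrivial_iff_two_le.2 (by omega)
  let a : Fin n := ⟨0, by omega⟩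
  let b : Fin n := ⟨1, by omega⟩
  let c : Fin n := ⟨2, by omega⟩
  have hg : (Equiv.swap a b * Equiv.swap a c).IsThreeCycle :=
    Equiv.Perm.isThreeCycle_swap_mul_swap_same (by simp [a, b]) (by simp [a, c]) (by simp [b, c])
  set g := Equiv.swap a b * Equiv.swap a c with hgd
  have hmem : g ∈ alternatingGroup (Fin n) := by
    rw [Equiv.Perm.mem_alternatingGroup]
    exact hg.sign
  refine ⟨⟨g, hmem⟩, ?_, ?_⟩
  · rw [Subgroup.orderOf_mk]
    exact hg.orderOf
  · have h1 : Nat.card (centralizer ({g} : Set (Equiv.Perm (Fin n)))) = 3 * (n - 3).factorial := by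
      rw [Equiv.Perm.nat_card_centralizer, hg.cycleType]
      simp [mul_comm]
    rw [← h1]
    -- restrict the sign to the centralizer
    let s : centralizer ({g} : Set (Equiv.Perm (Fin n))) →* ℤˣ :=
      Equiv.Perm.sign.comp (centralizer ({g} : Set (Equiv.Perm (Fin n)))).subtype
    have h2 := card_mul_index s.ker
    rw [index_ker] at h2
    have h3 : Nat.card s.range ∣ 2 := by
      have := card_subgroup_dvd_card s.range
      rwa [Nat.card_eq_fintype_card (α := ℤˣ), Fintype.card_units_int] at this
    have h4 : Nat.card s.ker = Nat.card (centralizer ({(⟨g, hmem⟩ : alternatingGroup (Fin n))} :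
        Set (alternatingGroup (Fin n)))) := by
      refine Nat.card_congr ⟨fun x => ⟨⟨x.1.1, ?_⟩, ?_⟩, fun x => ⟨⟨x.1.1, ?_⟩, ?_⟩, fun x => rfl, fun x => rfl⟩
      · rw [Equiv.Perm.mem_alternatingGroup]
        exact x.2
      · rw [mem_centralizer_singleton_iff]
        exact Subtype.ext (mem_centralizer_singleton_iff.1 x.1.2)
      · rw [mem_centralizer_singleton_iff]
        exact congrArg Subtype.val (mem_centralizer_singleton_iff.1 x.2)
      · exact Equiv.Perm.mem_alternatingGroup.1 x.1.2
    rw [← h2, h4, mul_comm]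
    exact Nat.mul_dvd_mul_right h3 _

theorem alt_false {n k d m : ℕ} (hn : 5 ≤ n) {z : alternatingGroup (Fin n)} (h : Cand z k d m) : False := by
  have : Nontrivial (Fin n) := Fin.nontrivial_iff_two_le.2 (by omega)
  have hc : 2 * Nat.card (alternatingGroup (Fin n)) = n.factorial := by
    rw [two_mul_nat_card_alternatingGroup, Nat.card_perm, Nat.card_eq_fintype_card, Fintype.card_fin]
  have hcop : ∀ k c : ℕ, 3 ^ k ∣ 2 * c → 3 ^ k ∣ c := fun k c hk =>
    (Nat.Coprime.pow_left k (by norm_num : Nat.Coprime 3 2)).dvd_of_dvd_mul_left hk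
  have h1 : 21 ≤ n := by
    by_contra hcon
    have h2 : 3 ^ 9 ∣ Nat.factorial 20 :=
      (((pow_dvd_pow 3 h.kl).trans h.dvd).mul_left 2).trans (hc ▸ Nat.factorial_dvd_factorial (by omega))
    revert h2
    decide
  have h2 : n ≤ 26 := by
    by_contra hcon
    apply n12 h
    apply hcop
    rw [hc]
    refine dvd_trans ?_ (Nat.factorial_dvd_factorial (show 27 ≤ n by omega))
    decide
  obtain ⟨y, hy, hd⟩ := card_cent_three hn
  refine false_of h hy (r := 5) (by norm_num) (by norm_num) (by norm_num) ?_ ?_
  · apply hcop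
    refine dvd_trans ?_ hd
    have h3 : 3 ^ k ∣ n.factorial := by
      rw [← hc]
      exact h.dvd.mul_left 2
    -- cancel the factor prime to three
    have key : ∀ c : ℕ, Nat.Coprime 3 c → n.factorial = c * (3 * (n - 3).factorial) → 3 ^ k ∣ 3 * (n - 3).factorial := by
      intro c hc1 hc2
      rw [hc2] at h3
      exact (hc1.pow_left k).dvd_of_dvd_mul_left h3
    clear hd h3 hc y hy h
    interval_cases n
    · exact key (7 * 20 * 19) (by decide) (by decide)
    · exact key (22 * 7 * 20) (by decide) (by decide)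
    · exact key (23 * 22 * 7) (by decide) (by decide)
    · exact key (8 * 23 * 22) (by decide) (by decide)
    · exact key (25 * 8 * 23) (by decide) (by decide)
    · exact key (26 * 25 * 8) (by decide) (by decide)
  · have h5 : 5 ∣ 2 * Nat.card (centralizer ({y} : Set (alternatingGroup (Fin n)))) := by
      refine dvd_trans (Dvd.dvd.mul_left ?_ 3) hd
      exact (Nat.Prime.dvd_factorial (by norm_num)).2 (by omega)
    exact (by norm_num : Nat.Coprime 5 2).dvd_of_dvd_mul_left h5

end Cfsg.Agent.H341.T3
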