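import Cfsg.Agent.H341.T3Base

/-!
# The rows S3337 and S3368: classical groups in cross characteristic (helper341)
-/

set_option autoImplicit false

namespace Cfsg.Agent.H341.T3

open Cfsg Subgroup H349.T3 H128.Cross3 H128.Val3 H128.AbelianClassical H128.ClassicalAb H128.WeightsFix
  H341.ThreeList

variable {F : Type} [Field F] [Fintype F] {k d m' : ℕ}

theorem psl_cross {n : ℕ} (hn : 2 ≤ n) (hq : ¬ 3 ∣ Fintype.card F)
    {z : Matrix.ProjectiveSpecialLinearGroup (Fin n) F} (h : Cand z k d m')
    (h9 : n = 9 → Fintype.card F % 3 = 1 → False) : False := by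
  have : Fact (Nat.Prime 3) := ⟨Nat.prime_three⟩
  have hfin : Finite (Matrix.SpecialLinearGroup (Fin n) F) := finite_sl n
  have hq12 : Fintype.card F % 3 = 1 ∨ Fintype.card F % 3 = 2 := by omega
  rcases hq12 with hq12 | hq12
  · have hN := nine h (hasAb_psl (three_ne_zero' hq) n)
    have hn9 : n ≠ 9 := fun hn9 => h9 hn9 hq12
    have hv := four_le_vf (show 9 ≤ n by omega)
    apply n12 h
    by_cases h10 : n = 10
    · exact (pow_dvd_pow 3 (by omega)).trans (psl_val_one' hn hq12 (by omega))
    · exact (pow_dvd_pow 3 (by omega)).trans (psl_val_one hn hq12)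
  · have hN := nine h (hasAb_psl_half (by norm_num) (three_ne_zero' hq) (by omega) n)
    have hv := four_le_vf hN
    exact n12 h ((pow_dvd_pow 3 (by omega)).trans (psl_val_two hn hq12))

theorem psu_cross {n q : ℕ} (hF : Fintype.card F = q ^ 2) (hn : 2 ≤ n) (hq : ¬ 3 ∣ q) {z : PSU n F q}
    (h : Cand z k d m') (h9 : n = 9 → q % 3 = 2 → False) : False := by
  have : Fact (Nat.Prime 3) := ⟨Nat.prime_three⟩
  have hfin : Finite (Matrix.SpecialLinearGroup (Fin n) F) := finite_sl n
  have hF3 : ¬ 3 ∣ Fintype.card F := by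
    rw [hF]
    exact fun h => hq (Nat.prime_three.dvd_of_dvd_pow h)
  have hq12 : q % 3 = 1 ∨ q % 3 = 2 := by omega
  rcases hq12 with hq12 | hq12
  · have hN := nine h (hasAb_psu_half (by norm_num) (three_ne_zero' hF3) hF (by omega) n)
    have hv := four_le_vf hN
    exact n12 h ((pow_dvd_pow 3 (by omega)).trans (psu_val_one hF hn hq12))
  · have hN := nine h (hasAb_psu (three_ne_zero' hF3) n q)
    have hn9 : n ≠ 9 := fun hn9 => h9 hn9 hq12
    have hv := four_le_vf (show 9 ≤ n by omega)
    apply n12 h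
    by_cases h10 : n = 10
    · exact (pow_dvd_pow 3 (by omega)).trans (psu_val_two' hF hn hq12 (by omega))
    · exact (pow_dvd_pow 3 (by omega)).trans (psu_val_two hF hn hq12)

theorem psp_cross {m : ℕ} (hm : 1 ≤ m) (hq : ¬ 3 ∣ Fintype.card F) {z : PSp m F} (h : Cand z k d m') : False := by
  have : Fact (Nat.Prime 3) := ⟨Nat.prime_three⟩
  have hfin : Finite (Matrix.symplecticGroup (Fin m) F) :=
    Finite.of_injective (fun x => (x : Matrix (Fin m ⊕ Fin m) (Fin m ⊕ Fin m) F)) Subtype.val_injective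
  have hN := nine h (hasAb_psp (by norm_num) (three_ne_zero' hq) m)
  have hv := four_le_vf hN
  exact n12 h ((pow_dvd_pow 3 (by omega)).trans (psp_val hm hq))

theorem oodd_cross {m : ℕ} (hm : 3 ≤ m) (ho : Odd (Fintype.card F)) (hq : ¬ 3 ∣ Fintype.card F)
    {z : POmega F (quadFormOdd m F)} (h : Cand z k d m') : False := by
  have : Fact (Nat.Prime 3) := ⟨Nat.prime_three⟩
  have hfin := finite_pomega (quadFormOdd m F)
  have hN := nine h (hasAb_oodd (by norm_num) (three_ne_zero' hq) ho m)
  have hv := four_le_vf hN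
  exact n12 h ((pow_dvd_pow 3 (by omega)).trans (oodd_val hm ho hq))

/-! ### orthogonal groups in even dimension -/

/-- the number of vectors of norm one of the form of plus type is prime to `3` -/
theorem card_plus_one (hq : Fintype.card F % 3 = 2) :
    ¬ 3 ∣ Nat.card {v : Fin 9 ⊕ Fin 9 → F // quadFormPlus 9 F v = 1} := by
  classical
  intro h
  have h1 := LieClassical.QuadCount.card_plus (F := F) 9 1
  rw [if_neg one_ne_zero, add_zero] at h1
  have h2 : (Fintype.card F * Nat.card {v : Fin 9 ⊕ Fin 9 → F // quadFormPlus 9 F v = 1} + Fintype.card F ^ 9) % 3 =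
      (Fintype.card F ^ (2 * 9)) % 3 := by rw [h1]
  rw [Nat.add_mod, Nat.mul_mod, Nat.mod_eq_zero_of_dvd h, Nat.pow_mod, Nat.pow_mod (Fintype.card F) (2 * 9), hq] at h2
  norm_num at h2

theorem hasAb_oplus' (hq : Fintype.card F % 3 = 2) : HasAb 3 (POmega F (quadFormPlus 9 F)) 8 := by
  have : Fact (Nat.Prime 3) := ⟨Nat.prime_three⟩
  let B : (Fin 9 ⊕ Fin 9 → F) →ₗ[F] (Fin 9 ⊕ Fin 9 → F) →ₗ[F] F :=
    LinearMap.mk₂ F (fun u v => ∑ i, (u (.inl i) * v (.inr i) + v (.inl i) * u (.inr i)))
      (fun u u' v => by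
        rw [← Finset.sum_add_distrib]
        exact Finset.sum_congr rfl fun i _ => by simp only [Pi.add_apply]; ring)
      (fun c u v => by
        rw [smul_eq_mul, Finset.mul_sum]
        exact Finset.sum_congr rfl fun i _ => by simp only [Pi.smul_apply, smul_eq_mul]; ring)
      (fun u v v' => by
        rw [← Finset.sum_add_distrib]
        exact Finset.sum_congr rfl fun i _ => by simp only [Pi.add_apply]; ring)
      (fun c u v => by
        rw [smul_eq_mul, Finset.mul_sum]
        exact Finset.sum_congr rfl fun i _ => by simp only [Pi.smul_apply, smul_eq_mul]; ring)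
  have hBe : ∀ u v, B u v = ∑ i, (u (.inl i) * v (.inr i) + v (.inl i) * u (.inr i)) := fun u v => rfl
  refine hasAb_quad_fix (by norm_num) (three_ne_zero' (by omega)) (quadFormPlus 9 F) ?_ B ?_ ?_ (card_plus_one hq) ?_
  · simp [quadFormPlus]
  · intro u v
    rw [hBe]
    simp only [quadFormPlus]
    rw [← Finset.sum_add_distrib, ← Finset.sum_add_distrib]
    exact Finset.sum_congr rfl fun i _ => by simp only [Pi.add_apply]; ring
  · intro w h
    funext j
    rcases j with j | j
    · have h1 := h (Pi.single (.inr j) 1)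
      rw [hBe] at h1
      simpa [Pi.single_apply] using h1
    · have h1 := h (Pi.single (.inl j) 1)
      rw [hBe] at h1
      simpa [Pi.single_apply] using h1
  · rw [Fintype.card_sum, Fintype.card_fin]

theorem vf_eight : vf 8 = 2 := by
  rw [vf]
  have h1 : Nat.factorial 8 = 3 ^ 2 * 4480 := by decide
  rw [h1]
  rw [Nat.factorization_mul (by norm_num) (by norm_num), Finsupp.add_apply, Nat.Prime.factorization_pow Nat.prime_three,
    Finsupp.single_eq_same, Nat.factorization_eq_zero_of_not_dvd (by norm_num)]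

theorem oplus_cross {m : ℕ} (hm : 4 ≤ m) (hq : ¬ 3 ∣ Fintype.card F) {z : POmega F (quadFormPlus m F)}
    (h : Cand z k d m') : False := by
  have : Fact (Nat.Prime 3) := ⟨Nat.prime_three⟩
  have hfin := finite_pomega (quadFormPlus m F)
  have hN := nine h (hasAb_oplus (by norm_num) (three_ne_zero' hq) m)
  by_cases h9 : m = 9
  · subst h9
    have hq12 : Fintype.card F % 3 = 1 ∨ Fintype.card F % 3 = 2 := by omega
    rcases hq12 with hq12 | hq12
    · apply n12 h
      refine of_mul' not_dvd_gcd_four (S0293.result (F := F) rfl 9 hm) ?_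
      rw [mul_assoc]
      apply Dvd.dvd.mul_left
      have h1 : 3 ^ 3 ∣ Fintype.card F ^ 9 - 1 := by
        have := nat_dvd (q := Fintype.card F) (by omega) (by omega) 2 1
        simpa using this
      have h2 := prod_b' hq 8
      rw [vf_eight] at h2
      rw [show (3 : ℕ) ^ 12 = 3 ^ 3 * 3 ^ 9 by norm_num]
      exact mul_dvd_mul h1 ((pow_dvd_pow 3 (by norm_num)).trans h2)
    · have := nine h (hasAb_oplus' hq12)
      omega
  · have hv := four_le_vf (show 9 ≤ m - 1 by omega)
    exact n12 h ((pow_dvd_pow 3 (by omega)).trans (oplus_val hm hq))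

theorem ominus_cross {m : ℕ} (hm : 4 ≤ m) {a b : F}
    (hab : ∀ z₁ z₂ : F, z₁ ^ 2 + a * z₁ * z₂ + b * z₂ ^ 2 = 0 → z₁ = 0 ∧ z₂ = 0) (hq : ¬ 3 ∣ Fintype.card F)
    {z : POmega F (quadFormMinus (m - 1) F a b)} (h : Cand z k d m') : False := by
  have : Fact (Nat.Prime 3) := ⟨Nat.prime_three⟩
  have hfin := finite_pomega (quadFormMinus (m - 1) F a b)
  have hN := nine h (hasAb_ominus (by norm_num) (three_ne_zero' hq) (m - 1) a b hab)
  by_cases h9 : m = 9
  · subst h9
    have hq12 : Fintype.card F % 3 = 1 ∨ Fintype.card F % 3 = 2 := by omega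
    rcases hq12 with hq12 | hq12
    · have := nine h (hasAb_ominus' (by norm_num) (three_ne_zero' hq) 8 a b hab (by
        intro h1
        have h2 : (Fintype.card F ^ (8 + 1) + 1) % 3 = 0 := Nat.mod_eq_zero_of_dvd h1
        rw [Nat.add_mod, Nat.pow_mod, hq12] at h2
        norm_num at h2))
      omega
    · apply n12 h
      refine of_mul' not_dvd_gcd_four (S0294.result (F := F) rfl 9 hm a b hab) ?_
      rw [mul_assoc]
      apply Dvd.dvd.mul_left
      have h1 : 3 ^ 3 ∣ Fintype.card F ^ 9 + 1 := by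
        have := nat_dvd_neg (q := Fintype.card F) hq12 2 1
        rw [if_neg (by decide)] at this
        simpa using this
      have h2 := prod_b' hq 8
      rw [vf_eight] at h2
      rw [show (3 : ℕ) ^ 12 = 3 ^ 3 * 3 ^ 9 by norm_num]
      exact mul_dvd_mul h1 ((pow_dvd_pow 3 (by norm_num)).trans h2)
  · have hv := four_le_vf (show 9 ≤ m - 1 by omega)
    exact n12 h ((pow_dvd_pow 3 (by omega)).trans (ominus_val hm hab hq))

end Cfsg.Agent.H341.T3
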