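import Cfsg.Agent.H341.T3Odd
import Cfsg.Agent.H341.T3Cross
import Cfsg.Agent.H341.T3Alt

/-!
# The rows S3337 and S3368: the alternating and the classical groups (helper341)

`classical_false`: `E = F*(G)` is not an alternating or a classical group, given that it is not `PSL₉(q)`,
`q ≡ 1 mod 3`, or `PSU₉(q)`, `q ≡ 2 mod 3`. The exceptional groups in characteristic three: `T3Exc`.
-/

set_option autoImplicit false

namespace Cfsg.Agent.H341.T3

open Cfsg Subgroup H349.T3

variable {E : Type*} [Group E] {z : E} {k d m : ℕ}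

theorem not_alt (h : Cand z k d m) : ¬ IsAlternating E := by
  rintro ⟨n, hn, ⟨e⟩⟩
  exact alt_false hn (congr h e)

theorem not_psl (h : Cand z k d m)
    (hL9 : ∀ (F : Type) [Field F] [Fintype F], Fintype.card F % 3 = 1 →
      Nonempty (E ≃* Matrix.ProjectiveSpecialLinearGroup (Fin 9) F) → False) : ¬ IsPSL E := by
  rintro ⟨F, _, _, n, hn, -, ⟨e⟩⟩
  by_cases h3 : 3 ∣ Fintype.card F
  · exact psl_three hn h3 (congr h e)
  · refine psl_cross hn h3 (congr h e) ?_
    rintro rfl h1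
    exact hL9 F h1 ⟨e⟩

theorem not_psp (h : Cand z k d m) : ¬ IsPSp E := by
  rintro ⟨F, _, _, n, hn, -, ⟨e⟩⟩
  by_cases h3 : 3 ∣ Fintype.card F
  · exact psp_three hn h3 (congr h e)
  · exact psp_cross (by omega) h3 (congr h e)

theorem not_psu (h : Cand z k d m)
    (hU9 : ∀ (F : Type) [Field F] [Fintype F] (q : ℕ), Fintype.card F = q ^ 2 → q % 3 = 2 →
      Nonempty (E ≃* PSU 9 F q) → False) : ¬ IsPSU E := by
  rintro ⟨F, _, _, n, q, hF, hn, -, ⟨e⟩⟩
  by_cases h3 : 3 ∣ q
  · exact psu_three hF hn h3 (congr h e)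
  · refine psu_cross hF (by omega) h3 (congr h e) ?_
    rintro rfl h1
    exact hU9 F q hF h1 ⟨e⟩

theorem not_oodd (h : Cand z k d m) : ¬ IsPOmegaOdd E := by
  rintro ⟨F, _, _, n, hn, ho, ⟨e⟩⟩
  by_cases h3 : 3 ∣ Fintype.card F
  · exact oodd_three hn ho h3 (congr h e)
  · exact oodd_cross hn ho h3 (congr h e)

theorem not_oplus (h : Cand z k d m) : ¬ IsPOmegaPlus E := by
  rintro ⟨F, _, _, n, hn, ⟨e⟩⟩
  by_cases h3 : 3 ∣ Fintype.card F
  · exact oplus_three hn h3 (congr h e)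
  · exact oplus_cross hn h3 (congr h e)

theorem not_ominus (h : Cand z k d m) : ¬ IsPOmegaMinus E := by
  rintro ⟨F, _, _, n, a, b, hn, hab, ⟨e⟩⟩
  by_cases h3 : 3 ∣ Fintype.card F
  · exact ominus_three hn hab h3 (congr h e)
  · exact ominus_cross hn hab h3 (congr h e)

/-- **The alternating and the classical groups.** -/
theorem classical_false (h : Cand z k d m)
    (hL9 : ∀ (F : Type) [Field F] [Fintype F], Fintype.card F % 3 = 1 →
      Nonempty (E ≃* Matrix.ProjectiveSpecialLinearGroup (Fin 9) F) → False)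
    (hU9 : ∀ (F : Type) [Field F] [Fintype F] (q : ℕ), Fintype.card F = q ^ 2 → q % 3 = 2 →
      Nonempty (E ≃* PSU 9 F q) → False) :
    ¬ (IsAlternating E ∨ IsPSL E ∨ IsPSp E ∨ IsPSU E ∨ IsPOmegaOdd E ∨ IsPOmegaPlus E ∨ IsPOmegaMinus E) := by
  rintro (h1 | h1 | h1 | h1 | h1 | h1 | h1)
  · exact not_alt h h1
  · exact not_psl h hL9 h1
  · exact not_psp h h1
  · exact not_psu h hU9 h1
  · exact not_oodd h h1
  · exact not_oplus h h1
  · exact not_ominus h h1

end Cfsg.Agent.H341.T3
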