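import Cfsg.Agent.H349.T3.ElimDef
import Cfsg.Agent.H128.Val3
import Cfsg.Agent.H128.Char3
import Cfsg.Agent.H128.WeightsFix

/-!
# The rows S3337 and S3368: elimination of the classical groups, generalities (helper341)
-/

set_option autoImplicit false

namespace Cfsg.Agent.H341.T3

open Cfsg Subgroup H349.T3 H128.Cross3 H128.Val3 H128.AbelianClassical H128.ClassicalAb H341.ThreeList

/-! ### transport -/

theorem map_centralizer_singleton {E M : Type*} [Group E] [Group M] (e : E ≃* M) (x : E) :
    (centralizer ({x} : Set E)).map e.toMonoidHom = centralizer ({e x} : Set M) := by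
  ext y
  rw [mem_map, mem_centralizer_singleton_iff]
  constructor
  · rintro ⟨a, ha, rfl⟩
    change e a * e x = e x * e a
    rw [← map_mul, ← map_mul, mem_centralizer_singleton_iff.1 ha]
  · intro h
    refine ⟨e.symm y, ?_, e.apply_symm_apply y⟩
    rw [mem_centralizer_singleton_iff]
    apply e.injective
    rw [map_mul, map_mul, e.apply_symm_apply]
    exact h

theorem card_centralizer_congr {E M : Type*} [Group E] [Group M] (e : E ≃* M) (x : E) :
    Nat.card (centralizer ({e x} : Set M)) = Nat.card (centralizer ({x} : Set E)) := by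
  rw [← map_centralizer_singleton, card_map_of_injective e.injective]

theorem card_mulAut_congr {E M : Type*} [Group E] [Group M] (e : E ≃* M) :
    Nat.card (MulAut E) = Nat.card (MulAut M) := Nat.card_congr (MulAut.congr e).toEquiv

theorem congr {E M : Type*} [Group E] [Group M] {z : E} {k d m : ℕ} (h : Cand z k d m) (e : E ≃* M) :
    Cand (e z) k d m where
  kl := h.kl
  ku := h.ku
  dvd := by rw [← Nat.card_congr e.toEquiv]; exact h.dvd
  ndvd := by rw [← Nat.card_congr e.toEquiv]; exact h.ndvd
  oz := by rw [MulEquiv.orderOf_eq]; exact h.oz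
  cz := by rw [card_centralizer_congr]; exact h.cz
  c23 := by rw [card_centralizer_congr]; exact h.c23
  ab := by
    intro A hA hc
    have h1 := h.ab (A.map e.symm.toMonoidHom) (hA.map _) (by
      rintro _ ⟨a, ha, rfl⟩ _ ⟨b, hb, rfl⟩
      rw [← map_mul, ← map_mul, hc a ha b hb])
    rwa [card_map_of_injective e.symm.injective] at h1
  uniq := by
    intro y hy hc
    have h1 := h.uniq (e.symm y) (by rw [MulEquiv.orderOf_eq]; exact hy) (by
      rw [card_centralizer_congr]; exact hc)
    rcases h1 with h1 | h1
    · left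
      have h2 := MonoidHom.map_isConj e.toMonoidHom h1
      change IsConj (e (e.symm y)) (e z) at h2
      rwa [e.apply_symm_apply] at h2
    · right
      have h2 := MonoidHom.map_isConj e.toMonoidHom h1
      change IsConj (e (e.symm y)) (e z⁻¹) at h2
      rwa [e.apply_symm_apply, map_inv] at h2
  out := by rw [← Nat.card_congr e.toEquiv, ← card_mulAut_congr e]; exact h.out
  m7 := h.m7
  two := by rw [card_centralizer_congr]; exact h.two
  inv := by
    intro hd
    obtain ⟨t, ht, W, hW, hc, h3, hA⟩ := h.inv hd
    refine ⟨e t, by rw [MulEquiv.orderOf_eq]; exact ht, W.map e.toMonoidHom, ?_, ?_, ?_, ?_⟩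
    · rw [← map_centralizer_singleton]
      exact map_mono hW
    · rw [card_map_of_injective e.injective]
      exact hc
    · rintro _ ⟨x, hx, rfl⟩
      rw [← map_pow, h3 x hx, map_one]
    · intro A hAW hAc
      have h1 := hA (A.map e.symm.toMonoidHom) (by
        rintro _ ⟨a, ha, rfl⟩
        obtain ⟨w, hw, hwa⟩ := hAW ha
        have h2 : e w = a := hwa
        change e.symm a ∈ W
        rw [← h2, e.symm_apply_apply]
        exact hw) (by
        rintro _ ⟨a, ha, rfl⟩ _ ⟨b, hb, rfl⟩
        rw [← map_mul, ← map_mul, hAc a ha b hb])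
      rwa [card_map_of_injective e.symm.injective] at h1

/-! ### first consequences -/

section

variable {L : Type*} [Group L] {z : L} {k d m : ℕ}

theorem ab' (h : Cand z k d m) (A : Subgroup L) (hA : IsPGroup 3 A) (hc : ∀ a ∈ A, ∀ b ∈ A, a * b = b * a) :
    Nat.card A ≤ 3 ^ (k - 3) := by
  have h1 := h.ab A hA hc
  have h2 : 3 ^ k = 27 * 3 ^ (k - 3) := by
    rw [show (27 : ℕ) = 3 ^ 3 by norm_num, ← pow_add]
    congr 1
    have := h.kl
    omega
  rw [h2] at h1
  exact Nat.le_of_mul_le_mul_left h1 (by norm_num)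

theorem n12 (h : Cand z k d m) : ¬ 3 ^ 12 ∣ Nat.card L := fun h12 =>
  h.ndvd ((pow_dvd_pow 3 (by have := h.ku; omega)).trans h12)

theorem nine (h : Cand z k d m) {N : ℕ} [Finite L] (hN : HasAb 3 L N) : 9 ≤ N := by
  have h1 := dvd_factorial h.dvd (ab' h) hN
  rw [show k - (k - 3) = 3 by have := h.kl; omega] at h1
  by_contra hcon
  have h2 : 3 ^ 3 ∣ Nat.factorial 8 := h1.trans (Nat.factorial_dvd_factorial (by omega))
  revert h2
  decide

/-- a 3-central element of order three commuting with an element of prime order `r > 3` -/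
theorem false_of (h : Cand z k d m) {y : L} (hy : orderOf y = 3) {r : ℕ} (hr : r.Prime) (h2 : r ≠ 2) (h3 : r ≠ 3)
    (hc : 3 ^ k ∣ Nat.card (centralizer ({y} : Set L))) (hrc : r ∣ Nat.card (centralizer ({y} : Set L))) : False := by
  have key : ∀ x : L, IsConj y x → Nat.card (centralizer ({y} : Set L)) = Nat.card (centralizer ({x} : Set L)) := by
    intro x hx
    obtain ⟨c, hc⟩ := isConj_iff.1 hx
    rw [← card_centralizer_congr (MulAut.conj c) y]
    change _ = Nat.card (centralizer ({x} : Set L))
    rw [MulAut.conj_apply, hc]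
  have hinv : Nat.card (centralizer ({z⁻¹} : Set L)) = Nat.card (centralizer ({z} : Set L)) := by
    have : centralizer ({z⁻¹} : Set L) = centralizer ({z} : Set L) := by
      ext x
      rw [mem_centralizer_singleton_iff, mem_centralizer_singleton_iff]
      constructor
      · intro h1
        have h2 : Commute x z⁻¹ := h1
        exact Commute.inv_right_iff.1 h2
      · intro h1
        have h2 : Commute x z := h1
        exact h2.inv_right
    rw [this]
  have h1 : Nat.card (centralizer ({y} : Set L)) = Nat.card (centralizer ({z} : Set L)) := by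
    rcases h.uniq y hy hc with h' | h'
    · exact key _ h'
    · rw [key _ h', hinv]
  rw [h1] at hrc
  have h4 := hrc.trans h.c23
  rcases (Nat.Prime.dvd_mul hr).1 h4 with h5 | h5
  · exact h2 ((Nat.prime_dvd_prime_iff_eq hr Nat.prime_two).1 (hr.dvd_of_dvd_pow h5))
  · exact h3 ((Nat.prime_dvd_prime_iff_eq hr Nat.prime_three).1 (hr.dvd_of_dvd_pow h5))

end

theorem vf_nine : vf 9 = 4 := by
  rw [vf]
  have h1 : Nat.factorial 9 = 3 ^ 4 * 4480 := by decide
  rw [h1]
  rw [Nat.factorization_mul (by norm_num) (by norm_num), Finsupp.add_apply, Nat.Prime.factorization_pow Nat.prime_three,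
    Finsupp.single_eq_same, Nat.factorization_eq_zero_of_not_dvd (by norm_num)]

theorem vf_mono {a b : ℕ} (h : a ≤ b) : vf a ≤ vf b := by
  rw [vf, vf]
  exact (Nat.factorization_le_iff_dvd (Nat.factorial_pos a).ne' (Nat.factorial_pos b).ne').2
    (Nat.factorial_dvd_factorial h) 3

theorem four_le_vf {n : ℕ} (h : 9 ≤ n) : 4 ≤ vf n := by
  rw [← vf_nine]
  exact vf_mono h

end Cfsg.Agent.H341.T3
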