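import Cfsg.Agent.H341.T3Om7

/-!
# The rows S3337 and S3368: `Ω₇(3)`, the number of pairs (helper341)
-/

set_option autoImplicit false

namespace Cfsg.Agent.H341.T3.Pair

open QuadraticMap Matrix Module Cfsg.Agent.ClassicalGeometry.Reflection Cfsg.Agent.ClassicalGeometry.SiegelGen
  Cfsg.Agent.H175.OmegaAdjust Subgroup Cfsg.Agent.LieClassical.QuadForms

section Gen

variable {F : Type} [Field F] [Fintype F] {ι : Type} [Fintype ι] [DecidableEq ι] {Q : QuadraticForm F (ι → F)}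

attribute [local instance] actV

/-- Witt's theorem: the isometry group is transitive on the nonzero singular vectors. -/
theorem exists_iso_one (hQ : (polarBilin Q).Nondegenerate) {u u' : ι → F} (h : Q u = 0) (h0 : u ≠ 0) (h' : Q u' = 0)
    (h0' : u' ≠ 0) : ∃ g : Cfsg.isometryGroup F ⇑Q, g • u = u' := by
  obtain ⟨g, hg, hgx⟩ := Cfsg.Agent.ClassicalGeometry.WittQuad.extend_family Q hQ 1 ![u] ![u']
    (LinearIndependent.of_subsingleton 0 h0) (LinearIndependent.of_subsingleton 0 h0') (by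
      intro i
      fin_cases i
      exact h.trans h'.symm) (by
      have e3 : polar Q u u = 0 := by rw [polar_self', h, mul_zero]
      have e4 : polar Q u' u' = 0 := by rw [polar_self', h', mul_zero]
      intro i j
      fin_cases i
      fin_cases j
      exact e3.trans e4.symm)
  refine ⟨toIso Q g hg, ?_⟩
  change ((toIso Q g hg : GeneralLinearGroup ι F) : Matrix ι ι F) *ᵥ u = u'
  rw [toIso_mulVec]
  exact hgx 0

/-- the number of pairs, from the number of second vectors -/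
theorem card_TS (hQ : (polarBilin Q).Nondegenerate) {e : ι → F} (he : Q e = 0) (he0 : e ≠ 0) :
    Nat.card {x : (ι → F) × (ι → F) | TS Q x} = (Nat.card {v : ι → F // Q v = 0} - 1) *
      (Nat.card {w : ι → F // Q w = 0 ∧ polar Q e w = 0} - Nat.card F) := by
  -- the second vectors
  let N : (ι → F) → Set (ι → F) := fun u => {w | Q w = 0 ∧ polar Q u w = 0 ∧ ∀ c : F, c • u ≠ w}
  have hN : ∀ u : ι → F, Q u = 0 → u ≠ 0 → Nat.card (N u) = Nat.card (N e) := by
    intro u hu hu0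
    obtain ⟨g, hg⟩ := exists_iso_one hQ he he0 hu hu0
    refine (Nat.card_congr ((MulAction.toPerm g).subtypeEquiv ?_)).symm
    intro w
    change (Q w = 0 ∧ polar Q e w = 0 ∧ ∀ c : F, c • e ≠ w) ↔ (Q (g • w) = 0 ∧ polar Q u (g • w) = 0 ∧
      ∀ c : F, c • u ≠ g • w)
    rw [Q_smul, ← hg, polar_smul]
    have h1 : ∀ c : F, c • (g • e) = g • w ↔ c • e = w := by
      intro c
      rw [← smul_smul']
      exact (MulAction.injective g).eq_iff
    simp only [ne_eq, h1]
  have hNe : Nat.card (N e) = Nat.card {w : ι → F // Q w = 0 ∧ polar Q e w = 0} - Nat.card F := by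
    have h1 : N e = {w | Q w = 0 ∧ polar Q e w = 0} \ Set.range (fun c : F => c • e) := by
      ext w
      constructor
      · rintro ⟨h1, h2, h3⟩
        exact ⟨⟨h1, h2⟩, by rintro ⟨c, hc⟩; exact h3 c hc⟩
      · rintro ⟨⟨h1, h2⟩, h3⟩
        exact ⟨h1, h2, fun c hc => h3 ⟨c, hc⟩⟩
    have h2 : Set.range (fun c : F => c • e) ⊆ {w | Q w = 0 ∧ polar Q e w = 0} := by
      rintro _ ⟨c, rfl⟩
      refine ⟨?_, ?_⟩
      · change Q (c • e) = 0
        rw [QuadraticMap.map_smul, he, smul_zero]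
      · change polar Q e (c • e) = 0
        rw [polar_smul_right, polar_self', he, mul_zero, smul_zero]
    rw [h1, Nat.card_coe_set_eq, Set.ncard_sdiff h2]
    congr 1
    have h3 : Function.Injective (fun c : F => c • e) := by
      intro c c' hc
      have h4 : (c - c') • e = 0 := by
        rw [sub_smul, sub_eq_zero]
        exact hc
      rcases smul_eq_zero.1 h4 with h5 | h5
      · exact sub_eq_zero.1 h5
      · exact absurd h5 he0
    rw [← Nat.card_coe_set_eq]
    exact (Nat.card_congr (Equiv.ofInjective _ h3)).symm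
  -- the total
  have h3 : Nat.card {x : (ι → F) × (ι → F) | TS Q x} =
      Nat.card (Σ u : {u : ι → F // Q u = 0 ∧ u ≠ 0}, N u.1) := by
    refine Nat.card_congr ⟨fun x => ⟨⟨x.1.1, x.2.u, x.2.u0⟩, ⟨x.1.2, x.2.w, x.2.uw, x.2.ind⟩⟩,
      fun y => ⟨(y.1.1, y.2.1), ⟨y.1.2.1, y.2.2.1, y.2.2.2.1, y.1.2.2, y.2.2.2.2⟩⟩, fun x => rfl, fun y => rfl⟩
  have h4 : Nat.card {u : ι → F // Q u = 0 ∧ u ≠ 0} = Nat.card {v : ι → F // Q v = 0} - 1 := by
    have h5 : {u : ι → F | Q u = 0 ∧ u ≠ 0} = {u | Q u = 0} \ {0} := by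
      ext u
      rfl
    have h6 : ({0} : Set (ι → F)) ⊆ {u | Q u = 0} := by
      rintro _ rfl
      exact QuadraticMap.map_zero Q
    change Nat.card ({u : ι → F | Q u = 0 ∧ u ≠ 0} : Set (ι → F)) = Nat.card ({u : ι → F | Q u = 0} : Set (ι → F)) - 1
    rw [h5, Nat.card_coe_set_eq, Set.ncard_sdiff h6, Set.ncard_singleton, Nat.card_coe_set_eq]
  rw [h3]
  classical
  have := Fintype.ofFinite {u : ι → F // Q u = 0 ∧ u ≠ 0}
  rw [Nat.card_sigma, Finset.sum_congr rfl (fun u _ => (hN u.1 u.2.1 u.2.2).trans hNe), Finset.sum_const,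
    Finset.card_univ, ← Nat.card_eq_fintype_card, h4, smul_eq_mul]

end Gen

variable {F : Type} [Field F] [Fintype F]

theorem card_perp (m : ℕ) : Nat.card {w : Unit ⊕ (Fin (m + 1) ⊕ Fin (m + 1)) → F // oddForm (m + 1) F w = 0 ∧
    polar (oddForm (m + 1) F) (oddStep m F (0, 1, 0)) w = 0} =
    Nat.card {v : Unit ⊕ (Fin m ⊕ Fin m) → F // oddForm m F v = 0} * Nat.card F := by
  rw [← Nat.card_prod]
  have h1 : ∀ (v : Unit ⊕ (Fin m ⊕ Fin m) → F) (a b : F),
      polar (oddForm (m + 1) F) (oddStep m F (0, 1, 0)) (oddStep m F (v, a, b)) = b := by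
    intro v a b
    rw [polar, ← map_add, Prod.mk_add_mk, Prod.mk_add_mk, oddForm_oddStep, oddForm_oddStep, oddForm_oddStep, zero_add]
    simp
    ring
  have hf : ∀ p : {v : Unit ⊕ (Fin m ⊕ Fin m) → F // oddForm m F v = 0} × F,
      oddForm (m + 1) F (oddStep m F (p.1.1, p.2, 0)) = 0 ∧
        polar (oddForm (m + 1) F) (oddStep m F (0, 1, 0)) (oddStep m F (p.1.1, p.2, 0)) = 0 := by
    intro p
    exact ⟨by rw [oddForm_oddStep, p.1.2, mul_zero, add_zero], h1 _ _ _⟩
  have hg : ∀ w : {w : Unit ⊕ (Fin (m + 1) ⊕ Fin (m + 1)) → F // oddForm (m + 1) F w = 0 ∧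
      polar (oddForm (m + 1) F) (oddStep m F (0, 1, 0)) w = 0}, oddForm m F ((oddStep m F).symm w.1).1 = 0 := by
    intro w
    have h2 := w.2.1
    have h3 := w.2.2
    obtain ⟨⟨v, a, b⟩, hv⟩ := (oddStep m F).surjective w.1
    rw [← hv, h1] at h3
    rw [← hv, oddForm_oddStep, h3, mul_zero, add_zero] at h2
    rw [← hv, LinearEquiv.symm_apply_apply]
    exact h2
  refine (Nat.card_congr ⟨fun p => ⟨oddStep m F (p.1.1, p.2, 0), hf p⟩,
    fun w => (⟨((oddStep m F).symm w.1).1, hg w⟩, ((oddStep m F).symm w.1).2.1), ?_, ?_⟩).symm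
  · rintro ⟨⟨v, hv⟩, a⟩
    simp
  · rintro ⟨w, hw1, hw2⟩
    apply Subtype.ext
    obtain ⟨⟨v, a, b⟩, hv⟩ := (oddStep m F).surjective w
    rw [← hv, h1] at hw2
    change oddStep m F (((oddStep m F).symm w).1, ((oddStep m F).symm w).2.1, 0) = w
    rw [← hv, LinearEquiv.symm_apply_apply, hw2]

theorem card_TS_seven (hF : Fintype.card F = 3) :
    Nat.card {x : (Unit ⊕ (Fin 3 ⊕ Fin 3) → F) × (Unit ⊕ (Fin 3 ⊕ Fin 3) → F) | TS (oddForm 3 F) x} = 728 * 240 := by
  have h2 : (2 : F) ≠ 0 := by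
    obtain ⟨f, hf, hcard, hchar⟩ := H128.Char3.char_three (F := F) (by rw [hF])
    intro h
    have h3 := CharP.cast_eq_zero F 3
    push_cast at h3
    have : (1 : F) = 0 := by linear_combination h3 - h
    exact one_ne_zero this
  have hz : ∀ m, Nat.card {v : Unit ⊕ (Fin m ⊕ Fin m) → F // oddForm m F v = 0} = 3 ^ (2 * m) := by
    intro m
    have := S0291.result hF (by decide) m
    rw [← coe_oddForm] at this
    exact this
  have he0 : oddStep 2 F (0, 1, 0) ≠ 0 := by
    intro h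
    have h1 : ((0 : Unit ⊕ (Fin 2 ⊕ Fin 2) → F), (1 : F), (0 : F)) = 0 :=
      (oddStep 2 F).map_eq_zero_iff.1 h
    exact one_ne_zero (congrArg (fun p => p.2.1) h1)
  have he : oddForm (2 + 1) F (oddStep 2 F (0, 1, 0)) = 0 := by
    rw [oddForm_oddStep]
    simp
  have h3 := card_TS (S0292.oddForm_nondegenerate h2 (2 + 1)) he he0
  rw [card_perp, hz, hz, Nat.card_eq_fintype_card (α := F), hF] at h3
  exact h3

end Cfsg.Agent.H341.T3.Pair
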