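import Cfsg.Agent.H341.T3Uni
import Cfsg.Agent.S2127

/-!
# The rows S3337 and S3368: orthogonal groups in even dimension and exceptional groups in characteristic three (helper341)
-/

set_option autoImplicit false

namespace Cfsg.Agent.H341.T3

open Cfsg Subgroup OrdDiv H349.T3 H128.Cross3 H128.Char3 H341.ThreeList

universe u

section

variable {F : Type} [Field F] [Fintype F]

/-- the exponent of three -/
theorem val_eq {L : Type*} [Group L] {z : L} {k d m : ℕ} (h : Cand z k d m) {c r q N f : ℕ} (hd : ¬ 3 ∣ c)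
    (hr : ¬ 3 ∣ r) (hq : q = 3 ^ f) (hc : c * Nat.card L = q ^ N * r) : f * N = k := by
  have h1 := (pow_dvd_iff hd hr hq hc).1 h.dvd
  have h2 : ¬ k + 1 ≤ f * N := fun h' => h.ndvd ((pow_dvd_iff hd hr hq hc).2 h')
  omega

theorem no_twelve {f m : ℕ} (hm : 4 ≤ m) (hf : 1 ≤ f) : 12 ≤ f * (m * (m - 1)) := by
  have h1 : 4 * 3 ≤ m * (m - 1) := Nat.mul_le_mul (by omega) (by omega)
  nlinarith

theorem oplus_three {m : ℕ} (hm : 4 ≤ m) (hF : 3 ∣ Fintype.card F) {z : POmega F (quadFormPlus m F)} {k d m' : ℕ}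
    (h : Cand z k d m') : False := by
  obtain ⟨f, hf, hcard, hchar⟩ := char_three hF
  have hc := S0293.result (F := F) rfl m hm
  have hq1 : 1 ≤ Fintype.card F := Fintype.card_pos
  have hr : ¬ 3 ∣ (Fintype.card F ^ m - 1) * ∏ i ∈ Finset.range (m - 1), (Fintype.card F ^ (2 * (i + 1)) - 1) :=
    not_dvd_mul (not_dvd_sub_one hF hq1 (by omega)) (not_dvd_prod _ _ fun j _ => not_dvd_sub_one hF hq1 (by omega))
  rw [mul_assoc] at hc
  have hb := val_eq h not_dvd_gcd_four hr hcard hc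
  have := no_twelve hm hf
  have := h.ku
  omega

theorem ominus_three {m : ℕ} (hm : 4 ≤ m) {a b : F}
    (hab : ∀ z₁ z₂ : F, z₁ ^ 2 + a * z₁ * z₂ + b * z₂ ^ 2 = 0 → z₁ = 0 ∧ z₂ = 0) (hF : 3 ∣ Fintype.card F)
    {z : POmega F (quadFormMinus (m - 1) F a b)} {k d m' : ℕ} (h : Cand z k d m') : False := by
  obtain ⟨f, hf, hcard, hchar⟩ := char_three hF
  have hc := S0294.result (F := F) rfl m hm a b hab
  have hq1 : 1 ≤ Fintype.card F := Fintype.card_pos
  have hr : ¬ 3 ∣ (Fintype.card F ^ m + 1) * ∏ i ∈ Finset.range (m - 1), (Fintype.card F ^ (2 * (i + 1)) - 1) :=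
    not_dvd_mul (not_dvd_add_one hF (by omega)) (not_dvd_prod _ _ fun j _ => not_dvd_sub_one hF hq1 (by omega))
  rw [mul_assoc] at hc
  have hb := val_eq h not_dvd_gcd_four hr hcard hc
  have := no_twelve hm hf
  have := h.ku
  omega

end

/-! ### the outer automorphism group -/

theorem d_dvd_out {L : Type*} [Group L] [Finite L] {z : L} {k d m : ℕ} (h : Cand z k d m) :
    d ∣ Nat.card (Cfsg.Out L) := by
  have h1 : Nat.card (MulAut.conj : L →* MulAut L).range ∣ Nat.card L := by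
    have h2 := card_mul_index (MulAut.conj : L →* MulAut L).ker
    rw [index_ker] at h2
    exact Dvd.intro_left _ h2
  have h2 := card_mul_index (MulAut.conj : L →* MulAut L).range
  have h3 : Nat.card (MulAut L) ∣ Nat.card L * Nat.card (Cfsg.Out L) := by
    rw [← h2]
    exact Nat.mul_dvd_mul_right h1 _
  have h4 := h.out.trans h3
  rw [mul_comm] at h4
  exact Nat.dvd_of_mul_dvd_mul_left Nat.card_pos h4

/-! ### exceptional groups in characteristic three -/

section Exc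

variable {K : Type*} [Group K] {z : K} {k d m' : ℕ} {F : Type} [Field F] [Fintype F]

theorem g2_three (T : OrderTable.{u}) (h : Cand z k d m') (h3 : 3 ∣ Fintype.card F) (e : K ≃* Lie.chevG2.group F) :
    False := by
  obtain ⟨f, hf, hcard, hchar⟩ := char_three h3
  have hq1 : 1 ≤ Fintype.card F := Fintype.card_pos
  have hc : 1 * Nat.card K =
      Fintype.card F ^ 6 * ((Fintype.card F ^ 2 - 1) * (Fintype.card F ^ 6 - 1)) := by
    rw [one_mul, Nat.card_congr e.toEquiv, T.g2 F, mul_assoc]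
  have hr : ¬ 3 ∣ (Fintype.card F ^ 2 - 1) * (Fintype.card F ^ 6 - 1) :=
    not_dvd_mul (not_dvd_sub_one h3 hq1 (by norm_num)) (not_dvd_sub_one h3 hq1 (by norm_num))
  have hb := val_eq h (by norm_num) hr hcard hc
  have := h.kl
  have := h.ku
  omega

theorem f4_three (T : OrderTable.{u}) (h : Cand z k d m') (h3 : 3 ∣ Fintype.card F) (e : K ≃* Lie.chevF4.group F) :
    False := by
  obtain ⟨f, hf, hcard, hchar⟩ := char_three h3
  apply n12 h
  rw [Nat.card_congr e.toEquiv, T.f4 F _ rfl, hcard]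
  refine Dvd.dvd.mul_right (Dvd.dvd.mul_right (Dvd.dvd.mul_right (Dvd.dvd.mul_right ?_ _) _) _) _
  rw [← pow_mul]
  exact pow_dvd_pow 3 (by omega)

theorem not_dvd_gcd_three {m : ℕ} (h3 : ¬ 3 ∣ m) : ¬ 3 ∣ Nat.gcd 3 m := fun h => h3 (h.trans (Nat.gcd_dvd_right _ _))

theorem e6_three (T : OrderTable.{u}) (h : Cand z k d m') (h3 : 3 ∣ Fintype.card F) (e : K ≃* Lie.chevE6.group F) :
    False := by
  obtain ⟨f, hf, hcard, hchar⟩ := char_three h3
  have hq1 : 1 ≤ Fintype.card F := Fintype.card_pos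
  apply n12 h
  have hc := T.e6 F _ rfl
  rw [← Nat.card_congr e.toEquiv] at hc
  refine H128.Cross3.of_mul' (not_dvd_gcd_three ?_) hc ?_
  · have := not_dvd_sub_one (k := 1) h3 hq1 (by norm_num)
    rwa [pow_one] at this
  · rw [hcard]
    iterate 6 apply Dvd.dvd.mul_right
    rw [← pow_mul]
    exact pow_dvd_pow 3 (by omega)

theorem e7_three (T : OrderTable.{u}) (h : Cand z k d m') (h3 : 3 ∣ Fintype.card F) (e : K ≃* Lie.chevE7.group F) :
    False := by
  obtain ⟨f, hf, hcard, hchar⟩ := char_three h3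
  apply n12 h
  have hc := T.e7 F _ rfl
  rw [← Nat.card_congr e.toEquiv] at hc
  refine H128.Cross3.of_mul' not_dvd_gcd_two hc ?_
  rw [hcard]
  iterate 7 apply Dvd.dvd.mul_right
  rw [← pow_mul]
  exact pow_dvd_pow 3 (by omega)

theorem e8_three (T : OrderTable.{u}) (h : Cand z k d m') (h3 : 3 ∣ Fintype.card F) (e : K ≃* Lie.chevE8.group F) :
    False := by
  obtain ⟨f, hf, hcard, hchar⟩ := char_three h3
  apply n12 h
  rw [Nat.card_congr e.toEquiv, T.e8 F _ rfl, hcard]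
  iterate 8 apply Dvd.dvd.mul_right
  rw [← pow_mul]
  exact pow_dvd_pow 3 (by omega)

theorem card_pow (h3 : 3 ∣ Fintype.card F) {q k : ℕ} (hF : Fintype.card F = q ^ k) (hk : k ≠ 0) :
    ∃ f, 1 ≤ f ∧ q = 3 ^ f := by
  obtain ⟨f, hf, hcard, hchar⟩ := char_three h3
  have h1 : q ∣ 3 ^ f := by
    rw [← hcard, hF]
    exact dvd_pow_self q hk
  obtain ⟨l, -, hl⟩ := (Nat.dvd_prime_pow Nat.prime_three).1 h1
  refine ⟨l, ?_, hl⟩
  by_contra hcon
  have h2 : l = 0 := by omega
  rw [hl, h2, pow_zero, one_pow] at hF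
  rw [hF] at h3
  norm_num at h3

theorem te6_three (T : OrderTable.{u}) (h : Cand z k d m') {q : ℕ} (hq : IsPrimePow q) (hF : Fintype.card F = q ^ 2)
    (h3 : 3 ∣ Fintype.card F) (e : K ≃* Lie.twistedE6 F q) : False := by
  obtain ⟨f, hf, hqf⟩ := card_pow h3 hF (by norm_num)
  have hq3 : 3 ∣ q := by
    rw [hqf]
    exact dvd_pow_self 3 (by omega)
  apply n12 h
  have hc := T.te6 F q hq hF
  rw [← Nat.card_congr e.toEquiv] at hc
  refine H128.Cross3.of_mul' (not_dvd_gcd_three ?_) hc ?_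
  · have := not_dvd_add_one (k := 1) hq3 (by norm_num)
    rwa [pow_one] at this
  · rw [hqf]
    iterate 6 apply Dvd.dvd.mul_right
    rw [← pow_mul]
    exact pow_dvd_pow 3 (by omega)

theorem td4_three (T : OrderTable.{u}) (h : Cand z k d m') {q : ℕ} (hq : IsPrimePow q) (hF : Fintype.card F = q ^ 3)
    (h3 : 3 ∣ Fintype.card F) (e : K ≃* Lie.twistedD4 F q) : False := by
  obtain ⟨f, hf, hqf⟩ := card_pow h3 hF (by norm_num)
  apply n12 h
  rw [Nat.card_congr e.toEquiv, T.td4 F q hq hF, hqf]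
  iterate 3 apply Dvd.dvd.mul_right
  rw [← pow_mul]
  exact pow_dvd_pow 3 (by omega)

/-- `²G₂(q)` -/
theorem ree_false (T : OrderTable.{u}) (h : Cand z k d m') {m : ℕ} (hm : 1 ≤ m)
    (hF : Fintype.card F = 3 ^ (2 * m + 1)) (e : K ≃* Lie.twistedG2 F (3 ^ m)) : False := by
  have hc : 1 * Nat.card K = (3 ^ (2 * m + 1)) ^ 3 * ((3 ^ (2 * m + 1) - 1) * ((3 ^ (2 * m + 1)) ^ 3 + 1)) := by
    rw [one_mul, Nat.card_congr e.toEquiv, T.ree F m hm hF]
    ring
  have hq3 : 3 ∣ 3 ^ (2 * m + 1) := dvd_pow_self 3 (by omega)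
  have hr : ¬ 3 ∣ (3 ^ (2 * m + 1) - 1) * ((3 ^ (2 * m + 1)) ^ 3 + 1) := by
    refine not_dvd_mul ?_ (not_dvd_add_one hq3 (by norm_num))
    have := not_dvd_sub_one (k := 1) hq3 (Nat.one_le_pow _ _ (by norm_num)) (by norm_num)
    rwa [pow_one] at this
  have hb := val_eq h (by norm_num) hr rfl hc
  have hkl := h.kl
  have hku := h.ku
  have hm1 : m = 1 := by omega
  subst hm1
  rw [one_mul] at hc
  have hfin : Finite K := Nat.finite_of_card_ne_zero (by rw [hc]; norm_num)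
  have hd : d ∣ 3 := by
    have h1 := d_dvd_out h
    rwa [H55.OutGen.card_out_congr e, S2127.result hm hF] at h1
  have h7 : 2 ^ 7 ∣ 3 * Nat.card K := by
    refine ((pow_dvd_pow 2 h.m7).trans h.two).trans ?_
    exact mul_dvd_mul hd (card_subgroup_dvd_card _)
  rw [hc] at h7
  norm_num at h7

end Exc

end Cfsg.Agent.H341.T3
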