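import Cfsg.Agent.H341.T3Base
import Cfsg.Agent.S2572

/-!
# The rows S3337 and S3368: linear groups in characteristic three (helper341)
-/

set_option autoImplicit false

namespace Cfsg.Agent.H341.T3

open Cfsg Subgroup H349.T3 H128.Cross3 H128.Char3 H341.ThreeList
open scoped Matrix

/-! ### centralizers modulo the centre -/

theorem cent_quot {X : Type*} [Group X] [Finite X] (y : X) : Nat.card (centralizer ({y} : Set X)) ∣
    Nat.card (center X) * Nat.card (centralizer ({(y : X ⧸ center X)} : Set (X ⧸ center X))) := by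
  let f : centralizer ({y} : Set X) →* X ⧸ center X :=
    (QuotientGroup.mk' (center X)).comp (centralizer ({y} : Set X)).subtype
  have h2 := card_mul_index f.ker
  rw [index_ker] at h2
  rw [← h2]
  refine mul_dvd_mul ?_ ?_
  · have h3 : f.ker.map (centralizer ({y} : Set X)).subtype ≤ center X := by
      rintro _ ⟨x, hx, rfl⟩
      exact (QuotientGroup.eq_one_iff _).1 hx
    have h4 := card_dvd_of_le h3
    rwa [card_map_of_injective Subtype.val_injective] at h4
  · apply card_dvd_of_le
    rintro _ ⟨x, rfl⟩
    rw [mem_centralizer_singleton_iff]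
    change ((x : X) : X ⧸ center X) * (y : X ⧸ center X) = (y : X ⧸ center X) * ((x : X) : X ⧸ center X)
    rw [← QuotientGroup.mk_mul, ← QuotientGroup.mk_mul, mem_centralizer_singleton_iff.1 x.2]

theorem order_quot {X : Type*} [Group X] [Finite X] (y : X) (hy : orderOf y = 3) (h3 : ¬ 3 ∣ Nat.card (center X)) :
    orderOf (y : X ⧸ center X) = 3 := by
  apply orderOf_eq_prime
  · rw [← QuotientGroup.mk_pow, ← hy, pow_orderOf_eq_one]
    rfl
  · intro h
    have h1 : y ∈ center X := (QuotientGroup.eq_one_iff _).1 h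
    apply h3
    rw [← hy]
    have := orderOf_dvd_natCard (⟨y, h1⟩ : center X)
    rwa [Subgroup.orderOf_mk] at this

/-- a 3-central element of order three commuting with an element of prime order `r > 3`, modulo the centre -/
theorem false_of_quot {X : Type*} [Group X] [Finite X] {z : X ⧸ center X} {k d m : ℕ} (h : Cand z k d m) {y : X}
    (hy : orderOf y = 3) (h3Z : ¬ 3 ∣ Nat.card (center X)) {r : ℕ} (hr : r.Prime) (h2 : r ≠ 2) (h3 : r ≠ 3)
    (hrZ : ¬ r ∣ Nat.card (center X)) (hc : 3 ^ k ∣ Nat.card (centralizer ({y} : Set X)))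
    (hrc : r ∣ Nat.card (centralizer ({y} : Set X))) : False := by
  refine false_of h (order_quot y hy h3Z) hr h2 h3 ?_ ?_
  · exact (((Nat.Prime.coprime_iff_not_dvd Nat.prime_three).2 h3Z).pow_left k).dvd_of_dvd_mul_left
      (hc.trans (cent_quot y))
  · exact ((Nat.Prime.coprime_iff_not_dvd hr).2 hrZ).dvd_of_dvd_mul_left (hrc.trans (cent_quot y))

/-! ### transvections -/

variable {F : Type} [Field F] [Fintype F]

theorem single_eq {n : ℕ} (i j : Fin n) :
    (Matrix.single i j (1 : F)) = Matrix.vecMulVec (Pi.single i 1) (Pi.single j 1) := by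
  ext a b
  rw [Matrix.vecMulVec_apply, Matrix.single_apply]
  by_cases ha : i = a
  · by_cases hb : j = b
    · subst ha hb
      simp
    · rw [if_neg (by rintro ⟨-, h⟩; exact hb h), Pi.single_eq_of_ne (Ne.symm hb), mul_zero]
  · rw [if_neg (by rintro ⟨h, -⟩; exact ha h), Pi.single_eq_of_ne (Ne.symm ha), zero_mul]

theorem isTransvection {n : ℕ} {i j : Fin n} (hij : i ≠ j) :
    Cfsg.IsTransvection (Matrix.transvection i j (1 : F)) := by
  have h1 : Matrix.transvection i j (1 : F) - 1 = Matrix.single i j 1 := by
    rw [Matrix.transvection, add_sub_cancel_left]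
  constructor
  · rw [h1]
    apply le_antisymm
    · rw [single_eq]
      exact Matrix.rank_vecMulVec_le _ _
    · rw [Nat.one_le_iff_ne_zero]
      intro h
      have h2 : LinearMap.range (Matrix.single i j (1 : F)).mulVecLin = ⊥ := by
        apply Submodule.finrank_eq_zero.1
        exact h
      have h3 : (Matrix.single i j (1 : F)) *ᵥ (Pi.single j 1) = 0 := by
        have h4 : (Matrix.single i j (1 : F)) *ᵥ (Pi.single j 1) ∈
            LinearMap.range (Matrix.single i j (1 : F)).mulVecLin := ⟨Pi.single j 1, rfl⟩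
        rw [h2] at h4
        exact h4
      have h4 := congrFun h3 i
      rw [Matrix.mulVec_single_one] at h4
      simp at h4
  · rw [h1, Matrix.single_mul_single_of_ne]
    exact hij.symm

theorem sl_cent [CharP F 3] {n : ℕ} (hn : 2 ≤ n) : ∃ y : Matrix.SpecialLinearGroup (Fin n) F, orderOf y = 3 ∧
    Fintype.card F ^ (2 * n - 3) * ∏ i : Fin (n - 2), (Fintype.card F ^ (n - 2) - Fintype.card F ^ (i : ℕ)) ∣
      Nat.card (centralizer ({y} : Set (Matrix.SpecialLinearGroup (Fin n) F))) := by
  have hF1 : 1 < Fintype.card F := Fintype.one_lt_card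
  let i : Fin n := ⟨0, by omega⟩
  let j : Fin n := ⟨1, by omega⟩
  have hij : i ≠ j := by simp [i, j]
  let y : Matrix.SpecialLinearGroup (Fin n) F := ⟨Matrix.transvection i j 1, Matrix.det_transvection_of_ne i j hij 1⟩
  refine ⟨y, ?_, ?_⟩
  · apply orderOf_eq_prime
    · apply Subtype.ext
      rw [Matrix.SpecialLinearGroup.coe_pow, Matrix.SpecialLinearGroup.coe_one]
      change (Matrix.transvection i j (1 : F)) ^ 3 = 1
      rw [pow_succ, pow_two, Matrix.transvection_mul_transvection_same i j hij,
        Matrix.transvection_mul_transvection_same i j hij]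
      have : (1 + 1 + 1 : F) = 0 := by
        have := CharP.cast_eq_zero F 3
        push_cast at this
        linear_combination this
      rw [this, Matrix.transvection_zero]
    · intro h
      have h1 := congrArg (fun x : Matrix.SpecialLinearGroup (Fin n) F => (x : Matrix (Fin n) (Fin n) F) i j) h
      change (Matrix.transvection i j (1 : F)) i j = (1 : Matrix (Fin n) (Fin n) F) i j at h1
      rw [Matrix.transvection, Matrix.add_apply, Matrix.one_apply_ne hij, Matrix.single_apply_same, zero_add] at h1
      exact one_ne_zero h1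
  · set t : GL (Fin n) F := Matrix.SpecialLinearGroup.toGL y with ht
    have h1 := S2572.result (F := F) rfl hn t (isTransvection hij)
    -- the determinant on the centralizer
    let δ : centralizer ({t} : Set (GL (Fin n) F)) →* Fˣ :=
      Matrix.GeneralLinearGroup.det.comp (centralizer ({t} : Set (GL (Fin n) F))).subtype
    have h2 := card_mul_index δ.ker
    rw [index_ker] at h2
    have h3 : Nat.card δ.range ∣ Fintype.card F - 1 := by
      have := card_subgroup_dvd_card δ.range
      rwa [Nat.card_units, Nat.card_eq_fintype_card (α := F)] at this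
    have h4 : Nat.card δ.ker = Nat.card (centralizer ({y} : Set (Matrix.SpecialLinearGroup (Fin n) F))) := by
      have hdet : ∀ x : δ.ker, (x.1.1 : Matrix (Fin n) (Fin n) F).det = 1 := fun x =>
        congrArg Units.val (MonoidHom.mem_ker.1 x.2)
      let lift : δ.ker → Matrix.SpecialLinearGroup (Fin n) F := fun x => ⟨(x.1.1 : Matrix (Fin n) (Fin n) F), hdet x⟩
      have hcen : ∀ x : δ.ker, lift x ∈ centralizer ({y} : Set (Matrix.SpecialLinearGroup (Fin n) F)) := by
        intro x
        have h7 : (x.1.1 : GL (Fin n) F) * t = t * x.1.1 := mem_centralizer_singleton_iff.1 x.1.2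
        have h8 : lift x * y = y * lift x := by
          apply Matrix.SpecialLinearGroup.ext
          intro a b
          exact congrArg (fun g : GL (Fin n) F => (g : Matrix (Fin n) (Fin n) F) a b) h7
        exact mem_centralizer_singleton_iff.2 h8
      refine Nat.card_congr ⟨fun x => ⟨lift x, hcen x⟩,
        fun x => ⟨⟨Matrix.SpecialLinearGroup.toGL x.1, ?_⟩, ?_⟩, fun x => ?_, fun x => ?_⟩
      · rw [mem_centralizer_singleton_iff, ht, ← map_mul, ← map_mul, mem_centralizer_singleton_iff.1 x.2]
      · rw [MonoidHom.mem_ker]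
        apply Units.ext
        exact x.1.2
      · apply Subtype.ext
        apply Subtype.ext
        apply Units.ext
        rfl
      · rfl
    have h5 : Nat.card (centralizer ({t} : Set (GL (Fin n) F))) ∣
        Nat.card (centralizer ({y} : Set (Matrix.SpecialLinearGroup (Fin n) F))) * (Fintype.card F - 1) := by
      rw [← h2, h4]
      exact Nat.mul_dvd_mul_left _ h3
    rw [h1] at h5
    apply Nat.dvd_of_mul_dvd_mul_right (show 0 < Fintype.card F - 1 by omega)
    refine dvd_trans (dvd_of_eq ?_) h5
    ring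

theorem center_sl_trivial {n : ℕ} (hn : Nat.Coprime n (Fintype.card F - 1)) (hn0 : 0 < n) :
    Nat.card (center (Matrix.SpecialLinearGroup (Fin n) F)) = 1 := by
  rw [Subgroup.card_eq_one, eq_bot_iff]
  intro x hx
  rw [Matrix.SpecialLinearGroup.mem_center_iff] at hx
  obtain ⟨r, hr1, hr⟩ := hx
  rw [Fintype.card_fin] at hr1
  have hr0 : r ≠ 0 := by
    rintro rfl
    rw [zero_pow hn0.ne'] at hr1
    exact zero_ne_one hr1
  have h1 : r = 1 := by
    have h2 : r ^ (Fintype.card F - 1) = 1 := FiniteField.pow_card_sub_one_eq_one r hr0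
    have h3 := pow_gcd_eq_one.2 ⟨hr1, h2⟩
    rwa [hn, pow_one] at h3
  rw [mem_bot]
  apply Subtype.ext
  rw [← hr, h1, map_one]
  rfl

theorem psl_three {n : ℕ} (hn : 2 ≤ n) (hF : 3 ∣ Fintype.card F)
    {z : Matrix.ProjectiveSpecialLinearGroup (Fin n) F} {k d m : ℕ} (h : Cand z k d m) : False := by
  obtain ⟨f, hf, hcard, hchar⟩ := char_three hF
  have : Fact (Nat.Prime 3) := ⟨Nat.prime_three⟩
  have hfin : Finite (Matrix.SpecialLinearGroup (Fin n) F) := H128.ClassicalAb.finite_sl n
  have hc := card_psl (F := F) hn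
  have hq1 : 1 ≤ Fintype.card F := Fintype.card_pos
  have hd : ¬ 3 ∣ Nat.gcd n (Fintype.card F - 1) := fun h' => by
    have := h'.trans (Nat.gcd_dvd_right _ _)
    omega
  have hr : ¬ 3 ∣ ∏ j ∈ Finset.range (n - 1), (Fintype.card F ^ (j + 2) - 1) :=
    not_dvd_prod _ _ fun j _ => not_dvd_sub_one hF hq1 (by omega)
  have hb : f * (n * (n - 1) / 2) = k := by
    have h1 := (pow_dvd_iff hd hr hcard hc).1 h.dvd
    have h2 : ¬ k + 1 ≤ f * (n * (n - 1) / 2) := fun h' => h.ndvd ((pow_dvd_iff hd hr hcard hc).2 h')
    omega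
  have hkl := h.kl
  have hku := h.ku
  have hn6 : n ≤ 5 := by
    by_contra hcon
    have h1 : 6 * 5 ≤ n * (n - 1) := Nat.mul_le_mul (by omega) (by omega)
    have h2 : 15 ≤ n * (n - 1) / 2 := by omega
    nlinarith
  interval_cases n
  · -- `PSL₂`
    have hz := (three_pGroup_mult (F := F) (n := 1))
    have hinj := comp_injective (three_pGroup_mult (F := F) (n := 1)) u2 u2_injective (center_sl (by norm_num))
    set g := (QuotientGroup.mk' (center (Matrix.SpecialLinearGroup (Fin 2) F))).comp u2 with hg
    have h1 : Nat.card (Multiplicative (Fin 1 → F)) = Nat.card g.range :=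
      Nat.card_congr (MonoidHom.ofInjective hinj).toEquiv
    have h2 := h.ab g.range (by
      have h2 : IsPGroup 3 (⊤ : Subgroup (Multiplicative (Fin 1 → F))) := by
        intro x
        obtain ⟨k, hk⟩ := hz x
        exact ⟨k, Subtype.ext hk⟩
      rw [MonoidHom.range_eq_map]
      exact h2.map g) (by
      rintro _ ⟨a, rfl⟩ _ ⟨b, rfl⟩
      rw [← map_mul, ← map_mul, mul_comm])
    rw [← h1, card_mult, hcard, pow_one] at h2
    have h3 : f = k := by omega
    rw [h3] at h2
    have h4 : 0 < 3 ^ k := by positivity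
    omega
  · -- `PSL₃(27)`
    have hf3 : f = 3 := by omega
    have hk : k = 9 := by omega
    subst hf3 hk
    have hF27 : Fintype.card F = 27 := by rw [hcard]; norm_num
    obtain ⟨y, hy, hyc⟩ := sl_cent (F := F) (n := 3) (by norm_num)
    have hZ : Nat.card (center (Matrix.SpecialLinearGroup (Fin 3) F)) = 1 :=
      center_sl_trivial (by rw [hF27]; decide) (by norm_num)
    rw [hF27] at hyc
    refine false_of_quot h hy (by rw [hZ]; norm_num) (r := 13) (by norm_num) (by norm_num) (by norm_num)
      (by rw [hZ]; norm_num) (dvd_trans ?_ hyc) (dvd_trans ?_ hyc)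
    · decide
    · decide
  · omega
  · -- `PSL₅(3)`
    have hf3 : f = 1 := by omega
    have hk : k = 10 := by omega
    subst hf3 hk
    have hF27 : Fintype.card F = 3 := by rw [hcard]; norm_num
    obtain ⟨y, hy, hyc⟩ := sl_cent (F := F) (n := 5) (by norm_num)
    have hZ : Nat.card (center (Matrix.SpecialLinearGroup (Fin 5) F)) = 1 :=
      center_sl_trivial (by rw [hF27]; decide) (by norm_num)
    rw [hF27] at hyc
    refine false_of_quot h hy (by rw [hZ]; norm_num) (r := 13) (by norm_num) (by norm_num) (by norm_num)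
      (by rw [hZ]; norm_num) (dvd_trans ?_ hyc) (dvd_trans ?_ hyc)
    · decide
    · decide

end Cfsg.Agent.H341.T3
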