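import Cfsg.Agent.H341.T3Count

/-!
# The rows S3337 and S3368: orthogonal groups in odd dimension, characteristic three (helper341)
-/

set_option autoImplicit false

namespace Cfsg.Agent.H341.T3

open Cfsg Subgroup H349.T3 H128.Cross3 H128.Char3 H341.ThreeList QuadraticMap
open LieClassical.QuadForms

/-- the centralizers of the 3-central elements of order three have the same order -/
theorem card_cent_eq {L : Type*} [Group L] {z : L} {k d m : ℕ} (h : Cand z k d m) {y : L} (hy : orderOf y = 3)
    (hc : 3 ^ k ∣ Nat.card (centralizer ({y} : Set L))) :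
    Nat.card (centralizer ({y} : Set L)) = Nat.card (centralizer ({z} : Set L)) := by
  have key : ∀ x : L, IsConj y x → Nat.card (centralizer ({y} : Set L)) = Nat.card (centralizer ({x} : Set L)) := by
    intro x hx
    obtain ⟨c, hc⟩ := isConj_iff.1 hx
    rw [← card_centralizer_congr (MulAut.conj c) y, MulAut.conj_apply, hc]
  have hinv : Nat.card (centralizer ({z⁻¹} : Set L)) = Nat.card (centralizer ({z} : Set L)) := by
    have : centralizer ({z⁻¹} : Set L) = centralizer ({z} : Set L) := by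
      ext x
      rw [mem_centralizer_singleton_iff, mem_centralizer_singleton_iff]
      exact Commute.inv_right_iff (a := x) (b := z)
    rw [this]
  rcases h.uniq y hy hc with h' | h'
  · exact key _ h'
  · rw [key _ h', hinv]

section

variable {F : Type} [Field F] [Fintype F]

/-- the standard pair -/
def x0 (F : Type) [Field F] : (Unit ⊕ (Fin 3 ⊕ Fin 3) → F) × (Unit ⊕ (Fin 3 ⊕ Fin 3) → F) :=
  (Pi.single (.inr (.inl 0)) 1, Pi.single (.inr (.inl 1)) 1)

theorem Q_eq (v : Unit ⊕ (Fin 3 ⊕ Fin 3) → F) : oddForm 3 F v = v (.inl ()) ^ 2 + (v (.inr (.inl 0)) * v (.inr (.inr 0)) +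
    v (.inr (.inl 1)) * v (.inr (.inr 1)) + v (.inr (.inl 2)) * v (.inr (.inr 2))) := by
  rw [coe_oddForm, quadFormOdd, Fin.sum_univ_three]

theorem polar_eq (u v : Unit ⊕ (Fin 3 ⊕ Fin 3) → F) : polar (oddForm 3 F) u v = 2 * u (.inl ()) * v (.inl ()) +
    (u (.inr (.inl 0)) * v (.inr (.inr 0)) + v (.inr (.inl 0)) * u (.inr (.inr 0)) +
    (u (.inr (.inl 1)) * v (.inr (.inr 1)) + v (.inr (.inl 1)) * u (.inr (.inr 1))) +
    (u (.inr (.inl 2)) * v (.inr (.inr 2)) + v (.inr (.inl 2)) * u (.inr (.inr 2)))) := by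
  rw [polar, Q_eq, Q_eq, Q_eq]
  simp only [Pi.add_apply]
  ring

theorem ts_x0 : Pair.TS (oddForm 3 F) (x0 F) where
  u := by rw [Q_eq]; simp [x0]
  w := by rw [Q_eq]; simp [x0]
  uw := by rw [polar_eq]; simp [x0]
  u0 := by
    intro h
    have := congrFun h (.inr (.inl 0))
    simp [x0] at this
  ind := by
    intro c h
    have := congrFun h (.inr (.inl 1))
    simp [x0] at this

theorem two_ne_zero_three (hF : Fintype.card F = 3) : (2 : F) ≠ 0 := by
  obtain ⟨f, hf, hcard, hchar⟩ := H128.Char3.char_three (F := F) (by rw [hF])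
  intro h
  have h3 := CharP.cast_eq_zero F 3
  push_cast at h3
  have : (1 : F) = 0 := by linear_combination h3 - h
  exact one_ne_zero this

/-- **A long root element of `Ω₇(3)`.** -/
theorem exists_y (hF : Fintype.card F = 3) : ∃ y : Omega F ⇑(oddForm 3 F), orderOf y = 3 ∧
    Nat.card (centralizer ({y} : Set (Omega F ⇑(oddForm 3 F)))) = 2 ^ 5 * 3 ^ 9 := by
  have h2 := two_ne_zero_three hF
  have hQ := S0292.oddForm_nondegenerate h2 3
  let a : Unit ⊕ (Fin 3 ⊕ Fin 3) → F := Pi.single (.inl ()) 1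
  let b : Unit ⊕ (Fin 3 ⊕ Fin 3) → F := Pi.single (.inr (.inl 2)) 1 - Pi.single (.inr (.inr 2)) 1
  have ha : oddForm 3 F a = 1 := by rw [Q_eq]; simp [a]
  have hb : oddForm 3 F b = -1 := by rw [Q_eq]; simp [b, Pi.single_apply]
  obtain ⟨y, hy, hc⟩ := Pair.card_cent h2 hQ (by decide) (ts_x0 (F := F)) (a := a) (b := b)
    (by rw [ha]; exact one_ne_zero) (by rw [hb]; exact neg_ne_zero.2 one_ne_zero)
    (by rw [ha, hb, one_mul, FiniteField.isSquare_neg_one_iff, hF]; norm_num)
    (by rw [polar_eq]; simp [a, x0]) (by rw [polar_eq]; simp [a, x0]) (by rw [polar_eq]; simp [b, x0])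
    (by rw [polar_eq]; simp [b, x0])
  refine ⟨y, ?_, ?_⟩
  · rw [← orderOf_injective (Omega F ⇑(oddForm 3 F)).subtype Subtype.val_injective]
    change orderOf (y : isometryGroup F ⇑(oddForm 3 F)) = 3
    rw [hy]
    apply orderOf_eq_prime
    · rw [Pair.sI, pow_succ, pow_two, ClassicalGeometry.SiegelGen.siegelIso_mul,
        ClassicalGeometry.SiegelGen.siegelIso_mul]
      have h3 : (1 + 1 + 1 : F) = 0 := by
        obtain ⟨f, hf, hcard, hchar⟩ := H128.Char3.char_three (F := F) (by rw [hF])
        have h3 := CharP.cast_eq_zero F 3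
        push_cast at h3
        linear_combination h3
      rw [h3]
      apply Subtype.ext
      apply Units.ext
      exact ClassicalGeometry.SiegelGen.siegelMatrix_zero _ _ _
    · intro h1
      have h3 : Pair.sg (oddForm 3 F) (x0 F) = 1 := by
        rw [← Pair.coe_sI ts_x0, h1]
        rfl
      have h4 := Pair.sg_mulVec (Q := oddForm 3 F) (x0 F) (Pi.single (.inr (.inr 0)) 1)
      rw [h3, Matrix.one_mulVec] at h4
      have h5 := congrFun (left_eq_add.1 h4) (.inr (.inl 1))
      rw [polar_eq, polar_eq] at h5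
      simp [x0] at h5
  · rw [Pair.card_TS_seven hF, ClassicalGeometry.PSL2Basic.card_SL2, hF] at hc
    have hZ : Nat.card (center (Omega F ⇑(oddForm 3 F))) = 1 :=
      LieClassical.OrthCenter.card_center_omega_of_odd h2 hQ (by decide) (by decide) (S0292.exists_singular (by norm_num))
    have h5 := S0292.result (F := F) hF (by decide) 3 le_rfl
    rw [← coe_oddForm] at h5
    have h6 : Nat.card (Omega F ⇑(oddForm 3 F)) = Nat.card (POmega F ⇑(oddForm 3 F)) := by
      have := card_eq_card_quotient_mul_card_subgroup (center (Omega F ⇑(oddForm 3 F)))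
      rw [hZ, mul_one] at this
      exact this
    rw [h6] at hc
    rw [Finset.prod_range_succ, Finset.prod_range_succ, Finset.prod_range_succ, Finset.prod_range_zero] at h5
    norm_num at h5 hc ⊢
    omega

theorem om7_false (hF : Fintype.card F = 3) {z : POmega F ⇑(oddForm 3 F)} {k d m : ℕ} (h : Cand z k d m)
    (hk : k = 9) (hd : d ∣ 2) : False := by
  have h2 := two_ne_zero_three hF
  have hQ := S0292.oddForm_nondegenerate h2 3
  have hZ : center (Omega F ⇑(oddForm 3 F)) = ⊥ :=
    LieClassical.OrthCenter.center_omega_eq_bot_of_odd h2 hQ (by decide) (by decide) (S0292.exists_singular (by norm_num))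
  let e : POmega F ⇑(oddForm 3 F) ≃* Omega F ⇑(oddForm 3 F) :=
    (QuotientGroup.quotientMulEquivOfEq hZ).trans QuotientGroup.quotientBot
  obtain ⟨y, hy, hc⟩ := exists_y hF
  have h' := congr h e
  have h3 := card_cent_eq h' hy (by rw [hc, hk]; exact Dvd.intro_left _ rfl)
  have h4 : 2 ^ 7 ∣ 2 * (2 ^ 5 * 3 ^ 9) := by
    rw [← hc, h3]
    exact ((pow_dvd_pow 2 h'.m7).trans h'.two).trans (Nat.mul_dvd_mul_right hd _)
  norm_num at h4

end

theorem oodd_three {F : Type} [Field F] [Fintype F] {m : ℕ} (hm : 3 ≤ m) (ho : Odd (Fintype.card F))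
    (hF : 3 ∣ Fintype.card F) {z : POmega F (quadFormOdd m F)} {k d m' : ℕ} (h : Cand z k d m') : False := by
  obtain ⟨f, hf, hcard, hchar⟩ := char_three hF
  have hc := S0292.result (F := F) rfl ho m hm
  have hq1 : 1 ≤ Fintype.card F := Fintype.card_pos
  have hr : ¬ 3 ∣ ∏ i ∈ Finset.range m, (Fintype.card F ^ (2 * (i + 1)) - 1) :=
    not_dvd_prod _ _ fun j _ => not_dvd_sub_one hF hq1 (by omega)
  have hb := val_eq h (by norm_num) hr hcard hc
  have hkl := h.kl
  have hku := h.ku
  have hm3 : m ≤ 3 := by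
    by_contra hcon
    have h1 : 4 * 4 ≤ m ^ 2 := by nlinarith
    nlinarith
  obtain rfl : m = 3 := by omega
  have hf1 : f = 1 := by omega
  have hk : k = 9 := by omega
  subst hf1
  have hF3 : Fintype.card F = 3 := by rw [hcard]; norm_num
  have : Fact (Nat.Prime 3) := ⟨Nat.prime_three⟩
  have hfin := H128.Cross3.finite_pomega (quadFormOdd 3 F)
  have hd : d ∣ 2 := by
    have h1 := d_dvd_out h
    obtain ⟨e⟩ := S2604.result (F := F) (p := 3) (f := 1) (m := 3) le_rfl hcard (by norm_num) le_rfl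
    rw [Nat.card_congr e.toEquiv] at h1
    have h3 : Nat.card (Multiplicative (ZMod 2 × ZMod 1)) = 2 := by
      change Nat.card (ZMod 2 × ZMod 1) = 2
      rw [Nat.card_prod, Nat.card_zmod, Nat.card_zmod]
    rwa [h3] at h1
  clear hc hr hb
  revert z
  rw [← coe_oddForm]
  intro z h
  exact om7_false hF3 h hk hd

end Cfsg.Agent.H341.T3
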