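import Cfsg.Agent.H341.T3Pair
import Cfsg.Agent.H341.T3Exc
import Cfsg.Agent.S0291
import Cfsg.Agent.S2604
import Cfsg.Agent.LieClassical.OrthCenter

/-!
# The rows S3337 and S3368: `Ω₇(3)` (helper341)

The centralizer of a long root element `y` of `Ω₇(3)` has order `2⁵ 3⁹`.
-/

set_option autoImplicit false

namespace Cfsg.Agent.H341.T3.Pair

open QuadraticMap Matrix Module Cfsg.Agent.ClassicalGeometry.Reflection Cfsg.Agent.ClassicalGeometry.SiegelGen
  Cfsg.Agent.H175.OmegaAdjust Subgroup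

variable {F : Type} [Field F] [Fintype F] {ι : Type} [Fintype ι] [DecidableEq ι] {Q : QuadraticForm F (ι → F)}

attribute [local instance] actV

/-- Witt's theorem: the isometry group is transitive on the pairs. -/
theorem exists_iso (hQ : (polarBilin Q).Nondegenerate) {x x' : (ι → F) × (ι → F)} (h : TS Q x) (h' : TS Q x') :
    ∃ g : Cfsg.isometryGroup F ⇑Q, g • x = x' := by
  obtain ⟨g, hg, hgx⟩ := Cfsg.Agent.ClassicalGeometry.WittQuad.extend_family Q hQ 2 ![x.1, x.2] ![x'.1, x'.2]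
    h.li h'.li (by
      intro i
      fin_cases i
      · exact h.u.trans h'.u.symm
      · exact h.w.trans h'.w.symm) (by
      have e1 : polar Q x.2 x.1 = 0 := by rw [polar_comm]; exact h.uw
      have e2 : polar Q x'.2 x'.1 = 0 := by rw [polar_comm]; exact h'.uw
      have e3 : polar Q x.1 x.1 = 0 := by rw [polar_self', h.u, mul_zero]
      have e4 : polar Q x'.1 x'.1 = 0 := by rw [polar_self', h'.u, mul_zero]
      have e5 : polar Q x.2 x.2 = 0 := by rw [polar_self', h.w, mul_zero]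
      have e6 : polar Q x'.2 x'.2 = 0 := by rw [polar_self', h'.w, mul_zero]
      intro i j
      fin_cases i <;> fin_cases j
      · exact e3.trans e4.symm
      · exact h.uw.trans h'.uw.symm
      · exact e1.trans e2.symm
      · exact e5.trans e6.symm)
  refine ⟨toIso Q g hg, ?_⟩
  apply Prod.ext
  · change ((toIso Q g hg : GeneralLinearGroup ι F) : Matrix ι ι F) *ᵥ x.1 = x'.1
    rw [toIso_mulVec]
    exact hgx 0
  · change ((toIso Q g hg : GeneralLinearGroup ι F) : Matrix ι ι F) *ᵥ x.2 = x'.2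
    rw [toIso_mulVec]
    exact hgx 1

/-- `Ω` is transitive on the pairs. -/
theorem exists_omega (h2 : (2 : F) ≠ 0) (hQ : (polarBilin Q).Nondegenerate) (hn : 2 ≤ Fintype.card ι)
    {x x' : (ι → F) × (ι → F)} (h : TS Q x) (h' : TS Q x') {a b : ι → F} (ha : Q a ≠ 0) (hb : Q b ≠ 0)
    (hab : ¬ IsSquare (Q a * Q b)) (ha1 : polar Q a x.1 = 0) (ha2 : polar Q a x.2 = 0) (hb1 : polar Q b x.1 = 0)
    (hb2 : polar Q b x.2 = 0) : ∃ g ∈ Cfsg.Omega F ⇑Q, g • x = x' := by
  obtain ⟨g, hg⟩ := exists_iso hQ h h'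
  have hr : ∀ (v : ι → F) (hv : Q v ≠ 0), polar Q v x.1 = 0 → polar Q v x.2 = 0 →
      reflIso Q v hv ∈ MulAction.stabilizer (Cfsg.isometryGroup F ⇑Q) x := by
    intro v hv h1 h2
    rw [MulAction.mem_stabilizer_iff]
    apply Prod.ext
    · change ((reflIso Q v hv : GeneralLinearGroup ι F) : Matrix ι ι F) *ᵥ x.1 = x.1
      rw [coe_reflIso, reflectionMatrix_mulVec_of_polar_eq_zero Q _ _ h1]
    · change ((reflIso Q v hv : GeneralLinearGroup ι F) : Matrix ι ι F) *ᵥ x.2 = x.2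
      rw [coe_reflIso, reflectionMatrix_mulVec_of_polar_eq_zero Q _ _ h2]
  obtain ⟨s, hs, hgs⟩ := adjust_odd_refl Q h2 hQ hn (MulAction.stabilizer (Cfsg.isometryGroup F ⇑Q) x) a b ha hb hab
    (hr a ha ha1 ha2) (hr b hb hb1 hb2) g
  refine ⟨g * s, hgs, ?_⟩
  rw [mul_smul, MulAction.mem_stabilizer_iff.1 hs, hg]

/-- **The order of the centralizer of a Siegel transformation in `Ω`.** -/
theorem card_cent (h2 : (2 : F) ≠ 0) (hQ : (polarBilin Q).Nondegenerate) (hn : 2 ≤ Fintype.card ι)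
    {x : (ι → F) × (ι → F)} (h : TS Q x) {a b : ι → F} (ha : Q a ≠ 0) (hb : Q b ≠ 0)
    (hab : ¬ IsSquare (Q a * Q b)) (ha1 : polar Q a x.1 = 0) (ha2 : polar Q a x.2 = 0) (hb1 : polar Q b x.1 = 0)
    (hb2 : polar Q b x.2 = 0) : ∃ y : Cfsg.Omega F ⇑Q, (y : Cfsg.isometryGroup F ⇑Q) = sI h ∧
      Nat.card {x' : (ι → F) × (ι → F) | TS Q x'} * Nat.card (centralizer ({y} : Set (Cfsg.Omega F ⇑Q))) =
        Nat.card (SpecialLinearGroup (Fin 2) F) * Nat.card (Cfsg.Omega F ⇑Q) := by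
  have hy : sI h ∈ Cfsg.Omega F ⇑Q := mem_commutator_of_siegel h2 Q hQ _ x.1 x.2 h.u h.w h.uw 1 rfl
  refine ⟨⟨sI h, hy⟩, rfl, ?_⟩
  set y : Cfsg.Omega F ⇑Q := ⟨sI h, hy⟩ with hyd
  set C := centralizer ({y} : Set (Cfsg.Omega F ⇑Q)) with hC
  set S := MulAction.stabilizer (Cfsg.Omega F ⇑Q) x with hS
  have hcomm : ∀ g : Cfsg.Omega F ⇑Q, g ∈ C ↔ sg Q (g • x) = sg Q x := by
    intro g
    have h1 : sg Q (g • x) = sg Q x ↔ sI (h.smul (g : Cfsg.isometryGroup F ⇑Q)) = sI h := by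
      rw [sI_eq_iff]
      rfl
    rw [h1, ← conj_sI, hC, mem_centralizer_singleton_iff]
    constructor
    · intro h3
      have h4 : (g : Cfsg.isometryGroup F ⇑Q) * sI h = sI h * g := congrArg Subtype.val h3
      rw [h4, mul_inv_cancel_right]
    · intro h3
      apply Subtype.ext
      change (g : Cfsg.isometryGroup F ⇑Q) * sI h = sI h * g
      rw [mul_inv_eq_iff_eq_mul] at h3
      exact h3
  have hSC : S ≤ C := by
    intro g hg
    rw [hcomm, MulAction.mem_stabilizer_iff.1 hg]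
  -- the orbit of `Ω`
  have ho : MulAction.orbit (Cfsg.Omega F ⇑Q) x = {x' | TS Q x'} := by
    ext x'
    constructor
    · rintro ⟨g, rfl⟩
      exact h.smul (g : Cfsg.isometryGroup F ⇑Q)
    · intro h'
      obtain ⟨g, hg, hgx⟩ := exists_omega h2 hQ hn h h' ha hb hab ha1 ha2 hb1 hb2
      exact ⟨⟨g, hg⟩, hgx⟩
  have ho' : MulAction.orbit C x = {x' | TS Q x' ∧ sg Q x' = sg Q x} := by
    ext x'
    constructor
    · rintro ⟨g, rfl⟩
      exact ⟨h.smul (g.1 : Cfsg.isometryGroup F ⇑Q), (hcomm g.1).1 g.2⟩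
    · rintro ⟨h', hs⟩
      obtain ⟨g, hg, hgx⟩ := exists_omega h2 hQ hn h h' ha hb hab ha1 ha2 hb1 hb2
      have h3 : (⟨g, hg⟩ : Cfsg.Omega F ⇑Q) ∈ C := by
        rw [hcomm]
        rw [← hs, ← hgx]
        rfl
      exact ⟨⟨⟨g, hg⟩, h3⟩, hgx⟩
  have i1 := MulAction.index_stabilizer (Cfsg.Omega F ⇑Q) x
  have i2 := MulAction.index_stabilizer C x
  rw [ho, ← Nat.card_coe_set_eq] at i1
  rw [ho', ← Nat.card_coe_set_eq, card_fibre hQ h] at i2
  have h3 : Nat.card (MulAction.stabilizer C x) = Nat.card S := by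
    have h4 : MulAction.stabilizer C x = S.subgroupOf C := by
      ext g
      rfl
    rw [h4]
    exact Nat.card_congr (subgroupOfEquivOfLe hSC).toEquiv
  have h5 := card_mul_index S
  have h6 := card_mul_index (MulAction.stabilizer C x)
  rw [h3, i2] at h6
  rw [i1] at h5
  rw [← h5, ← h6]
  ring

end Cfsg.Agent.H341.T3.Pair
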