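import Cfsg.Agent.H175.OmegaAdjust
import Cfsg.Agent.ClassicalGeometry.SiegelGen
import Cfsg.Agent.ClassicalGeometry.PSL2Basic
import Cfsg.Agent.LieClassical.OrthTrans

/-!
# Long root elements of orthogonal groups: pairs of orthogonal singular vectors (helper341)

`TS Q x`: `x = (u, w)` spans a totally singular line. The group `Ω(Q)` is transitive on these pairs (`exists_omega`), and
the pairs with the same Siegel transformation are `SL₂(F)`-related (`card_fibre`).
`card_cent`: `|X| |C_Ω(y)| = |SL₂(F)| |Ω|` for a Siegel transformation `y`, `X` the set of the pairs.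
-/

set_option autoImplicit false

namespace Cfsg.Agent.H341.T3.Pair

open QuadraticMap Matrix Module Cfsg.Agent.ClassicalGeometry.Reflection Cfsg.Agent.ClassicalGeometry.SiegelGen
  Cfsg.Agent.H175.OmegaAdjust

variable {F : Type} [Field F] {ι : Type} [Fintype ι] [DecidableEq ι]

/-- the pair `x` spans a totally singular line -/
structure TS (Q : QuadraticForm F (ι → F)) (x : (ι → F) × (ι → F)) : Prop where
  u : Q x.1 = 0
  w : Q x.2 = 0
  uw : polar Q x.1 x.2 = 0
  u0 : x.1 ≠ 0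
  ind : ∀ c : F, c • x.1 ≠ x.2

theorem TS.li {Q : QuadraticForm F (ι → F)} {x : (ι → F) × (ι → F)} (h : TS Q x) :
    LinearIndependent F ![x.1, x.2] := (LinearIndependent.pair_iff' h.u0).2 h.ind

theorem TS.of_li {Q : QuadraticForm F (ι → F)} {x : (ι → F) × (ι → F)} (hu : Q x.1 = 0) (hw : Q x.2 = 0)
    (huw : polar Q x.1 x.2 = 0) (h : LinearIndependent F ![x.1, x.2]) : TS Q x := by
  have h0 : x.1 ≠ 0 := h.ne_zero 0
  exact ⟨hu, hw, huw, h0, (LinearIndependent.pair_iff' h0).1 h⟩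

/-! ### the action -/

/-- the action of the isometry group on vectors -/
@[reducible] def actV (Q : QuadraticForm F (ι → F)) : MulAction (Cfsg.isometryGroup F ⇑Q) (ι → F) where
  smul g v := ((g : GeneralLinearGroup ι F) : Matrix ι ι F) *ᵥ v
  one_smul v := Matrix.one_mulVec v
  mul_smul g h v := (Matrix.mulVec_mulVec v _ _).symm

section Act

variable {Q : QuadraticForm F (ι → F)}

attribute [local instance] actV

theorem smul_def (g : Cfsg.isometryGroup F ⇑Q) (v : ι → F) :
    g • v = ((g : GeneralLinearGroup ι F) : Matrix ι ι F) *ᵥ v := rfl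

theorem Q_smul (g : Cfsg.isometryGroup F ⇑Q) (v : ι → F) : Q (g • v) = Q v := g.2 v v

theorem smul_add' (g : Cfsg.isometryGroup F ⇑Q) (v w : ι → F) : g • (v + w) = g • v + g • w := Matrix.mulVec_add _ _ _

theorem smul_smul' (g : Cfsg.isometryGroup F ⇑Q) (c : F) (w : ι → F) : g • (c • w) = c • (g • w) :=
  Matrix.mulVec_smul _ _ _

theorem polar_smul (g : Cfsg.isometryGroup F ⇑Q) (v w : ι → F) : polar Q (g • v) (g • w) = polar Q v w := by
  rw [polar, polar, ← smul_add', Q_smul, Q_smul, Q_smul]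

theorem TS.smul {x : (ι → F) × (ι → F)} (h : TS Q x) (g : Cfsg.isometryGroup F ⇑Q) : TS Q (g • x) where
  u := by
    change Q (g • x.1) = 0
    rw [Q_smul, h.u]
  w := by
    change Q (g • x.2) = 0
    rw [Q_smul, h.w]
  uw := by
    change polar Q (g • x.1) (g • x.2) = 0
    rw [polar_smul, h.uw]
  u0 := by
    intro h0
    apply h.u0
    have h1 : g • x.1 = g • (0 : ι → F) := by
      change g • x.1 = 0 at h0
      rw [h0]
      exact (Matrix.mulVec_zero _).symm
    exact (MulAction.injective g) h1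
  ind := by
    intro c hc
    apply h.ind c
    have h1 : g • (c • x.1) = g • x.2 := by
      rw [smul_smul']
      exact hc
    exact (MulAction.injective g) h1

/-- the Siegel transformation of a pair -/
def sg (Q : QuadraticForm F (ι → F)) (x : (ι → F) × (ι → F)) : Matrix ι ι F := Cfsg.siegelMatrix (⇑Q) x.1 x.2 1

theorem sg_mulVec (x : (ι → F) × (ι → F)) (v : ι → F) :
    sg Q x *ᵥ v = v + (polar Q x.1 v • x.2 - polar Q x.2 v • x.1) := by
  rw [sg, siegelMatrix_mulVec, one_smul]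

/-- the Siegel transformation as an isometry -/
def sI {x : (ι → F) × (ι → F)} (h : TS Q x) : Cfsg.isometryGroup F ⇑Q := siegelIso Q x.1 x.2 h.u h.w h.uw 1

theorem coe_sI {x : (ι → F) × (ι → F)} (h : TS Q x) :
    ((sI h : GeneralLinearGroup ι F) : Matrix ι ι F) = sg Q x := rfl

theorem sI_eq_iff {x x' : (ι → F) × (ι → F)} (h : TS Q x) (h' : TS Q x') : sI h = sI h' ↔ sg Q x = sg Q x' := by
  constructor
  · intro h1
    rw [← coe_sI h, ← coe_sI h', h1]
  · intro h1
    apply Subtype.ext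
    apply Units.ext
    exact h1

theorem conj_sI {x : (ι → F) × (ι → F)} (h : TS Q x) (g : Cfsg.isometryGroup F ⇑Q) :
    g * sI h * g⁻¹ = sI (h.smul g) := by
  apply Subtype.ext
  apply Units.ext
  exact conj_siegel Q g (sI h) x.1 x.2 1 rfl

theorem exists_dual (hQ : (polarBilin Q).Nondegenerate) {a b : ι → F} (h : ∀ c : F, a ≠ c • b) :
    ∃ y, polar Q b y = 0 ∧ polar Q a y = 1 :=
  Cfsg.Agent.LieClassical.OrthTrans.exists_sep (Cfsg.Agent.LieClassical.OrthCore.nondeg_of_nondegenerate hQ) h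

theorem TS.ind' {x : (ι → F) × (ι → F)} (h : TS Q x) (c : F) : x.1 ≠ c • x.2 := by
  intro hc
  have h1 := LinearIndependent.pair_iff.1 h.li 1 (-c) (by rw [one_smul, neg_smul, ← hc, add_neg_cancel])
  exact one_ne_zero h1.1

theorem TS.ind'' {x : (ι → F) × (ι → F)} (h : TS Q x) (c : F) : x.2 ≠ c • x.1 := fun hc => h.ind c hc.symm

/-- the pair transformed by a matrix -/
def tr (A : Matrix (Fin 2) (Fin 2) F) (x : (ι → F) × (ι → F)) : (ι → F) × (ι → F) :=
  (A 0 0 • x.1 + A 0 1 • x.2, A 1 0 • x.1 + A 1 1 • x.2)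

theorem sg_tr (A : Matrix (Fin 2) (Fin 2) F) (x : (ι → F) × (ι → F)) (v : ι → F) :
    sg Q (tr A x) *ᵥ v = v + A.det • (polar Q x.1 v • x.2 - polar Q x.2 v • x.1) := by
  rw [sg_mulVec, Matrix.det_fin_two]
  simp only [tr, polar_add_left, polar_smul_left, smul_eq_mul]
  module

theorem TS.tr {x : (ι → F) × (ι → F)} (h : TS Q x) {A : Matrix (Fin 2) (Fin 2) F} (hA : A.det = 1) :
    TS Q (tr A x) := by
  have hwu : polar Q x.2 x.1 = 0 := by rw [polar_comm]; exact h.uw
  have hq : ∀ a b : F, Q (a • x.1 + b • x.2) = 0 := by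
    intro a b
    rw [map_add', QuadraticMap.map_smul, QuadraticMap.map_smul, h.u, h.w, polar_smul_left, polar_smul_right, h.uw]
    simp
  have huu : polar Q x.1 x.1 = 0 := by rw [polar_self', h.u, mul_zero]
  have hww : polar Q x.2 x.2 = 0 := by rw [polar_self', h.w, mul_zero]
  refine TS.of_li (hq _ _) (hq _ _) ?_ ?_
  · change polar Q (A 0 0 • x.1 + A 0 1 • x.2) (A 1 0 • x.1 + A 1 1 • x.2) = 0
    simp only [polar_add_left, polar_add_right, polar_smul_left, polar_smul_right, h.uw, hwu, huu, hww]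
    simp
  · rw [LinearIndependent.pair_iff]
    intro s t hst
    change s • (A 0 0 • x.1 + A 0 1 • x.2) + t • (A 1 0 • x.1 + A 1 1 • x.2) = 0 at hst
    have h1 : (s * A 0 0 + t * A 1 0) • x.1 + (s * A 0 1 + t * A 1 1) • x.2 = 0 := by
      rw [← hst]
      module
    obtain ⟨h2, h3⟩ := LinearIndependent.pair_iff.1 h.li _ _ h1
    rw [Matrix.det_fin_two] at hA
    constructor
    · linear_combination (A 1 1) * h2 - (A 1 0) * h3 - s * hA
    · linear_combination (A 0 0) * h3 - (A 0 1) * h2 - t * hA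

/-- **The pairs with the same Siegel transformation.** -/
theorem fibre (hQ : (polarBilin Q).Nondegenerate) {x x' : (ι → F) × (ι → F)} (h : TS Q x) (h' : TS Q x')
    (hs : sg Q x' = sg Q x) : ∃ A : Matrix (Fin 2) (Fin 2) F, A.det = 1 ∧ x' = tr A x := by
  obtain ⟨y, hy1, hy2⟩ := exists_dual hQ h'.ind'
  obtain ⟨z, hz1, hz2⟩ := exists_dual hQ h'.ind''
  -- `y`: `polar x'.2 y = 0`, `polar x'.1 y = 1`; `z` : `polar x'.1 z = 0`, `polar x'.2 z = 1`
  have e1 := sg_mulVec (Q := Q) x' y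
  rw [hs, sg_mulVec, hy1, hy2] at e1
  have e2 := sg_mulVec (Q := Q) x' z
  rw [hs, sg_mulVec, hz1, hz2] at e2
  have e1' : x'.2 = polar Q x.1 y • x.2 - polar Q x.2 y • x.1 := by
    have := add_left_cancel e1
    rw [this]
    module
  have e2' : x'.1 = -(polar Q x.1 z • x.2 - polar Q x.2 z • x.1) := by
    have := add_left_cancel e2
    rw [this]
    module
  let A : Matrix (Fin 2) (Fin 2) F := !![polar Q x.2 z, -polar Q x.1 z; -polar Q x.2 y, polar Q x.1 y]
  have hx' : x' = tr A x := by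
    apply Prod.ext
    · rw [e2']
      change _ = polar Q x.2 z • x.1 + (-polar Q x.1 z) • x.2
      module
    · rw [e1']
      change _ = (-polar Q x.2 y) • x.1 + (polar Q x.1 y) • x.2
      module
  refine ⟨A, ?_, hx'⟩
  -- the determinant
  obtain ⟨t, ht1, ht2⟩ := exists_dual hQ h.ind'
  have e3 := sg_tr (Q := Q) A x t
  rw [← hx', hs, sg_mulVec, ht1, ht2] at e3
  have e4 := add_left_cancel e3
  have e5 : (A.det - 1) • x.2 = 0 := by
    rw [sub_smul, one_smul, sub_eq_zero]
    simpa using e4.symm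
  rcases smul_eq_zero.1 e5 with h5 | h5
  · exact sub_eq_zero.1 h5
  · exfalso
    apply h.ind 0
    rw [zero_smul, h5]

theorem tr_injective {x : (ι → F) × (ι → F)} (h : TS Q x) {A B : Matrix (Fin 2) (Fin 2) F} (hAB : tr A x = tr B x) :
    A = B := by
  have h1 := congrArg Prod.fst hAB
  have h2 := congrArg Prod.snd hAB
  change A 0 0 • x.1 + A 0 1 • x.2 = B 0 0 • x.1 + B 0 1 • x.2 at h1
  change A 1 0 • x.1 + A 1 1 • x.2 = B 1 0 • x.1 + B 1 1 • x.2 at h2
  obtain ⟨a1, a2⟩ := LinearIndependent.pair_iff.1 h.li (A 0 0 - B 0 0) (A 0 1 - B 0 1) (by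
    rw [sub_smul, sub_smul]
    linear_combination (exp := 1) h1)
  obtain ⟨a3, a4⟩ := LinearIndependent.pair_iff.1 h.li (A 1 0 - B 1 0) (A 1 1 - B 1 1) (by
    rw [sub_smul, sub_smul]
    linear_combination (exp := 1) h2)
  ext i j
  fin_cases i <;> fin_cases j
  · exact sub_eq_zero.1 a1
  · exact sub_eq_zero.1 a2
  · exact sub_eq_zero.1 a3
  · exact sub_eq_zero.1 a4

theorem card_fibre (hQ : (polarBilin Q).Nondegenerate) {x : (ι → F) × (ι → F)} (h : TS Q x) :
    Nat.card {x' : (ι → F) × (ι → F) | TS Q x' ∧ sg Q x' = sg Q x} = Nat.card (SpecialLinearGroup (Fin 2) F) := by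
  symm
  have hsg : ∀ A : SpecialLinearGroup (Fin 2) F, sg Q (tr (A : Matrix (Fin 2) (Fin 2) F) x) = sg Q x := by
    intro A
    apply Matrix.mulVec_injective
    funext v
    rw [sg_tr, sg_mulVec, A.2, one_smul]
  refine Nat.card_congr (Equiv.ofBijective
    (fun A : SpecialLinearGroup (Fin 2) F => (⟨tr (A : Matrix (Fin 2) (Fin 2) F) x, h.tr A.2, hsg A⟩ :
      {x' : (ι → F) × (ι → F) | TS Q x' ∧ sg Q x' = sg Q x})) ⟨?_, ?_⟩)
  · intro A B hAB
    exact Subtype.ext (tr_injective h (congrArg Subtype.val hAB))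
  · rintro ⟨x', hx', hs⟩
    obtain ⟨A, hA, rfl⟩ := fibre hQ h hx' hs
    exact ⟨⟨A, hA⟩, rfl⟩

end Act

end Cfsg.Agent.H341.T3.Pair
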