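import Cfsg.Agent.H341.T3Lin
import Cfsg.Agent.LieClassical.SympPerfect
import Cfsg.Agent.S0775

/-!
# The rows S3337 and S3368: symplectic groups in characteristic three (helper341)
-/

set_option autoImplicit false

namespace Cfsg.Agent.H341.T3

open Cfsg Subgroup H349.T3 H128.Cross3 H128.Char3 H341.ThreeList
open ClassicalGeometry.SympBasic LieClassical.SympPerfect
open scoped Matrix

variable {F : Type} [Field F] [Fintype F]

theorem span_mem {V : Type*} [AddCommGroup V] [Module F V] {v w : V} (h : w ∈ Submodule.span F {v}) :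
    ∃ a : F, w = a • v := by
  obtain ⟨a, ha⟩ := Submodule.mem_span_singleton.1 h
  exact ⟨a, ha.symm⟩

theorem sp_cent (hF : Fintype.card F = 3) {m : ℕ} (hm : 1 ≤ m) : ∃ y : Matrix.symplecticGroup (Fin m) F,
    orderOf y = 3 ∧ 3 ^ (1 + 2 * (m - 1)) * (3 ^ ((m - 1) ^ 2) * ∏ i ∈ Finset.range (m - 1), (3 ^ (2 * (i + 1)) - 1)) ∣
      Nat.card (centralizer ({y} : Set (Matrix.symplecticGroup (Fin m) F))) := by
  have : CharP F 3 := by
    obtain ⟨f, hf, hcard, hchar⟩ := char_three (F := F) (by rw [hF])
    exact hchar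
  let i : Fin m := ⟨0, hm⟩
  let v : Fin m ⊕ Fin m → F := Pi.single (.inl i) 1
  have hv : v ≠ 0 := by
    intro h
    have := congrFun h (.inl i)
    simp [v] at this
  refine ⟨transv v 1, ?_, ?_⟩
  · apply orderOf_eq_prime
    · rw [pow_succ, pow_two, transv_mul, transv_mul]
      have : (1 + 1 + 1 : F) = 0 := by
        have := CharP.cast_eq_zero F 3
        push_cast at this
        linear_combination this
      rw [this, transv_zero]
    · intro h
      have h1 : ((transv v 1 : Matrix.symplecticGroup (Fin m) F) : Matrix (Fin m ⊕ Fin m) (Fin m ⊕ Fin m) F) *ᵥ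
          (Pi.single (.inr i) 1) = Pi.single (.inr i) 1 := by
        rw [h]
        exact Matrix.one_mulVec _
      rw [coe_transv, sympTransvection_mulVec] at h1
      have h2 := congrFun h1 (.inl i)
      rw [sympForm_eq_sum] at h2
      simp [v, Pi.single_apply] at h2
  · have h1 := S0775.result (F := F) hF m 1 hm (Submodule.span F {v}) (finrank_span_singleton hv) (by
      intro u hu w hw
      obtain ⟨a, rfl⟩ := span_mem hu
      obtain ⟨b, rfl⟩ := span_mem hw
      rw [sympForm_smul_left, sympForm_smul_right, sympForm_self, mul_zero, mul_zero])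
    have h2 : stabilizing (spToMat m F) (Submodule.span F {v} : Set (Fin m ⊕ Fin m → F)) ≤
        centralizer ({transv v 1} : Set (Matrix.symplecticGroup (Fin m) F)) := by
      intro g hg
      rw [mem_centralizer_singleton_iff, ← mul_inv_eq_iff_eq_mul, conj_transv]
      have h3 : (g : Matrix (Fin m ⊕ Fin m) (Fin m ⊕ Fin m) F) *ᵥ v ∈ Submodule.span F {v} :=
        (hg v).1 (Submodule.mem_span_singleton_self v)
      obtain ⟨a, ha⟩ := span_mem h3
      have ha0 : a ≠ 0 := by
        rintro rfl
        apply hv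
        have h4 := coe_mul_mulVec g⁻¹ g v
        rw [inv_mul_cancel, ha, zero_smul, Matrix.mulVec_zero] at h4
        rw [← h4]
        exact (Matrix.one_mulVec v).symm
      have ha2 : a ^ 2 = 1 := by
        have := FiniteField.pow_card_sub_one_eq_one a ha0
        rwa [hF] at this
      rw [ha, transv_smul, ha2, one_mul]
    refine dvd_trans ?_ (card_dvd_of_le h2)
    rw [h1]
    exact Dvd.dvd.mul_right (dvd_of_eq (by norm_num)) _

theorem sp_center_three (hF : Fintype.card F = 3) {m : ℕ} (hm : 1 ≤ m) :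
    Nat.card (center (Matrix.symplecticGroup (Fin m) F)) = 2 := by
  rw [S0246.result (F := F) rfl m hm, hF]
  decide

theorem psp_three {m : ℕ} (hm : 2 ≤ m) (hF : 3 ∣ Fintype.card F) {z : PSp m F} {k d m' : ℕ} (h : Cand z k d m') :
    False := by
  obtain ⟨f, hf, hcard, hchar⟩ := char_three hF
  have hfin : Finite (Matrix.symplecticGroup (Fin m) F) :=
    Finite.of_injective (fun x => (x : Matrix (Fin m ⊕ Fin m) (Fin m ⊕ Fin m) F)) Subtype.val_injective
  have hc := card_psp (F := F) (m := m) (by omega)
  have hq1 : 1 ≤ Fintype.card F := Fintype.card_pos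
  have hr : ¬ 3 ∣ ∏ i ∈ Finset.range m, (Fintype.card F ^ (2 * (i + 1)) - 1) :=
    not_dvd_prod _ _ fun j _ => not_dvd_sub_one hF hq1 (by omega)
  have hb : f * (m ^ 2) = k := by
    have h1 := (pow_dvd_iff not_dvd_gcd_two hr hcard hc).1 h.dvd
    have h2 : ¬ k + 1 ≤ f * (m ^ 2) := fun h' => h.ndvd ((pow_dvd_iff not_dvd_gcd_two hr hcard hc).2 h')
    omega
  have hkl := h.kl
  have hku := h.ku
  have hm3 : m ≤ 3 := by
    by_contra hcon
    have h1 : 4 * 4 ≤ m ^ 2 := by nlinarith
    nlinarith
  interval_cases m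
  · omega
  · have hf1 : f = 1 := by omega
    have hk : k = 9 := by omega
    subst hf1 hk
    have hF3 : Fintype.card F = 3 := by rw [hcard]; norm_num
    obtain ⟨y, hy, hyc⟩ := sp_cent (F := F) hF3 (m := 3) (by norm_num)
    have hZ := sp_center_three (F := F) hF3 (m := 3) (by norm_num)
    refine false_of_quot h hy (by rw [hZ]; norm_num) (r := 5) (by norm_num) (by norm_num) (by norm_num)
      (by rw [hZ]; norm_num) (dvd_trans ?_ hyc) (dvd_trans ?_ hyc)
    · decide
    · decide

end Cfsg.Agent.H341.T3
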