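import Cfsg.Agent.H341.T3Sp
import Cfsg.Agent.LieClassical.HermCount
import Cfsg.Agent.ClassicalGeometry.PSUAutBasic
import Cfsg.Agent.S0782

/-!
# The rows S3337 and S3368: unitary groups in characteristic three (helper341)
-/

set_option autoImplicit false

namespace Cfsg.Agent.H341.T3

open Cfsg Subgroup H349.T3 H128.Cross3 H128.Char3 H341.ThreeList
open LieClassical.HermBasic LieClassical.HermSiegel LieClassical.HermGen LieClassical.SUBasic
  ClassicalGeometry.PSUAutBasic
open scoped Matrix

variable {F : Type} [Field F] [Fintype F] {n q : ℕ}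

theorem exists_iso (hF : Fintype.card F = q ^ 2) (hn : 3 ≤ n) :
    ∃ u : Fin n → F, u ≠ 0 ∧ hermForm n F q u u = 0 := by
  have hq := two_le hF
  by_contra hcon
  push Not at hcon
  have h1 : Nat.card {v : Fin n → F // hermForm n F q v v = 0} ≤ 1 := by
    have : Subsingleton {v : Fin n → F // hermForm n F q v v = 0} := by
      constructor
      rintro ⟨a, ha⟩ ⟨b, hb⟩
      have ha0 : a = 0 := by
        by_contra h
        exact hcon a h ha
      have hb0 : b = 0 := by
        by_contra h
        exact hcon b h hb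
      exact Subtype.ext (ha0.trans hb0.symm)
    exact Finite.card_le_one_iff_subsingleton.2 this
  rw [LieClassical.HermCount.card_isotropic hF n] at h1
  have h2 : 2 ^ 1 ≤ q ^ (n - 1) := (Nat.pow_le_pow_left hq 1).trans (Nat.pow_le_pow_right (by omega) (by omega))
  have h3 : 2 ^ 1 ≤ q ^ n := (Nat.pow_le_pow_left hq 1).trans (Nat.pow_le_pow_right (by omega) (by omega))
  split_ifs at h1
  · have : 0 < (q ^ n - 1) * (q ^ (n - 1) + 1) := Nat.mul_pos (by omega) (by omega)
    omega
  · have : 0 < (q ^ n + 1) * (q ^ (n - 1) - 1) := Nat.mul_pos (by omega) (by omega)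
    omega

theorem act_transv_ne_one (hF : Fintype.card F = q ^ 2) {u : Fin n → F} (hu : hermForm n F q u u = 0) (hu0 : u ≠ 0)
    {μ : F} (hμ : μ + μ ^ q = 0) (hμ0 : μ ≠ 0) : transv hF u hu μ hμ ≠ 1 := by
  intro h
  have h1 : ∀ v, (μ * hermForm n F q v u) • u = 0 := by
    intro v
    have h2 := act_transv hF hu hμ v
    rw [h, act_one] at h2
    exact (left_eq_add.1 h2)
  obtain ⟨i, hi⟩ := Function.ne_iff.1 hu0
  have h2 : hermForm n F q (Pi.single i 1) u = (u i) ^ q := by
    rw [hermForm, Finset.sum_eq_single i]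
    · rw [Pi.single_eq_same, one_mul]
    · intro j _ hj
      rw [Pi.single_eq_of_ne hj, zero_mul]
    · intro h
      exact absurd (Finset.mem_univ i) h
  have h3 := congrFun (h1 (Pi.single i 1)) i
  rw [h2, Pi.smul_apply, smul_eq_mul, Pi.zero_apply] at h3
  rcases mul_eq_zero.1 h3 with h4 | h4
  · rcases mul_eq_zero.1 h4 with h5 | h5
    · exact hμ0 h5
    · exact hi (pow_eq_zero_iff (by have := two_le hF; omega) |>.1 h5)
  · exact hi h4

theorem su_cent (hF : Fintype.card F = q ^ 2) (hn : 3 ≤ n) (h3 : 3 ∣ Fintype.card F) : ∃ y : SU n F q,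
    orderOf y = 3 ∧ q ^ (2 * n - 3) * (q ^ ((n - 2) * ((n - 2) - 1) / 2) *
      ∏ i ∈ Finset.range (n - 2), (if Even i then q ^ (i + 1) + 1 else q ^ (i + 1) - 1)) ∣
      Nat.card (centralizer ({y} : Set (SU n F q))) := by
  have hq := two_le hF
  obtain ⟨-, -, -, hchar⟩ := char_three (F := F) h3
  have hfin : Finite (Matrix.SpecialLinearGroup (Fin n) F) := H128.ClassicalAb.finite_sl n
  obtain ⟨u, hu0, hu⟩ := exists_iso hF hn
  obtain ⟨μ, hμ0, hμ⟩ := exists_trace_zero_ne hF
  refine ⟨transv hF u hu μ hμ, ?_, ?_⟩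
  · apply orderOf_eq_prime
    · rw [pow_succ, pow_two, transv_mul, transv_mul]
      apply ext_act
      intro v
      have : μ + μ + μ = 0 := by
        have := CharP.cast_eq_zero F 3
        push_cast at this
        linear_combination μ * this
      rw [act_transv, act_one, this, zero_mul, zero_smul, add_zero]
    · exact act_transv_ne_one hF hu hu0 hμ hμ0
  · set t := transv hF u hu μ hμ with ht
    set P : Subgroup (SU n F q) := (stabilizing (slToMat n F) (Submodule.span F {u} : Set (Fin n → F))).subgroupOf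
      (SU n F q) with hP
    have h1 := S0782.result hF n 1 (by omega) (by omega) (Submodule.span F {u}) (finrank_span_singleton hu0) (by
      intro x hx w hw
      obtain ⟨a, rfl⟩ := span_mem hx
      obtain ⟨b, rfl⟩ := span_mem hw
      rw [herm_smul_left, herm_smul_right, hu, mul_zero, mul_zero])
    obtain ⟨i, hi⟩ := Function.ne_iff.1 hu0
    -- the eigenvalue
    have hact : ∀ g : P, ∃ a : F, act g.1 u = a • u := by
      intro g
      have h2 : act g.1 u ∈ Submodule.span F {u} := (g.2 u).1 (Submodule.mem_span_singleton_self u)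
      exact span_mem h2
    let χ : P →* F :=
      { toFun := fun g => (act g.1 u i) / u i
        map_one' := by
          rw [OneMemClass.coe_one, act_one, div_self hi]
        map_mul' := by
          intro g h
          obtain ⟨a, ha⟩ := hact g
          obtain ⟨b, hb⟩ := hact h
          rw [Subgroup.coe_mul, act_mul, hb, act_smul, ha]
          simp only [Pi.smul_apply, smul_eq_mul]
          have hi' : u i ≠ 0 := hi
          field_simp }
    have hχ : ∀ g : P, act g.1 u = χ g • u := by
      intro g
      obtain ⟨a, ha⟩ := hact g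
      have : χ g = a := by
        change (act g.1 u i) / u i = a
        rw [ha, Pi.smul_apply, smul_eq_mul, mul_div_assoc, div_self hi, mul_one]
      rw [this, ha]
    let ψ : P →* Fˣ := (powMonoidHom (q + 1)).comp χ.toHomUnits
    have h2 := card_mul_index ψ.ker
    rw [index_ker] at h2
    have h4 : Nat.card ψ.range ∣ q - 1 := by
      have : IsCyclic ψ.range := inferInstance
      obtain ⟨g, hg⟩ := IsCyclic.exists_generator (α := ψ.range)
      rw [← orderOf_eq_card_of_forall_mem_zpowers hg]
      apply orderOf_dvd_of_pow_eq_one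
      apply Subtype.ext
      obtain ⟨x, hx⟩ := g.2
      rw [SubmonoidClass.coe_pow, ← hx]
      change ((χ.toHomUnits x) ^ (q + 1)) ^ (q - 1) = 1
      apply Units.ext
      rw [← pow_mul, Units.val_pow_eq_pow_val, Units.val_one]
      have h5 : (q + 1) * (q - 1) = Fintype.card F - 1 := by
        rw [hF, ← Nat.sq_sub_sq, one_pow]
      rw [h5]
      exact FiniteField.pow_card_sub_one_eq_one _ (Units.ne_zero _)
    have h5 : Nat.card ψ.ker ∣ Nat.card (centralizer ({t} : Set (SU n F q))) := by
      have h6 : ψ.ker.map P.subtype ≤ centralizer ({t} : Set (SU n F q)) := by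
        rintro _ ⟨g, hg, rfl⟩
        have h7 : (χ g) ^ (q + 1) = 1 := congrArg Units.val (MonoidHom.mem_ker.1 hg)
        rw [mem_centralizer_singleton_iff]
        apply ext_act
        intro v
        change act (g.1 * t) v = act (t * g.1) v
        rw [act_mul, act_mul, ht, act_transv, act_transv, act_add, act_smul, hχ g]
        congr 1
        have h8 : hermForm n F q (act g.1 v) u * (χ g) ^ q = hermForm n F q v u := by
          rw [← herm_act g.1 v u, hχ g, herm_smul_right]
          ring
        rw [← h8, smul_smul]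
        congr 1
        linear_combination (μ * hermForm n F q (act g.1 v) u) * h7
      have h7 := card_dvd_of_le h6
      rwa [card_map_of_injective Subtype.val_injective] at h7
    have h6 : Nat.card P ∣ Nat.card (centralizer ({t} : Set (SU n F q))) * (q - 1) := by
      rw [← h2]
      exact Nat.mul_dvd_mul h5 h4
    have h7 := Nat.mul_dvd_mul_left (q + 1) h6
    rw [h1] at h7
    have h8 : 0 < (q + 1) * (q - 1) := Nat.mul_pos (by omega) (by omega)
    apply Nat.dvd_of_mul_dvd_mul_left h8
    refine dvd_trans (dvd_of_eq ?_) (h7.trans (dvd_of_eq ?_))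
    · have h9 : (q + 1) * (q - 1) = q ^ 2 - 1 := by rw [← Nat.sq_sub_sq, one_pow]
      rw [h9]
      simp only [Fin.prod_univ_one, Fin.val_zero, pow_zero, pow_one, one_mul, mul_one]
      ring
    · ring

theorem center_su_trivial (hF : Fintype.card F = q ^ 2) (hn : 3 ≤ n) (hc : Nat.Coprime n (q + 1)) :
    Nat.card (center (SU n F q)) = 1 := by
  rw [Subgroup.card_eq_one, eq_bot_iff]
  intro x hx
  obtain ⟨c, hcn, hcq, rfl⟩ := (mem_center_SU_iff hF hn x).1 hx
  have h1 : c = 1 := by
    have h3 := pow_gcd_eq_one.2 ⟨hcn, hcq⟩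
    rwa [hc, pow_one] at h3
  rw [mem_bot]
  apply ext_act
  intro v
  rw [act_suScalar, act_one, h1, one_smul]

theorem psu_three (hF : Fintype.card F = q ^ 2) (hn : 3 ≤ n) (hq : 3 ∣ q) {z : PSU n F q} {k d m : ℕ}
    (h : Cand z k d m) : False := by
  have : Fact (Nat.Prime 3) := ⟨Nat.prime_three⟩
  have hfin : Finite (Matrix.SpecialLinearGroup (Fin n) F) := H128.ClassicalAb.finite_sl n
  have hF3 : 3 ∣ Fintype.card F := by
    rw [hF]
    exact hq.trans (dvd_pow_self q (by norm_num))
  obtain ⟨g, hg, hcard, hchar⟩ := char_three hF3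
  obtain ⟨f, -, hqf⟩ : ∃ l ≤ g, q = 3 ^ l := (Nat.dvd_prime_pow Nat.prime_three).1 (by
    rw [← hcard, hF]
    exact Dvd.intro_left q (by ring))
  have hf1 : 1 ≤ f := by
    by_contra hcon
    rw [show f = 0 by omega, pow_zero] at hqf
    rw [hqf] at hq
    omega
  have hc := card_psu (F := F) hF (show 2 ≤ n by omega)
  have hq1 : 1 ≤ q := by
    rw [hqf]
    exact Nat.one_le_pow _ _ (by norm_num)
  have hd : ¬ 3 ∣ Nat.gcd n (q + 1) := fun h' => by
    have := h'.trans (Nat.gcd_dvd_right _ _)
    omega
  have hr : ¬ 3 ∣ ∏ j ∈ Finset.range (n - 1), (if Even j then q ^ (j + 2) - 1 else q ^ (j + 2) + 1) :=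
    not_dvd_prod _ _ fun j _ => by
      split_ifs
      · exact not_dvd_sub_one hq hq1 (by omega)
      · exact not_dvd_add_one hq (by omega)
  have hb : f * (n * (n - 1) / 2) = k := by
    have h1 := (pow_dvd_iff hd hr hqf hc).1 h.dvd
    have h2 : ¬ k + 1 ≤ f * (n * (n - 1) / 2) := fun h' => h.ndvd ((pow_dvd_iff hd hr hqf hc).2 h')
    omega
  have hkl := h.kl
  have hku := h.ku
  have hn6 : n ≤ 5 := by
    by_contra hcon
    have h1 : 6 * 5 ≤ n * (n - 1) := Nat.mul_le_mul (by omega) (by omega)
    have h2 : 15 ≤ n * (n - 1) / 2 := by omega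
    nlinarith
  obtain ⟨y, hy, hyc⟩ := su_cent hF hn hF3
  interval_cases n
  · -- `PSU₃(27)`
    have hf3 : f = 3 := by omega
    have hk : k = 9 := by omega
    subst hf3 hk
    have hq27 : q = 27 := by rw [hqf]; norm_num
    subst hq27
    have hZ : Nat.card (center (SU 3 F 27)) = 1 := center_su_trivial hF (by norm_num) (by decide)
    refine false_of_quot h hy (by rw [hZ]; norm_num) (r := 7) (by norm_num) (by norm_num) (by norm_num)
      (by rw [hZ]; norm_num) (dvd_trans ?_ hyc) (dvd_trans ?_ hyc)
    · decide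
    · decide
  · omega
  · -- `PSU₅(3)`
    have hf3 : f = 1 := by omega
    have hk : k = 10 := by omega
    subst hf3 hk
    have hq3 : q = 3 := by rw [hqf]; norm_num
    subst hq3
    have hZ : Nat.card (center (SU 5 F 3)) = 1 := center_su_trivial hF (by norm_num) (by decide)
    refine false_of_quot h hy (by rw [hZ]; norm_num) (r := 7) (by norm_num) (by norm_num) (by norm_num)
      (by rw [hZ]; norm_num) (dvd_trans ?_ hyc) (dvd_trans ?_ hyc)
    · decide
    · decide

end Cfsg.Agent.H341.T3
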