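import Cfsg.Agent.H341.ThreeElts

/-!
# Elements of order 3 in `PSL₂(q)`, `PSL₃(q)`, `PSU₃(q)` (helper341)

* `psl2_elt` : a cyclic torus; `psl2_three` : self-centralizing subgroups of order 3 only for `q = 4, 5, 7`;
  `psl2_nine` : elementary abelian Sylow 3-subgroups of order 9 only for `q = 9`;
* `psl3_elt`, `psu3_elt` : an element of order `q - 1` (`q ≡ 2 mod 3`), resp. `q + 1` (`q ≡ 1 mod 3`) commuting with
  an element of order 3;
* `Tri K` : commuting `a`, `b` of order 3, `b ∉ ⟨a⟩`, with `a`, `b`, `a b` conjugate;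
  `psl3_tri`, `psu3_tri` : `PSL₃(q)`, `q ≡ 1 mod 3` and `PSU₃(q)`, `q ≡ 2 mod 3`.
-/

set_option autoImplicit false

namespace Cfsg.Agent.H341.ThreeElts

open Matrix Subgroup Cfsg Cfsg.Agent.Phan

universe u v w

/-- an element of order `n` from a divisibility -/
theorem exists_orderOf {G : Type u} [Group G] {h : G} {n : ℕ} (h0 : orderOf h ≠ 0) (hn : n ∣ orderOf h) :
    orderOf (h ^ (orderOf h / n)) = n := by
  obtain ⟨k, hk⟩ := hn
  have hn0 : 0 < n := Nat.pos_of_ne_zero fun h' => h0 (by rw [hk, h', zero_mul])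
  have hk0 : 0 < k := Nat.pos_of_ne_zero fun h' => h0 (by rw [hk, h', mul_zero])
  rw [hk, Nat.mul_div_cancel_left _ hn0, orderOf_pow' h hk0.ne', hk, Nat.gcd_eq_right (Dvd.intro_left _ rfl),
    Nat.mul_div_cancel _ hk0]

section PSL2

variable {F : Type} [Field F] [Fintype F]

theorem finite_psl {n : ℕ} : Finite (ProjectiveSpecialLinearGroup (Fin n) F) := by
  unfold ProjectiveSpecialLinearGroup
  infer_instance

/-- a cyclic torus of order divisible by 3 -/
theorem psl2_elt (hq : ¬ 3 ∣ Fintype.card F) : ∃ h : ProjectiveSpecialLinearGroup (Fin 2) F,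
    (3 ∣ Fintype.card F - 1 ∧ Fintype.card F - 1 ∣ 2 * orderOf h) ∨
      (3 ∣ Fintype.card F + 1 ∧ Fintype.card F + 1 ∣ 2 * orderOf h) := by
  have hq1 : 1 < Fintype.card F := Fintype.one_lt_card
  have h3 : Fintype.card F % 3 = 1 ∨ Fintype.card F % 3 = 2 := by omega
  rcases h3 with h3 | h3
  · obtain ⟨c, hc⟩ := IsCyclic.exists_generator (α := Fˣ)
    have ho : orderOf c = Fintype.card F - 1 := by
      rw [orderOf_eq_card_of_forall_mem_zpowers hc, Nat.card_units, Nat.card_eq_fintype_card]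
    refine ⟨ClassicalGeometry.PSLTorus.pr F (dg F c), Or.inl ⟨by omega, ?_⟩⟩
    have h1 := pow_orderOf_eq_one (ClassicalGeometry.PSLTorus.pr F (dg F c))
    rw [← map_pow, ← map_pow, ClassicalGeometry.PSLTorus.pr_eq_one_iff] at h1
    rw [← ho, mul_comm]
    apply orderOf_dvd_of_pow_eq_one
    apply dg_injective
    rw [pow_mul, map_pow, map_one]
    rcases h1 with h1 | h1
    · rw [h1, one_pow]
    · rw [h1]
      apply Subtype.ext
      ext i j
      fin_cases i <;> fin_cases j <;> simp [pow_two]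
  · obtain ⟨C, -, -, -, hcyc, hcard, -⟩ := ClassicalGeometry.PSLTorus.exists_psl_torus F
    obtain ⟨c, hc⟩ := IsCyclic.exists_generator (α := C)
    refine ⟨(c : ProjectiveSpecialLinearGroup (Fin 2) F), Or.inr ⟨by omega, ?_⟩⟩
    have ho : orderOf (c : ProjectiveSpecialLinearGroup (Fin 2) F) =
        (Fintype.card F + 1) / Nat.gcd 2 (Fintype.card F - 1) := by
      rw [← hcard, ← orderOf_eq_card_of_forall_mem_zpowers hc, Subgroup.orderOf_coe]
    rw [ho]
    have hg : Nat.gcd 2 (Fintype.card F - 1) = 1 ∨ Nat.gcd 2 (Fintype.card F - 1) = 2 :=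
      (Nat.dvd_prime Nat.prime_two).1 (Nat.gcd_dvd_left 2 _)
    rcases hg with hg | hg
    · rw [hg, Nat.div_one]
      exact Dvd.intro_left 2 rfl
    · rw [hg]
      have h5 : 2 ∣ Fintype.card F + 1 := by
        have := Nat.gcd_dvd_right 2 (Fintype.card F - 1)
        rw [hg] at this
        omega
      rw [Nat.mul_div_cancel' h5]

/-- self-centralizing subgroups of order 3 -/
theorem psl2_three (hq : ¬ 3 ∣ Fintype.card F) (hq4 : 4 ≤ Fintype.card F)
    (h : ∀ g k : ProjectiveSpecialLinearGroup (Fin 2) F, orderOf g = 3 → g * k = k * g → k ^ 3 = 1) :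
    Fintype.card F = 4 ∨ Fintype.card F = 5 ∨ Fintype.card F = 7 := by
  have := finite_psl (F := F) (n := 2)
  obtain ⟨x, hx⟩ := psl2_elt hq
  have hx3 : 3 ∣ orderOf x := by
    rcases hx with ⟨h1, h2⟩ | ⟨h1, h2⟩ <;>
    · exact (Nat.Coprime.dvd_of_dvd_mul_left (by norm_num) (h1.trans h2))
  have hg := exists_orderOf (orderOf_pos x).ne' hx3
  have hx1 := h _ x hg ((Commute.refl x).pow_left _)
  have h4 : orderOf x = 3 := Nat.dvd_antisymm (orderOf_dvd_of_pow_eq_one hx1) hx3
  rw [h4] at hx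
  rcases hx with ⟨h1, h2⟩ | ⟨h1, h2⟩
  · have h5 := Nat.le_of_dvd (by norm_num) h2
    have h6 : Fintype.card F - 1 = 3 ∨ Fintype.card F - 1 = 6 := by omega
    omega
  · have h5 := Nat.le_of_dvd (by norm_num) h2
    have h6 : Fintype.card F + 1 = 3 ∨ Fintype.card F + 1 = 6 := by omega
    omega

/-- Sylow 3-subgroups of order 9 without elements of order 9 -/
theorem psl2_nine (hq4 : 4 ≤ Fintype.card F) (h9 : 9 ∣ Nat.card (ProjectiveSpecialLinearGroup (Fin 2) F))
    (h27 : ¬ 27 ∣ Nat.card (ProjectiveSpecialLinearGroup (Fin 2) F))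
    (h : ∀ g : ProjectiveSpecialLinearGroup (Fin 2) F, orderOf g ≠ 9) : Fintype.card F = 9 := by
  have := finite_psl (F := F) (n := 2)
  have hc := ThreeList.card_psl (F := F) (n := 2) le_rfl
  rw [show 2 - 1 = 1 by rfl, Finset.prod_range_one] at hc
  norm_num at hc
  by_cases hq : 3 ∣ Fintype.card F
  · -- characteristic three
    obtain ⟨p, hp⟩ := CharP.exists F
    obtain ⟨n, hpp, hn⟩ := FiniteField.card F p
    have hp3 : p = 3 := by
      rw [hn] at hq
      exact ((Nat.prime_dvd_prime_iff_eq Nat.prime_three hpp).1 (Nat.prime_three.dvd_of_dvd_pow hq)).symm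
    subst hp3
    have hn2 : (n : ℕ) ≤ 2 := by
      by_contra h5
      apply h27
      refine ThreeList.of_mul ThreeList.not_dvd_gcd_two hc (Dvd.dvd.mul_right ?_ _)
      rw [hn]
      exact (by norm_num : 27 ∣ 3 ^ 3).trans (pow_dvd_pow 3 (by omega))
    have hn1 : 1 ≤ (n : ℕ) := n.2
    have hn3 : (n : ℕ) = 1 ∨ (n : ℕ) = 2 := by omega
    rcases hn3 with hn3 | hn3
    · rw [hn3] at hn
      omega
    · rw [hn3] at hn
      omega
  · exfalso
    obtain ⟨x, hx⟩ := psl2_elt hq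
    have hq1 : 1 < Fintype.card F := Fintype.one_lt_card
    have h1 : 9 ∣ Fintype.card F ^ 2 - 1 := by
      have h2 : 9 ∣ Fintype.card F * (Fintype.card F ^ 2 - 1) := by
        rw [← hc]
        exact Dvd.dvd.mul_left h9 _
      have h3 : Nat.Coprime 9 (Fintype.card F) := by
        have h4 : Nat.Coprime 3 (Fintype.card F) := (Nat.Prime.coprime_iff_not_dvd Nat.prime_three).2 hq
        have := Nat.Coprime.pow_left 2 h4
        simpa using this
      exact h3.dvd_of_dvd_mul_left h2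
    have h2 : Fintype.card F ^ 2 - 1 = (Fintype.card F - 1) * (Fintype.card F + 1) := by
      have := Nat.sq_sub_sq (Fintype.card F) 1
      rw [one_pow] at this
      rw [this, mul_comm]
    rw [h2] at h1
    have h3 : 9 ∣ orderOf x := by
      have h29 : Nat.Coprime 9 2 := by norm_num
      rcases hx with ⟨h4, h5⟩ | ⟨h4, h5⟩
      · have h6 : ¬ 3 ∣ Fintype.card F + 1 := by omega
        have h7 : Nat.Coprime 9 (Fintype.card F + 1) := by
          have h8 : Nat.Coprime 3 (Fintype.card F + 1) := (Nat.Prime.coprime_iff_not_dvd Nat.prime_three).2 h6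
          have := Nat.Coprime.pow_left 2 h8
          simpa using this
        exact h29.dvd_of_dvd_mul_left ((h7.dvd_of_dvd_mul_right h1).trans h5)
      · have h6 : ¬ 3 ∣ Fintype.card F - 1 := by omega
        have h7 : Nat.Coprime 9 (Fintype.card F - 1) := by
          have h8 : Nat.Coprime 3 (Fintype.card F - 1) := (Nat.Prime.coprime_iff_not_dvd Nat.prime_three).2 h6
          have := Nat.Coprime.pow_left 2 h8
          simpa using this
        exact h29.dvd_of_dvd_mul_left ((h7.dvd_of_dvd_mul_left h1).trans h5)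
    exact h _ (exists_orderOf (orderOf_pos x).ne' h3)

end PSL2

/-! ### the element of order `q ∓ 1` -/

section Elt

variable {F : Type} [Field F] [Fintype F]

/-- `PSL₃(q)`, `q ≡ 2 mod 3` -/
theorem psl3_elt (hq : Fintype.card F % 3 = 2) : ∃ g h : ProjectiveSpecialLinearGroup (Fin 3) F,
    orderOf g = 3 ∧ g * h = h * g ∧ ∀ m : ℕ, h ^ m = 1 → Fintype.card F - 1 ∣ m := by
  obtain ⟨w, hw⟩ := exists_three_SL2 (F := F) (by omega)
  have h0 : 0 + 2 ≤ 3 := by norm_num
  obtain ⟨c, hc⟩ := IsCyclic.exists_generator (α := Fˣ)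
  have ho : orderOf c = Fintype.card F - 1 := by
    rw [orderOf_eq_card_of_forall_mem_zpowers hc, Nat.card_units, Nat.card_eq_fintype_card]
  have hc0 : (c : F) ≠ 0 := c.ne_zero
  set D : SpecialLinearGroup (Fin 3) F := ⟨diagonal ![(c : F), (c : F), (c : F)⁻¹ ^ 2], by
    rw [det_diagonal, Fin.prod_univ_three]
    simp only [Matrix.cons_val_zero, Matrix.cons_val_one, Matrix.cons_val]
    field_simp⟩ with hD
  refine ⟨pslExt (sh 0 h0) (sh_injective 0 h0) w, QuotientGroup.mk' _ D, ?_, ?_, ?_⟩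
  · rw [orderOf_injective _ (pslExt_injective (sh_injective 0 h0) (x₀ := ⟨2, by norm_num⟩) ?_), hw]
    intro i hi
    have := congrArg Fin.val hi
    rw [sh_val] at this
    have := i.2
    simp only at *
    omega
  · change QuotientGroup.mk' _ (slExt (sh 0 h0) (sh_injective 0 h0) w) * QuotientGroup.mk' _ D = _
    rw [← map_mul]
    change QuotientGroup.mk' _ _ = QuotientGroup.mk' _ D * QuotientGroup.mk' _ (slExt (sh 0 h0) (sh_injective 0 h0) w)
    rw [← map_mul]
    congr 1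
    apply Subtype.ext
    change extM (sh 0 h0) w.1 * diagonal _ = diagonal _ * extM (sh 0 h0) w.1
    -- the diagonal matrix through the projection
    have key : (Matrix.diagonal ![(c : F), (c : F), (c : F)⁻¹ ^ 2] : Matrix (Fin 3) (Fin 3) F) =
        (c : F)⁻¹ ^ 2 • 1 + ((c : F) - (c : F)⁻¹ ^ 2) • (inc F (sh 0 h0 : Fin 2 → Fin 3) * (inc F (sh 0 h0 : Fin 2 → Fin 3))ᵀ) := by
      ext i j
      fin_cases i <;> fin_cases j <;> simp [Matrix.mul_apply, Fin.sum_univ_two, inc_apply, sh, Matrix.one_apply]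
    have h1 : extM (sh 0 h0) w.1 * (inc F (sh 0 h0 : Fin 2 → Fin 3) * (inc F (sh 0 h0 : Fin 2 → Fin 3))ᵀ) =
        (inc F (sh 0 h0 : Fin 2 → Fin 3) * (inc F (sh 0 h0 : Fin 2 → Fin 3))ᵀ) * extM (sh 0 h0) w.1 := by
      have he := sh_injective (m := 2) (n := 3) 0 h0
      rw [extM, Matrix.add_mul, Matrix.mul_add, Matrix.one_mul, Matrix.mul_one]
      congr 1
      calc inc F (sh 0 h0) * (w.1 - 1) * (inc F (sh 0 h0))ᵀ * (inc F (sh 0 h0) * (inc F (sh 0 h0))ᵀ)
          = inc F (sh 0 h0) * (w.1 - 1) * ((inc F (sh 0 h0))ᵀ * inc F (sh 0 h0)) * (inc F (sh 0 h0))ᵀ := by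
            simp only [Matrix.mul_assoc]
        _ = inc F (sh 0 h0) * ((inc F (sh 0 h0))ᵀ * inc F (sh 0 h0)) * (w.1 - 1) * (inc F (sh 0 h0))ᵀ := by
            rw [incT_mul_inc he, Matrix.mul_one, Matrix.mul_one]
        _ = _ := by simp only [Matrix.mul_assoc]
    rw [key, Matrix.mul_add, Matrix.add_mul, Matrix.mul_smul, Matrix.smul_mul, Matrix.mul_one, Matrix.one_mul,
      Matrix.mul_smul, Matrix.smul_mul, h1]
  · intro m hm
    rw [← map_pow] at hm
    obtain ⟨r, -, hr⟩ := Matrix.SpecialLinearGroup.mem_center_iff.1 ((QuotientGroup.eq_one_iff _).1 hm)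
    have h1 : (D ^ m).1 = diagonal (![(c : F), (c : F), (c : F)⁻¹ ^ 2] ^ m) := by
      have : (D ^ m).1 = D.1 ^ m := rfl
      rw [this, hD, Matrix.diagonal_pow]
    rw [h1] at hr
    have h2 := congrFun (congrFun hr 0) 0
    have h3 := congrFun (congrFun hr 2) 2
    have h2' : r = (c : F) ^ m := by simpa using h2
    have h3' : r = ((c : F)⁻¹ ^ 2) ^ m := by simpa using h3
    have h4 : (c : F) ^ (3 * m) = 1 := by
      have h5 : (c : F) ^ m = ((c : F)⁻¹ ^ 2) ^ m := by rw [← h2', h3']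
      rw [← pow_mul, inv_pow] at h5
      have h6 : (c : F) ^ m * (c : F) ^ (2 * m) = 1 := by
        rw [h5, inv_mul_cancel₀ (pow_ne_zero _ hc0)]
      rw [← h6, ← pow_add]
      congr 1
      ring
    have h5 : c ^ (3 * m) = 1 := Units.ext (by rw [Units.val_pow_eq_pow_val, h4, Units.val_one])
    have h6 := orderOf_dvd_of_pow_eq_one h5
    rw [ho] at h6
    exact Nat.Coprime.dvd_of_dvd_mul_left (by
      rw [Nat.coprime_comm]
      exact (Nat.Prime.coprime_iff_not_dvd Nat.prime_three).2 (by omega)) h6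

/-- `PSU₃(q)`, `q ≡ 1 mod 3` -/
theorem psu3_elt {q : ℕ} (hF : Fintype.card F = q ^ 2) (hq : q % 3 = 1) : ∃ g h : PSU 3 F q,
    orderOf g = 3 ∧ g * h = h * g ∧ ∀ m : ℕ, h ^ m = 1 → q + 1 ∣ m := by
  obtain ⟨w, hw⟩ := exists_prime_SU2 hF Nat.prime_three (by norm_num)
    (Dvd.dvd.mul_left (ThreeList.three_sq (by omega)) _)
  have h0 : 0 + 2 ≤ 3 := by norm_num
  obtain ⟨d, hd⟩ := IsCyclic.exists_generator (α := Fˣ)
  have hod : orderOf d = (q + 1) * (q - 1) := by
    rw [orderOf_eq_card_of_forall_mem_zpowers hd, LieClassical.HermBasic.card_units_eq hF]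
  have hq1 := one_lt_q hF
  have ho : orderOf (d ^ (q - 1)) = q + 1 := by
    rw [orderOf_pow' d (by omega), hod, Nat.gcd_eq_right (Dvd.intro_left _ rfl), Nat.mul_div_cancel _ (by omega)]
  set c := d ^ (q - 1) with hcd
  have hc0 : (c : F) ≠ 0 := c.ne_zero
  have hcq : (c : F) ^ (q + 1) = 1 := by
    have : c ^ (q + 1) = 1 := by rw [← ho, pow_orderOf_eq_one]
    rw [← Units.val_pow_eq_pow_val, this, Units.val_one]
  set D : SU 3 F q := LieClassical.SUBasic.suDiag q ![(c : F), (c : F), (c : F)⁻¹ ^ 2]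
    (by
      rw [Fin.prod_univ_three]
      simp only [Matrix.cons_val_zero, Matrix.cons_val_one, Matrix.cons_val]
      field_simp)
    (by
      intro i
      fin_cases i
      · exact hcq
      · exact hcq
      · change ((c : F)⁻¹ ^ 2) ^ (q + 1) = 1
        rw [← pow_mul, mul_comm, pow_mul, inv_pow, hcq, inv_one, one_pow]) with hD
  have hDm : mat D = Matrix.diagonal ![(c : F), (c : F), (c : F)⁻¹ ^ 2] := rfl
  refine ⟨psuEmb hF 0 h0 w, QuotientGroup.mk' _ D, ?_, ?_, ?_⟩
  · rw [orderOf_injective _ (psuEmb_injective hF 0 h0 le_rfl (by norm_num)), hw]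
  · change QuotientGroup.mk' _ (emb hF 0 h0 w) * QuotientGroup.mk' _ D = _
    rw [← map_mul, emb, GenPsu.ext_comm_diag hF (sh_injective 0 h0) (a := (c : F)) (b := (c : F)⁻¹ ^ 2) ?_ ?_ hDm w,
      map_mul]
    · rfl
    · intro i
      fin_cases i <;> rfl
    · intro x hx
      fin_cases x
      · exact absurd ⟨0, rfl⟩ hx
      · exact absurd ⟨1, rfl⟩ hx
      · rfl
  · intro m hm
    rw [← map_pow] at hm
    obtain ⟨r, hr1, hr2, hr⟩ := (LieClassical.SUBasic.mem_center_SU_iff hF le_rfl _).1 ((QuotientGroup.eq_one_iff _).1 hm)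
    have h13 : mat (D ^ m) = Matrix.diagonal fun _ => r := by
      rw [hr]
      exact LieClassical.SUBasic.coe_suScalar ..
    have h9 : ∀ k : ℕ, mat (D ^ k) = Matrix.diagonal (![(c : F), (c : F), (c : F)⁻¹ ^ 2] ^ k) := by
      intro k
      induction k with
      | zero => rw [pow_zero, pow_zero, mat_one]; simp
      | succ k ih => rw [pow_succ, mat_mul, ih, hDm, Matrix.diagonal_mul_diagonal, pow_succ (M := Fin 3 → F)]; rfl
    rw [h9] at h13
    have h2 := congrFun (congrFun h13 0) 0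
    have h3 := congrFun (congrFun h13 2) 2
    rw [Matrix.diagonal_apply_eq, Matrix.diagonal_apply_eq] at h2 h3
    have h2' : (c : F) ^ m = r := h2
    have h3' : ((c : F)⁻¹ ^ 2) ^ m = r := h3
    have h4 : (c : F) ^ (3 * m) = 1 := by
      have h5 : (c : F) ^ m = ((c : F)⁻¹ ^ 2) ^ m := by rw [h2', h3']
      rw [← pow_mul, inv_pow] at h5
      have h6 : (c : F) ^ m * (c : F) ^ (2 * m) = 1 := by
        rw [h5, inv_mul_cancel₀ (pow_ne_zero _ hc0)]
      rw [← h6, ← pow_add]
      congr 1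
      ring
    have h5 : c ^ (3 * m) = 1 := Units.ext (by rw [Units.val_pow_eq_pow_val, h4, Units.val_one])
    have h6 := orderOf_dvd_of_pow_eq_one h5
    rw [ho] at h6
    exact Nat.Coprime.dvd_of_dvd_mul_left (by
      rw [Nat.coprime_comm]
      exact (Nat.Prime.coprime_iff_not_dvd Nat.prime_three).2 (by omega)) h6

end Elt

/-! ### conjugate elements of order 3 -/

/-- Commuting `a`, `b` of order 3 with `b ∉ ⟨a⟩` and `a`, `b`, `a b` conjugate. -/
def Tri (K : Type u) [Group K] : Prop :=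
  ∃ a b : K, orderOf a = 3 ∧ orderOf b = 3 ∧ a * b = b * a ∧ b ∉ zpowers a ∧ (∃ g : K, g * a * g⁻¹ = b) ∧
    ∃ g : K, g * a * g⁻¹ = a * b

theorem Tri.congr {K : Type u} [Group K] {L : Type v} [Group L] (e : K ≃* L) (h : Tri K) : Tri L := by
  obtain ⟨a, b, ha, hb, hab, hne, ⟨g, hg⟩, k, hk⟩ := h
  refine ⟨e a, e b, by rw [MulEquiv.orderOf_eq, ha], by rw [MulEquiv.orderOf_eq, hb], by rw [← map_mul, hab, map_mul],
    ?_, ⟨e g, by rw [← map_inv, ← map_mul, ← map_mul, hg]⟩, e k, by rw [← map_inv, ← map_mul, ← map_mul, hk, map_mul]⟩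
  rintro ⟨n, hn⟩
  apply hne
  refine ⟨n, ?_⟩
  apply e.injective
  have hn' : e a ^ n = e b := hn
  change e (a ^ n) = e b
  rw [map_zpow, hn']

section Tri

variable {F : Type} [Field F]

/-- `diag(1, ω, ω²)` -/
def mA (w : F) : Matrix (Fin 3) (Fin 3) F := diagonal ![1, w, w ^ 2]
/-- the permutation matrix -/
def mP (F : Type) [Field F] : Matrix (Fin 3) (Fin 3) F := !![0, 1, 0; 0, 0, 1; 1, 0, 0]
/-- the Fourier matrix -/
def mV (w : F) : Matrix (Fin 3) (Fin 3) F := !![1, 1, 1; 1, w, w ^ 2; 1, w ^ 2, w]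

theorem cube_eq {w : F} (hw : w ^ 2 + w + 1 = 0) : w ^ 3 = 1 := by
  linear_combination (w - 1) * hw

theorem PV {w : F} (hw : w ^ 2 + w + 1 = 0) : mP F * mV w = mV w * mA w := by
  have h3 := cube_eq hw
  ext i j
  fin_cases i <;> fin_cases j <;> simp [mP, mV, mA, Matrix.mul_apply, Fin.sum_univ_three] <;>
    first
    | ring1
    | linear_combination -h3
    | linear_combination (-w) * h3

/-- `diag(1, 1, ω²)` -/
def mE (w : F) : Matrix (Fin 3) (Fin 3) F := diagonal ![1, 1, w ^ 2]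
/-- `diag(t, 1, 1)` -/
def mT (t : F) : Matrix (Fin 3) (Fin 3) F := diagonal ![t, 1, 1]

theorem APEV {w : F} (hw : w ^ 2 + w + 1 = 0) : mA w * mP F * (mE w * mV w) = mE w * mV w * mA w := by
  have h3 := cube_eq hw
  ext i j
  fin_cases i <;> fin_cases j <;>
    simp [mP, mV, mA, mE, Matrix.mul_apply, Fin.sum_univ_three, -mul_eq_mul_right_iff, -mul_eq_mul_left_iff] <;>
    first
    | ring1
    | linear_combination -h3
    | linear_combination (-w) * h3
    | linear_combination h3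
    | linear_combination w * h3
    | linear_combination w ^ 2 * h3
    | linear_combination (-w ^ 2) * h3

theorem TA (w t : F) : mT t * mA w = mA w * mT t := by
  rw [mT, mA, diagonal_mul_diagonal, diagonal_mul_diagonal]
  congr 1
  funext i
  exact mul_comm _ _

theorem PA {w : F} (hw : w ^ 2 + w + 1 = 0) : mP F * mA w = w • (mA w * mP F) := by
  have h3 := cube_eq hw
  ext i j
  fin_cases i <;> fin_cases j <;> simp [mP, mA, Matrix.mul_apply, Fin.sum_univ_three] <;>
    first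
    | ring1
    | linear_combination -h3

theorem det_mV (w : F) : (mV w).det = 3 * (w ^ 2 - w) + (w - w ^ 4) := by
  rw [mV, det_fin_three]
  simp
  ring

theorem det_mE (w : F) : (mE w).det = w ^ 2 := by
  rw [mE, det_diagonal, Fin.prod_univ_three]
  simp

theorem det_mT (t : F) : (mT t).det = t := by
  rw [mT, det_diagonal, Fin.prod_univ_three]
  simp

theorem det_mA {w : F} (hw : w ^ 2 + w + 1 = 0) : (mA w).det = 1 := by
  rw [mA, det_diagonal, Fin.prod_univ_three]
  have h3 := cube_eq hw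
  simp
  linear_combination h3

theorem det_mP : (mP F).det = 1 := by
  rw [mP, det_fin_three]
  simp

theorem mA_cube {w : F} (hw : w ^ 2 + w + 1 = 0) : mA w * mA w * mA w = 1 := by
  have h3 := cube_eq hw
  rw [mA, diagonal_mul_diagonal, diagonal_mul_diagonal, ← diagonal_one]
  congr 1
  funext i
  fin_cases i
  · simp
  · change w * w * w = 1
    linear_combination h3
  · change w ^ 2 * w ^ 2 * w ^ 2 = 1
    linear_combination (w ^ 3 + 1) * h3

theorem mP_cube : mP F * mP F * mP F = 1 := by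
  ext i j
  fin_cases i <;> fin_cases j <;> simp [mP, Matrix.mul_apply, Fin.sum_univ_three]

/-- The three conjugate elements from matrices. -/
theorem tri_of {Γ : Type u} [Group Γ] (ι : Γ →* SpecialLinearGroup (Fin 3) F) (hι : Function.Injective ι)
    (hc : ∀ g ∈ center Γ, ∃ r : F, (ι g).1 = diagonal fun _ => r) {w : F} (hw : w ^ 2 + w + 1 = 0) (hw1 : w ≠ 1)
    (a p z s₁ s₂ : Γ) (ha : (ι a).1 = mA w) (hp : (ι p).1 = mP F) (hz : (ι z).1 = diagonal fun _ => w)
    (h1 : mP F * (ι s₁).1 = (ι s₁).1 * mA w) (h2 : mA w * mP F * (ι s₂).1 = (ι s₂).1 * mA w) :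
    Tri (Γ ⧸ center Γ) := by
  have h3 := cube_eq hw
  have hmul : ∀ g h : Γ, (ι (g * h)).1 = (ι g).1 * (ι h).1 := fun g h => by rw [map_mul]; rfl
  have hinj : ∀ {g h : Γ}, (ι g).1 = (ι h).1 → g = h := fun {g h} hgh => hι (Subtype.ext hgh)
  have hone : (ι 1).1 = 1 := by rw [map_one]; rfl
  have hzc : z ∈ center Γ := by
    rw [mem_center_iff]
    intro g
    apply hinj
    rw [hmul, hmul, hz]
    ext i j
    rw [mul_diagonal, diagonal_mul, mul_comm]
  let π : Γ →* Γ ⧸ center Γ := QuotientGroup.mk' (center Γ)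
  have hπ : ∀ {g : Γ}, π g = 1 ↔ g ∈ center Γ := fun {g} => QuotientGroup.eq_one_iff g
  have hπz : π z = 1 := hπ.2 hzc
  have ha3 : a * a * a = 1 := hinj (by rw [hmul, hmul, ha, mA_cube hw, hone])
  have hp3 : p * p * p = 1 := hinj (by rw [hmul, hmul, hp, mP_cube, hone])
  have hord : ∀ g : Γ, g * g * g = 1 → π g ≠ 1 → orderOf (π g) = 3 := by
    intro g hg hg1
    have : Fact (Nat.Prime 3) := ⟨Nat.prime_three⟩
    apply orderOf_eq_prime _ hg1
    rw [← map_pow, pow_succ, pow_two, hg, map_one]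
  have ha1 : π a ≠ 1 := by
    intro h
    obtain ⟨r, hr⟩ := hc a (hπ.1 h)
    rw [ha, mA] at hr
    have e0 := congrFun (congrFun hr 0) 0
    have e1 := congrFun (congrFun hr 1) 1
    rw [diagonal_apply_eq, diagonal_apply_eq] at e0 e1
    have e0' : (1 : F) = r := e0
    have e1' : w = r := e1
    exact hw1 (by rw [e1', e0'])
  have hp1 : π p ≠ 1 := by
    intro h
    obtain ⟨r, hr⟩ := hc p (hπ.1 h)
    rw [hp, mP] at hr
    have e0 := congrFun (congrFun hr 0) 1
    simp at e0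
  have hap : p * a = z * (a * p) := by
    apply hinj
    rw [hmul, hmul, hmul, ha, hp, hz, PA hw]
    ext i j
    rw [diagonal_mul, Matrix.smul_apply, smul_eq_mul]
  refine ⟨π a, π p, hord a ha3 ha1, hord p hp3 hp1, ?_, ?_, ⟨π s₁, ?_⟩, π s₂, ?_⟩
  · rw [← map_mul, ← map_mul, hap, map_mul π z, hπz, one_mul]
  · intro h
    obtain ⟨k, hk⟩ := h
    have hk' : π a ^ k = π p := hk
    rw [← map_zpow] at hk'
    have h4 : a ^ k * p⁻¹ ∈ center Γ := by
      rw [← hπ, map_mul, map_inv, hk', mul_inv_cancel]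
    obtain ⟨r, hr⟩ := hc _ h4
    -- `a ^ k` is diagonal
    have hdiag : ∀ n : ℕ, ∃ d : Fin 3 → F, (ι (a ^ n)).1 = diagonal d := by
      intro n
      refine ⟨![1, w, w ^ 2] ^ n, ?_⟩
      rw [map_pow]
      change ((ι a) ^ n).1 = _
      have : ((ι a) ^ n).1 = (ι a).1 ^ n := rfl
      rw [this, ha, mA, diagonal_pow]
    have hk2 : ∃ n : ℕ, a ^ k = a ^ n := by
      have hfin : IsOfFinOrder a := isOfFinOrder_iff_pow_eq_one.2 ⟨3, by norm_num, by rw [pow_succ, pow_two, ha3]⟩
      obtain ⟨n, hn⟩ := (hfin.mem_powers_iff_mem_zpowers).2 (⟨k, rfl⟩ : a ^ k ∈ zpowers a)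
      exact ⟨n, hn.symm⟩
    obtain ⟨n, hn⟩ := hk2
    obtain ⟨d, hd⟩ := hdiag n
    have h5 : a ^ k = (a ^ k * p⁻¹) * p := by group
    have h6 : (ι (a ^ k)).1 = (ι (a ^ k * p⁻¹)).1 * (ι p).1 := by rw [← hmul, ← h5]
    rw [hn, hd, ← hn, hr, hp] at h6
    have e0 := congrFun (congrFun h6 0) 1
    rw [diagonal_mul] at e0
    have e1 : r = 0 := by simpa [mP] using e0.symm
    have h7 := (ι (a ^ k * p⁻¹)).2
    rw [hr, e1, det_diagonal] at h7
    simp at h7
  · have h4 : p * s₁ = s₁ * a := hinj (by rw [hmul, hmul, hp, ha, h1])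
    rw [← map_inv, ← map_mul, ← map_mul, ← h4, mul_inv_cancel_right]
  · have h4 : a * p * s₂ = s₂ * a := hinj (by rw [hmul, hmul, hmul, hp, ha, h2])
    rw [← map_inv, ← map_mul, ← map_mul, ← h4, mul_inv_cancel_right, map_mul]

/-- an element of order 3 -/
theorem exists_omega [Fintype F] (h : 3 ∣ Fintype.card F - 1) : ∃ w : F, w ^ 2 + w + 1 = 0 ∧ w ≠ 1 := by
  have : Fact (Nat.Prime 3) := ⟨Nat.prime_three⟩
  obtain ⟨c, hc⟩ := exists_prime_orderOf_dvd_card' (G := Fˣ) 3 (by
    rw [Nat.card_units, Nat.card_eq_fintype_card]; exact h)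
  have h1 : c ≠ 1 := by
    rintro rfl
    rw [orderOf_one] at hc
    omega
  have h2 : (c : F) ≠ 1 := fun h => h1 (Units.ext h)
  have h3 : (c : F) ^ 3 = 1 := by
    have : c ^ 3 = 1 := by rw [← hc, pow_orderOf_eq_one]
    rw [← Units.val_pow_eq_pow_val, this, Units.val_one]
  refine ⟨c, ?_, h2⟩
  have h4 : ((c : F) - 1) * ((c : F) ^ 2 + c + 1) = 0 := by linear_combination h3
  rcases mul_eq_zero.1 h4 with h5 | h5
  · exact absurd (sub_eq_zero.1 h5) h2
  · exact h5

theorem three_ne {w : F} (hw : w ^ 2 + w + 1 = 0) (hw1 : w ≠ 1) : (3 : F) ≠ 0 := by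
  intro h
  apply hw1
  have h2 : (w - 1) ^ 2 = 0 := by linear_combination hw - w * h
  exact sub_eq_zero.1 (pow_eq_zero_iff (by norm_num) |>.1 h2)

theorem det_ne {w : F} (hw : w ^ 2 + w + 1 = 0) (hw1 : w ≠ 1) : (mV w).det ≠ 0 := by
  have h3 := cube_eq hw
  have hw0 : w ≠ 0 := by
    rintro rfl
    norm_num at hw
  rw [det_mV]
  have h4 : 3 * (w ^ 2 - w) + (w - w ^ 4) = 3 * (w * (w - 1)) := by linear_combination (-w) * h3
  rw [h4]
  exact mul_ne_zero (three_ne hw hw1) (mul_ne_zero hw0 (sub_ne_zero.2 hw1))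

/-- `PSL₃(q)`, `q ≡ 1 mod 3` -/
theorem psl3_tri [Fintype F] (h : 3 ∣ Fintype.card F - 1) : Tri (ProjectiveSpecialLinearGroup (Fin 3) F) := by
  obtain ⟨w, hw, hw1⟩ := exists_omega h
  have h3 := cube_eq hw
  have hd := det_ne hw hw1
  set t := (mV w).det⁻¹ with ht
  refine tri_of (Γ := SpecialLinearGroup (Fin 3) F) (MonoidHom.id _) Function.injective_id ?_ hw hw1
    ⟨mA w, det_mA hw⟩ ⟨mP F, det_mP⟩ ⟨diagonal fun _ => w, ?_⟩ ⟨mV w * mT t, ?_⟩ ⟨mE w * mV w * mT (w * t), ?_⟩
    rfl rfl rfl ?_ ?_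
  · intro g hg
    obtain ⟨r, -, hr⟩ := Matrix.SpecialLinearGroup.mem_center_iff.1 hg
    exact ⟨r, hr.symm⟩
  · rw [det_diagonal, Finset.prod_const, Finset.card_univ, Fintype.card_fin, h3]
  · rw [det_mul, det_mT, ht, mul_inv_cancel₀ hd]
  · rw [det_mul, det_mul, det_mT, det_mE, ht]
    field_simp
    exact h3
  · change mP F * (mV w * mT t) = mV w * mT t * mA w
    rw [← Matrix.mul_assoc, PV hw, Matrix.mul_assoc, Matrix.mul_assoc, TA]
  · change mA w * mP F * (mE w * mV w * mT (w * t)) = mE w * mV w * mT (w * t) * mA w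
    rw [← Matrix.mul_assoc, APEV hw, Matrix.mul_assoc (mE w * mV w), Matrix.mul_assoc (mE w * mV w), TA]

end Tri

section TriU

variable {F : Type} [Field F] [Fintype F] {q : ℕ}

/-- isometries of the Hermitian form -/
def Iso3 (F : Type) [Field F] (q : ℕ) (M : Matrix (Fin 3) (Fin 3) F) : Prop :=
  ∀ u v : Fin 3 → F, hermForm 3 F q (M *ᵥ u) (M *ᵥ v) = hermForm 3 F q u v

omit [Fintype F] in
theorem Iso3.mul {M N : Matrix (Fin 3) (Fin 3) F} (hM : Iso3 F q M) (hN : Iso3 F q N) : Iso3 F q (M * N) := by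
  intro u v
  rw [← Matrix.mulVec_mulVec, ← Matrix.mulVec_mulVec, hM, hN]

omit [Fintype F] in
theorem iso3_diag {d : Fin 3 → F} (hd : ∀ i, d i ^ (q + 1) = 1) : Iso3 F q (diagonal d) := by
  intro u v
  simp only [LieClassical.SUBasic.hermForm_apply, Matrix.mulVec_diagonal]
  refine Finset.sum_congr rfl fun i _ => ?_
  have h := hd i
  rw [pow_succ'] at h
  calc d i * u i * (d i * v i) ^ q = (d i * d i ^ q) * (u i * v i ^ q) := by
        rw [mul_pow]; ring
    _ = u i * v i ^ q := by rw [h, one_mul]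

theorem iso3_P (hF : Fintype.card F = q ^ 2) : Iso3 F q (mP F) := by
  rw [Iso3, LieClassical.GUOrder.mul_map_eq_one_iff hF]
  ext i j
  fin_cases i <;> fin_cases j <;> simp [mP, Matrix.mul_apply, Fin.sum_univ_three]

/-- `PSU₃(q)`, `q ≡ 2 mod 3` -/
theorem psu3_tri (hF : Fintype.card F = q ^ 2) (hq : q % 3 = 2) : Tri (PSU 3 F q) := by
  have hqq : 3 ∣ Fintype.card F - 1 := by
    rw [hF]
    exact ThreeList.three_sq (by omega)
  obtain ⟨w, hw, hw1⟩ := exists_omega hqq
  have h3 := cube_eq hw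
  have hd := det_ne hw hw1
  have h30 := three_ne hw hw1
  have hwq : w ^ q = w ^ 2 := by
    conv_lhs => rw [← Nat.div_add_mod q 3, hq, pow_add, pow_mul, h3, one_pow, one_mul]
  have hwq1 : w ^ (q + 1) = 1 := by rw [pow_succ, hwq, ← pow_succ, h3]
  -- the scalar
  have h3q : (3 : F) ^ q = 3 := by
    have := map_ofNat (LieClassical.HermBasic.conj hF) 3
    rw [LieClassical.HermBasic.conj_apply] at this
    exact this
  obtain ⟨s, hs⟩ := LieClassical.HermBasic.exists_norm_eq hF (c := (3 : F)⁻¹) (by rw [inv_pow, h3q])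
  have hV : Iso3 F q (s • mV w) := by
    rw [Iso3, LieClassical.GUOrder.mul_map_eq_one_iff hF]
    have hs' : s * s ^ q * 3 = 1 := by rw [hs, inv_mul_cancel₀ h30]
    have hf : ∀ x : F, LieClassical.GUOrder.frob hF x = x ^ q := fun x => rfl
    have hw2q : (w ^ 2) ^ q = w := by
      rw [← pow_mul, mul_comm, pow_mul, hwq]
      linear_combination w * h3
    ext i j
    fin_cases i <;> fin_cases j <;>
      simp [Matrix.mul_apply, Fin.sum_univ_three, mV, hf, mul_pow, hwq, hw2q, -mul_eq_mul_right_iff,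
        -mul_eq_mul_left_iff, -mul_eq_zero] <;>
      first
      | linear_combination hs'
      | linear_combination s * s ^ q * hw
      | linear_combination s * s ^ q * hw + s * s ^ q * w * h3
      | linear_combination hs' + 2 * s * s ^ q * h3
  have hV' : Iso3 F q (mE w * (s • mV w)) := by
    refine Iso3.mul (iso3_diag ?_) hV
    intro i
    fin_cases i
    · simp
    · simp
    · change (w ^ 2) ^ (q + 1) = 1
      rw [← pow_mul, mul_comm, pow_mul, hwq1, one_pow]
  set δ := (s • mV w).det with hδ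
  have hδ1 : δ ^ (q + 1) = 1 := LieClassical.GUOrder.det_mul_frob_det hF _ hV
  have hδ0 : δ ≠ 0 := by
    intro h
    rw [h, zero_pow (by omega)] at hδ1
    exact zero_ne_one hδ1
  have hT : ∀ t : F, t ^ (q + 1) = 1 → Iso3 F q (mT t) := by
    intro t ht
    refine iso3_diag ?_
    intro i
    fin_cases i
    · exact ht
    · simp
    · simp
  have hA : Iso3 F q (mA w) := by
    refine iso3_diag ?_
    intro i
    fin_cases i
    · simp
    · exact hwq1
    · change (w ^ 2) ^ (q + 1) = 1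
      rw [← pow_mul, mul_comm, pow_mul, hwq1, one_pow]
  have hW : Iso3 F q (diagonal fun _ => w) := iso3_diag fun _ => hwq1
  refine tri_of (Γ := SU 3 F q) (SU 3 F q).subtype Subtype.val_injective ?_ hw hw1
    (mk (mA w) (det_mA hw) hA) (mk (mP F) det_mP (iso3_P hF)) (mk (diagonal fun _ => w) ?_ hW)
    (mk ((s • mV w) * mT δ⁻¹) ?_ (Iso3.mul hV (hT _ (by rw [inv_pow, hδ1, inv_one]))))
    (mk (mE w * (s • mV w) * mT (w * δ⁻¹)) ?_ (Iso3.mul hV' (hT _ (by rw [mul_pow, inv_pow, hδ1, hwq1, inv_one, mul_one]))))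
    rfl rfl rfl ?_ ?_
  · intro g hg
    obtain ⟨r, hr1, hr2, hr⟩ := (LieClassical.SUBasic.mem_center_SU_iff hF le_rfl _).1 hg
    exact ⟨r, by rw [hr]; rfl⟩
  · rw [det_diagonal, Finset.prod_const, Finset.card_univ, Fintype.card_fin, h3]
  · rw [det_mul, det_mT, ← hδ, mul_inv_cancel₀ hδ0]
  · rw [det_mul, det_mul, det_mT, det_mE, ← hδ]
    field_simp
    exact h3
  · change mP F * ((s • mV w) * mT δ⁻¹) = (s • mV w) * mT δ⁻¹ * mA w
    rw [← Matrix.mul_assoc, Matrix.mul_smul, PV hw, Matrix.mul_assoc, Matrix.smul_mul, Matrix.smul_mul,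
      Matrix.mul_assoc, TA]
  · change mA w * mP F * (mE w * (s • mV w) * mT (w * δ⁻¹)) = mE w * (s • mV w) * mT (w * δ⁻¹) * mA w
    rw [← Matrix.mul_assoc, Matrix.mul_smul, Matrix.mul_smul, APEV hw, Matrix.smul_mul, Matrix.smul_mul,
      Matrix.smul_mul, Matrix.mul_assoc (mE w * mV w), Matrix.mul_assoc (mE w * mV w), TA]

end TriU

end Cfsg.Agent.H341.ThreeElts
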