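import Mathlib

/-!
# Linear algebra on a group of order 9
-/

set_option autoImplicit false
set_option synthInstance.maxSize 4096
set_option synthInstance.maxHeartbeats 400000

namespace Cfsg.Agent.H341.Weak

theorem exists_vec {W : Type*} [Group W] (hc : ∀ a b : W, a * b = b * a)
    (h3 : ∀ a : W, a ^ 3 = 1) (h9 : Nat.card W = 9) :
    ∃ v : W → ZMod 3 × ZMod 3, Function.Bijective v ∧ ∀ a b, v (a * b) = v a + v b := by
  classical
  letI : CommGroup W := { ‹Group W› with mul_comm := hc }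
  haveI : Finite W := Nat.finite_of_card_ne_zero (by rw [h9]; norm_num)
  letI : Module (ZMod 3) (Additive W) := AddCommGroup.zmodModule (n := 3) (fun x => by
    have := h3 x.toMul
    exact this)
  haveI : Fact (Nat.Prime 3) := ⟨by norm_num⟩
  have hcard : Nat.card (Additive W) = 9 := h9
  have hfin : Module.finrank (ZMod 3) (Additive W) = 2 := by
    haveI : Fintype (Additive W) := Fintype.ofFinite _
    have h := Module.card_eq_pow_finrank (K := ZMod 3) (V := Additive W)
    rw [← Nat.card_eq_fintype_card, hcard, ZMod.card] at h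
    have : (3 : ℕ) ^ 2 = 3 ^ Module.finrank (ZMod 3) (Additive W) := by rw [← h]; norm_num
    exact (Nat.pow_right_injective (le_refl 2 |>.trans (by norm_num)) this).symm
  let b := Module.finBasisOfFinrankEq (ZMod 3) (Additive W) hfin
  let E := b.equivFun
  refine ⟨fun a => (E (Additive.ofMul a) 0, E (Additive.ofMul a) 1), ⟨?_, ?_⟩, ?_⟩
  · intro a a' h
    have h0 := congrArg Prod.fst h
    have h1 := congrArg Prod.snd h
    have : E (Additive.ofMul a) = E (Additive.ofMul a') := by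
      funext i
      fin_cases i
      · exact h0
      · exact h1
    exact Additive.ofMul.injective (E.injective this)
  · intro p
    refine ⟨Additive.toMul (E.symm ![p.1, p.2]), ?_⟩
    simp
  · intro a a'
    simp [ofMul_mul]

/-- the linear map with columns `p`, `q` -/
def lin (p q : ZMod 3 × ZMod 3) (x : ZMod 3 × ZMod 3) : ZMod 3 × ZMod 3 :=
  (x.1 * p.1 + x.2 * q.1, x.1 * p.2 + x.2 * q.2)

theorem lin_add (p q x y) : lin p q (x + y) = lin p q x + lin p q y := by
  simp [lin, Prod.ext_iff]; constructor <;> ring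

theorem lin_lin (p q p' q' x) : lin p q (lin p' q' x) = lin (lin p q p') (lin p q q') x := by
  simp [lin, Prod.ext_iff]; constructor <;> ring

theorem lin_unip : ∀ p q : ZMod 3 × ZMod 3,
    lin p q (lin p q (lin p q (1, 0))) = (1, 0) → lin p q (lin p q (lin p q (0, 1))) = (0, 1) →
    ¬ (p = (1, 0) ∧ q = (0, 1)) →
    ∃ r c : ZMod 3 × ZMod 3, c ≠ 0 ∧ lin p q r = c + r ∧ lin p q c = c ∧
      ∀ u : ZMod 3 × ZMod 3, ∃ m n : Fin 3, u = (m.val * r.1 + n.val * c.1, m.val * r.2 + n.val * c.2) := by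
  decide +kernel

theorem lin_nil : ∀ p q : ZMod 3 × ZMod 3,
    lin p q (lin p q (lin p q (1, 0))) = (1, 0) → lin p q (lin p q (lin p q (0, 1))) = (0, 1) →
    ∀ x : ZMod 3 × ZMod 3, lin p q (lin p q x - x) = lin p q x - x ∧
      lin p q (lin p q (lin p q x) - x) = lin p q (lin p q x) - x := by
  decide +kernel

theorem lin_comm3 : ∀ p q : ZMod 3 × ZMod 3,
    lin p q (lin p q (lin p q (1, 0))) = (1, 0) → lin p q (lin p q (lin p q (0, 1))) = (0, 1) →
    ¬ (p = (1, 0) ∧ q = (0, 1)) → ∀ p' q' : ZMod 3 × ZMod 3,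
    lin p q p' = lin p' q' p → lin p q q' = lin p' q' q →
    lin p' q' (lin p' q' p') = (1, 0) → lin p' q' (lin p' q' q') = (0, 1) →
      (p' = (1, 0) ∧ q' = (0, 1)) ∨ (lin p q p' = (1, 0) ∧ lin p q q' = (0, 1)) ∨
      (lin p q (lin p q p') = (1, 0) ∧ lin p q (lin p q q') = (0, 1)) := by
  decide +kernel

theorem lin_comm2 : ∀ p q : ZMod 3 × ZMod 3,
    lin p q (lin p q (lin p q (1, 0))) = (1, 0) → lin p q (lin p q (lin p q (0, 1))) = (0, 1) →
    ¬ (p = (1, 0) ∧ q = (0, 1)) → ∀ p' q' : ZMod 3 × ZMod 3,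
    lin p q p' = lin p' q' p → lin p q q' = lin p' q' q →
    lin p' q' p' = (1, 0) → lin p' q' q' = (0, 1) →
      (p' = (1, 0) ∧ q' = (0, 1)) ∨ (p' = (-1, 0) ∧ q' = (0, -1)) := by
  decide +kernel

end Cfsg.Agent.H341.Weak
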