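import Mathlib
import Cfsg.Agent.H341.WeakLin

/-!
# One block `3^{1+2}` and the elements acting on it
-/

set_option autoImplicit false

namespace Cfsg.Agent.H341.Weak

variable {G : Type*} [Group G]

structure Blk (Z U : Subgroup G) : Prop where
  cardZ : Nat.card Z = 3
  cardU : Nat.card U = 27
  ZleU : Z ≤ U
  cen : ∀ z ∈ Z, ∀ x ∈ U, z * x = x * z
  com : ∀ x ∈ U, ∀ y ∈ U, x * y * x⁻¹ * y⁻¹ ∈ Z
  exp : ∀ x ∈ U, x ^ 3 = 1

/-- `y` acts on `U` and centralizes `Z`. -/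
structure Act (Z U : Subgroup G) (y : G) : Prop where
  cen : ∀ z ∈ Z, y * z * y⁻¹ = z
  nor : ∀ x ∈ U, y * x * y⁻¹ ∈ U

/-- `y` acts trivially modulo `Z`. -/
def Triv (Z U : Subgroup G) (y : G) : Prop := ∀ x ∈ U, y * x * y⁻¹ * x⁻¹ ∈ Z

structure Coord (Z U : Subgroup G) (v : G → ZMod 3 × ZMod 3) : Prop where
  add : ∀ a ∈ U, ∀ b ∈ U, v (a * b) = v a + v b
  zero : ∀ a ∈ U, v a = 0 ↔ a ∈ Z
  surj : ∀ p, ∃ a ∈ U, v a = p

namespace Act

variable {Z U : Subgroup G} {y b : G}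

theorem mul (hy : Act Z U y) (hb : Act Z U b) : Act Z U (y * b) where
  cen z hz := by
    have h1 := hb.cen z hz
    have h2 := hy.cen z hz
    calc y * b * z * (y * b)⁻¹ = y * (b * z * b⁻¹) * y⁻¹ := by group
      _ = z := by rw [h1, h2]
  nor x hx := by
    have h1 := hy.nor _ (hb.nor x hx)
    have h2 : y * b * x * (y * b)⁻¹ = y * (b * x * b⁻¹) * y⁻¹ := by group
    rw [h2]; exact h1

theorem one : Act Z U (1 : G) where
  cen z _ := by group
  nor x hx := by simpa using hx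

theorem pow (hy : Act Z U y) (n : ℕ) : Act Z U (y ^ n) := by
  induction n with
  | zero => simpa using (one : Act Z U (1 : G))
  | succ n ih => rw [pow_succ]; exact ih.mul hy

end Act

theorem Triv.mul {Z U : Subgroup G} {y b : G} (hy : Triv Z U y) (hb : Triv Z U b)
    (hb' : Act Z U b) : Triv Z U (y * b) := by
  intro x hx
  have h1 := hb x hx
  have h2 := hy _ (hb'.nor x hx)
  have h3 : y * b * x * (y * b)⁻¹ * x⁻¹ =
    (y * (b * x * b⁻¹) * y⁻¹ * (b * x * b⁻¹)⁻¹) * (b * x * b⁻¹ * x⁻¹) := by group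
  rw [h3]
  exact Z.mul_mem h2 h1

namespace Blk

variable {Z U : Subgroup G}

theorem vec (B : Blk Z U) : ∃ v : G → ZMod 3 × ZMod 3, Coord Z U v := by
  classical
  haveI hN : (Z.subgroupOf U).Normal := by
    refine ⟨fun n hn g => ?_⟩
    rw [Subgroup.mem_subgroupOf] at hn ⊢
    have h := B.cen _ hn g g.2
    have h2 : ((g * n * g⁻¹ : U) : G) = (n : G) := by
      push_cast
      rw [← h]; group
    rw [h2]; exact hn
  have hcard : Nat.card (U ⧸ Z.subgroupOf U) = 9 := by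
    have h1 := Subgroup.card_eq_card_quotient_mul_card_subgroup (Z.subgroupOf U)
    have h2 : Nat.card (Z.subgroupOf U) = 3 := by
      rw [Nat.card_congr (Subgroup.subgroupOfEquivOfLe B.ZleU).toEquiv, B.cardZ]
    rw [h2, B.cardU] at h1
    omega
  have hc : ∀ a b : U ⧸ Z.subgroupOf U, a * b = b * a := by
    intro a b
    induction a using QuotientGroup.induction_on with | _ a =>
    induction b using QuotientGroup.induction_on with | _ b =>
    rw [← QuotientGroup.mk_mul, ← QuotientGroup.mk_mul, eq_comm, QuotientGroup.eq,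
      Subgroup.mem_subgroupOf]
    have h := B.com _ (inv_mem a.2) _ (inv_mem b.2)
    have h2 : (((b * a)⁻¹ * (a * b) : U) : G) = (a : G)⁻¹ * (b : G)⁻¹ * ((a : G)⁻¹)⁻¹ * ((b : G)⁻¹)⁻¹ := by
      push_cast; group
    rw [h2]; exact h
  have h3 : ∀ a : U ⧸ Z.subgroupOf U, a ^ 3 = 1 := by
    intro a
    induction a using QuotientGroup.induction_on with | _ a =>
    rw [← QuotientGroup.mk_pow]
    have : a ^ 3 = 1 := Subtype.ext (by push_cast; exact B.exp _ a.2)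
    rw [this]; rfl
  obtain ⟨v, hv, hadd⟩ := exists_vec hc h3 hcard
  have hv1 : v 1 = 0 := by
    have := hadd 1 1
    rw [mul_one] at this
    simpa using this
  refine ⟨fun g => if hg : g ∈ U then v (QuotientGroup.mk ⟨g, hg⟩) else 0, ?_, ?_, ?_⟩
  · intro a ha b hb
    rw [dif_pos ha, dif_pos hb, dif_pos (U.mul_mem ha hb), ← hadd]
    rfl
  · intro a ha
    rw [dif_pos ha]
    constructor
    · intro h
      have h' : ((⟨a, ha⟩ : U) : U ⧸ Z.subgroupOf U) = 1 := hv.1 (by rw [h, hv1])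
      rw [QuotientGroup.eq_one_iff, Subgroup.mem_subgroupOf] at h'
      exact h'
    · intro h
      have h' : ((⟨a, ha⟩ : U) : U ⧸ Z.subgroupOf U) = 1 := by
        rw [QuotientGroup.eq_one_iff, Subgroup.mem_subgroupOf]; exact h
      rw [h', hv1]
  · intro p
    obtain ⟨w, hw⟩ := hv.2 p
    induction w using QuotientGroup.induction_on with | _ w =>
    exact ⟨w, w.2, by rw [dif_pos w.2]; exact hw⟩

end Blk

namespace Coord

variable {Z U : Subgroup G} {v : G → ZMod 3 × ZMod 3}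

theorem one (C : Coord Z U v) : v 1 = 0 := (C.zero 1 U.one_mem).2 Z.one_mem

theorem inv (C : Coord Z U v) {a : G} (ha : a ∈ U) : v a⁻¹ = - v a := by
  have := C.add a⁻¹ (inv_mem ha) a ha
  rw [inv_mul_cancel, C.one] at this
  exact (neg_eq_of_add_eq_zero_left this.symm).symm

theorem pow (C : Coord Z U v) {a : G} (ha : a ∈ U) (n : ℕ) :
    v (a ^ n) = ((n : ZMod 3) * (v a).1, (n : ZMod 3) * (v a).2) := by
  induction n with
  | zero => simp [C.one]; rfl
  | succ n ih =>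
    rw [pow_succ, C.add _ (U.pow_mem ha n) _ ha, ih]
    ext <;> push_cast <;> simp <;> ring

theorem eq_of (C : Coord Z U v) {a b : G} (ha : a ∈ U) (hb : b ∈ U) (h : v a = v b) :
    a * b⁻¹ ∈ Z := by
  rw [← C.zero _ (U.mul_mem ha (inv_mem hb)), C.add _ ha _ (inv_mem hb), C.inv hb, h]
  simp

theorem eq_of' (C : Coord Z U v) {a b : G} (ha : a ∈ U) (hb : b ∈ U) (h : v a = v b) :
    a⁻¹ * b ∈ Z := by
  rw [← C.zero _ (U.mul_mem (inv_mem ha) hb), C.add _ (inv_mem ha) _ hb, C.inv ha, h]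
  simp

/-- coordinates of a conjugate -/
theorem lin (C : Coord Z U v) (hZU : Z ≤ U) {y : G} (hy : Act Z U y) : ∃ p q : ZMod 3 × ZMod 3,
    ∀ u ∈ U, v (y * u * y⁻¹) = Weak.lin p q (v u) := by
  obtain ⟨a, haU, ha⟩ := C.surj (1, 0)
  obtain ⟨b, hbU, hb⟩ := C.surj (0, 1)
  refine ⟨v (y * a * y⁻¹), v (y * b * y⁻¹), fun u hu => ?_⟩
  have hu2 : v u = v (a ^ (v u).1.val * b ^ (v u).2.val) := by
    rw [C.add _ (U.pow_mem haU _) _ (U.pow_mem hbU _), C.pow haU, C.pow hbU, ha, hb]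
    ext <;> simp
  have hmem : (a ^ (v u).1.val * b ^ (v u).2.val) ∈ U :=
    U.mul_mem (U.pow_mem haU _) (U.pow_mem hbU _)
  have hw := C.eq_of hu hmem hu2
  set w := u * (a ^ (v u).1.val * b ^ (v u).2.val)⁻¹ with hwdef
  have hu3 : u = w * (a ^ (v u).1.val * b ^ (v u).2.val) := by rw [hwdef]; group
  have hwU := hZU hw
  have hconj : y * u * y⁻¹ = w * ((y * a * y⁻¹) ^ (v u).1.val * (y * b * y⁻¹) ^ (v u).2.val) := by
    rw [conj_pow, conj_pow]
    conv_lhs => rw [hu3]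
    have h1 := hy.cen w hw
    calc y * (w * (a ^ (v u).1.val * b ^ (v u).2.val)) * y⁻¹
        = (y * w * y⁻¹) * (y * a ^ (v u).1.val * y⁻¹ * (y * b ^ (v u).2.val * y⁻¹)) := by group
      _ = _ := by rw [h1]
  have h1 := hy.nor a haU
  have h2 := hy.nor b hbU
  rw [hconj, C.add _ hwU _ (U.mul_mem (U.pow_mem h1 _) (U.pow_mem h2 _)),
    C.add _ (U.pow_mem h1 _) _ (U.pow_mem h2 _), C.pow h1, C.pow h2, (C.zero w hwU).2 hw]
  simp [Weak.lin, Prod.ext_iff]

end Coord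

/-- what an element of order 3 does on a block on which it acts nontrivially -/
structure Unip (Z U : Subgroup G) (y r c : G) : Prop where
  rU : r ∈ U
  cU : c ∈ U
  cZ : c ∉ Z
  yr : y * r * y⁻¹ = c * r
  yc : y * c * y⁻¹ * c⁻¹ ∈ Z
  gen : ∀ u ∈ U, ∃ m n : Fin 3, ∃ w ∈ Z, u = r ^ m.val * c ^ n.val * w
  fix : ∀ u ∈ U, y * u * y⁻¹ * u⁻¹ ∈ Z → ∃ n : Fin 3, ∃ w ∈ Z, u = c ^ n.val * w
  two : ∀ u ∈ U, y * (y⁻¹ * u * y * u⁻¹) * y⁻¹ * (y⁻¹ * u * y * u⁻¹)⁻¹ ∈ Z

namespace Blk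

variable {Z U : Subgroup G}

theorem conj_cube {G : Type*} [Group G] {y : G} (hy3 : y ^ 3 = 1) (u : G) :
    y * (y * (y * u * y⁻¹) * y⁻¹) * y⁻¹ = u := by
  have h1 : y * (y * (y * u * y⁻¹) * y⁻¹) * y⁻¹ = (y * y * y) * u * (y * y * y)⁻¹ := by
    simp only [mul_inv_rev, mul_assoc]
  have h2 : y * y * y = 1 := by rw [← hy3]; simp [pow_succ]
  rw [h1, h2]; simp

theorem lin_id (p q : ZMod 3 × ZMod 3) (hp : p = (1, 0)) (hq : q = (0, 1)) (x : ZMod 3 × ZMod 3) :
    lin p q x = x := by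
  subst hp hq
  simp [lin]

theorem triv_of_id (_B : Blk Z U) {v : G → ZMod 3 × ZMod 3} (C : Coord Z U v) {y : G}
    (hy : Act Z U y) (h : ∀ u ∈ U, v (y * u * y⁻¹) = v u) : Triv Z U y := by
  intro x hx
  exact C.eq_of (hy.nor x hx) hx (h x hx)

theorem unip (B : Blk Z U) {y : G} (hy : Act Z U y) (hy3 : y ^ 3 = 1) (hn : ¬ Triv Z U y) :
    ∃ r c, Unip Z U y r c := by
  obtain ⟨v, C⟩ := B.vec
  obtain ⟨p, q, hpq⟩ := C.lin B.ZleU hy
  have hcube : ∀ x, lin p q (lin p q (lin p q x)) = x := by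
    intro x
    obtain ⟨u, hu, rfl⟩ := C.surj x
    rw [← hpq u hu, ← hpq _ (hy.nor u hu), ← hpq _ (hy.nor _ (hy.nor u hu))]
    congr 1
    exact conj_cube hy3 u
  have hne : ¬ (p = (1, 0) ∧ q = (0, 1)) := by
    rintro ⟨h1, h2⟩
    exact hn (B.triv_of_id C hy fun u hu => by rw [hpq u hu, lin_id p q h1 h2])
  obtain ⟨r', c', hc0, hr, hc, hgen⟩ := lin_unip p q (hcube _) (hcube _) hne
  obtain ⟨r, hrU, hvr⟩ := C.surj r'
  have hyrU := hy.nor r hrU
  have hcU : y * r * y⁻¹ * r⁻¹ ∈ U := U.mul_mem hyrU (inv_mem hrU)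
  have hvc : v (y * r * y⁻¹ * r⁻¹) = c' := by
    rw [C.add _ hyrU _ (inv_mem hrU), C.inv hrU, hpq r hrU, hvr, hr]
    simp
  have key : ∀ u ∈ U, ∃ m n : Fin 3, ∃ w ∈ Z,
      u = r ^ m.val * (y * r * y⁻¹ * r⁻¹) ^ n.val * w := by
    intro u hu
    obtain ⟨m, n, hmn⟩ := hgen (v u)
    have hmem : r ^ m.val * (y * r * y⁻¹ * r⁻¹) ^ n.val ∈ U :=
      U.mul_mem (U.pow_mem hrU _) (U.pow_mem hcU _)
    refine ⟨m, n, (r ^ m.val * (y * r * y⁻¹ * r⁻¹) ^ n.val)⁻¹ * u, ?_, by group⟩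
    apply C.eq_of' hmem hu
    rw [C.add _ (U.pow_mem hrU _) _ (U.pow_mem hcU _), C.pow hrU, C.pow hcU, hvr, hvc, hmn]
    rfl
  refine ⟨r, y * r * y⁻¹ * r⁻¹, hrU, hcU, ?_, by group, ?_, key, ?_, ?_⟩
  · intro h
    exact hc0 (by rw [← hvc]; exact (C.zero _ hcU).2 h)
  · apply C.eq_of (hy.nor _ hcU) hcU
    rw [hpq _ hcU, hvc, hc]
  · intro u hu hfix
    obtain ⟨m, n, w, hw, hu2⟩ := key u hu
    -- `v (y u y⁻¹) = v u + m c'`
    have h1 : v (y * u * y⁻¹) = v u := by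
      have : y * u * y⁻¹ = (y * u * y⁻¹ * u⁻¹) * u := by group
      rw [this, C.add _ (B.ZleU hfix) _ hu, (C.zero _ (B.ZleU hfix)).2 hfix, zero_add]
    have hwU := B.ZleU hw
    have hvu : v u = (m.val * r'.1 + n.val * c'.1, m.val * r'.2 + n.val * c'.2) := by
      rw [hu2, C.add _ (U.mul_mem (U.pow_mem hrU _) (U.pow_mem hcU _)) _ hwU,
        C.add _ (U.pow_mem hrU _) _ (U.pow_mem hcU _), C.pow hrU, C.pow hcU, hvr, hvc,
        (C.zero _ hwU).2 hw]
      simp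
    rw [hpq u hu, hvu] at h1
    have hr1 : lin p q r' = c' + r' := hr
    have h2 : lin p q (m.val * r'.1 + n.val * c'.1, m.val * r'.2 + n.val * c'.2) =
        (m.val * (c'.1 + r'.1) + n.val * c'.1, m.val * (c'.2 + r'.2) + n.val * c'.2) := by
      have e1 := congrArg Prod.fst hr
      have e2 := congrArg Prod.snd hr
      have e3 := congrArg Prod.fst hc
      have e4 := congrArg Prod.snd hc
      simp only [lin, Prod.fst_add, Prod.snd_add] at e1 e2 e3 e4 ⊢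
      refine Prod.ext ?_ ?_
      · simp only
        linear_combination (m.val : ZMod 3) * e1 + (n.val : ZMod 3) * e3
      · simp only
        linear_combination (m.val : ZMod 3) * e2 + (n.val : ZMod 3) * e4
    rw [h2] at h1
    have hm : (m.val : ZMod 3) = 0 := by
      by_contra hm
      apply hc0
      have e1 := congrArg Prod.fst h1
      have e2 := congrArg Prod.snd h1
      simp only at e1 e2
      have f1 : (m.val : ZMod 3) * c'.1 = 0 := by linear_combination e1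
      have f2 : (m.val : ZMod 3) * c'.2 = 0 := by linear_combination e2
      haveI : Fact (Nat.Prime 3) := ⟨by norm_num⟩
      exact Prod.ext ((mul_eq_zero.1 f1).resolve_left hm) ((mul_eq_zero.1 f2).resolve_left hm)
    have hm0 : m.val = 0 := by
      rw [ZMod.natCast_eq_zero_iff] at hm
      have := m.2
      omega
    refine ⟨n, w, hw, ?_⟩
    rw [hu2, hm0]; group
  · intro u hu
    have hinv : y⁻¹ * u * y = y * (y * u * y⁻¹) * y⁻¹ := by
      have h := conj_cube hy3 u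
      calc y⁻¹ * u * y = y⁻¹ * (y * (y * (y * u * y⁻¹) * y⁻¹) * y⁻¹) * y := by rw [h]
        _ = _ := by group
    have h1U : y⁻¹ * u * y ∈ U := by rw [hinv]; exact hy.nor _ (hy.nor _ hu)
    have h2U : y⁻¹ * u * y * u⁻¹ ∈ U := U.mul_mem h1U (inv_mem hu)
    have hv : v (y⁻¹ * u * y * u⁻¹) = lin p q (lin p q (v u)) - v u := by
      rw [C.add _ h1U _ (inv_mem hu), C.inv hu, hinv, hpq _ (hy.nor _ hu), hpq u hu,
        ← sub_eq_add_neg]
    apply C.eq_of (hy.nor _ h2U) h2U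
    rw [hpq _ h2U, hv]
    exact (lin_nil p q (hcube _) (hcube _) (v u)).2

/-- the centralizer in `SL₂(3)` of an element of order 3, elements of order 3 -/
theorem comm3 (B : Blk Z U) {y b : G} (hy : Act Z U y) (hy3 : y ^ 3 = 1) (hn : ¬ Triv Z U y)
    (hb : Act Z U b) (hb3 : b ^ 3 = 1) (hyb : y * b = b * y) :
    ∃ m : Fin 3, Triv Z U (y ^ m.val * b) := by
  obtain ⟨v, C⟩ := B.vec
  obtain ⟨p, q, hpq⟩ := C.lin B.ZleU hy
  obtain ⟨p', q', hpq'⟩ := C.lin B.ZleU hb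
  have hcube : ∀ x, lin p q (lin p q (lin p q x)) = x := by
    intro x
    obtain ⟨u, hu, rfl⟩ := C.surj x
    rw [← hpq u hu, ← hpq _ (hy.nor u hu), ← hpq _ (hy.nor _ (hy.nor u hu)), conj_cube hy3 u]
  have hcube' : ∀ x, lin p' q' (lin p' q' (lin p' q' x)) = x := by
    intro x
    obtain ⟨u, hu, rfl⟩ := C.surj x
    rw [← hpq' u hu, ← hpq' _ (hb.nor u hu), ← hpq' _ (hb.nor _ (hb.nor u hu)), conj_cube hb3 u]
  have hcomm : ∀ x, lin p q (lin p' q' x) = lin p' q' (lin p q x) := by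
    intro x
    obtain ⟨u, hu, rfl⟩ := C.surj x
    rw [← hpq u hu, ← hpq' _ (hy.nor u hu), ← hpq' u hu, ← hpq _ (hb.nor u hu)]
    congr 1
    calc y * (b * u * b⁻¹) * y⁻¹ = (y * b) * u * (y * b)⁻¹ := by group
      _ = (b * y) * u * (b * y)⁻¹ := by rw [hyb]
      _ = _ := by group
  have hne : ¬ (p = (1, 0) ∧ q = (0, 1)) := by
    rintro ⟨h1, h2⟩
    exact hn (B.triv_of_id C hy fun u hu => by rw [hpq u hu, lin_id p q h1 h2])
  have l10 : ∀ a b : ZMod 3 × ZMod 3, lin a b (1, 0) = a := fun a b => by simp [lin]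
  have l01 : ∀ a b : ZMod 3 × ZMod 3, lin a b (0, 1) = b := fun a b => by simp [lin]
  have c1 := hcomm (1, 0)
  have c2 := hcomm (0, 1)
  have d1 := hcube' (1, 0)
  have d2 := hcube' (0, 1)
  rw [l10, l10] at c1
  rw [l01, l01] at c2
  rw [l10] at d1
  rw [l01] at d2
  rcases lin_comm3 p q (hcube _) (hcube _) hne p' q' c1 c2 d1 d2 with h | h | h
  · refine ⟨0, ?_⟩
    have : y ^ (0 : Fin 3).val * b = b := by simp
    rw [this]
    exact B.triv_of_id C hb fun u hu => by rw [hpq' u hu, lin_id p' q' h.1 h.2]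
  · refine ⟨1, ?_⟩
    have : y ^ (1 : Fin 3).val * b = y * b := by simp
    rw [this]
    refine B.triv_of_id C (hy.mul hb) fun u hu => ?_
    have e1 : y * b * u * (y * b)⁻¹ = y * (b * u * b⁻¹) * y⁻¹ := by group
    rw [e1, hpq _ (hb.nor u hu), hpq' u hu, lin_lin, lin_id _ _ h.1 h.2]
  · refine ⟨2, ?_⟩
    have : y ^ (2 : Fin 3).val * b = y * (y * b) := by
      show y ^ 2 * b = _
      rw [pow_two, mul_assoc]
    rw [this]
    refine B.triv_of_id C (hy.mul (hy.mul hb)) fun u hu => ?_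
    have e1 : y * (y * b) * u * (y * (y * b))⁻¹ = y * (y * (b * u * b⁻¹) * y⁻¹) * y⁻¹ := by group
    rw [e1, hpq _ (hy.nor _ (hb.nor u hu)), hpq _ (hb.nor u hu), hpq' u hu, lin_lin p q p' q',
      lin_lin p q (lin p q p') (lin p q q'), lin_id _ _ h.1 h.2]

/-- the centralizer in `SL₂(3)` of an element of order 3, involutions -/
theorem comm2 (B : Blk Z U) {y b : G} (hy : Act Z U y) (hy3 : y ^ 3 = 1) (hn : ¬ Triv Z U y)
    (hb : Act Z U b) (hb2 : b * b = 1) (hyb : y * b = b * y) :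
    Triv Z U b ∨ ∀ x ∈ U, b * x * b⁻¹ * x ∈ Z := by
  obtain ⟨v, C⟩ := B.vec
  obtain ⟨p, q, hpq⟩ := C.lin B.ZleU hy
  obtain ⟨p', q', hpq'⟩ := C.lin B.ZleU hb
  have hcube : ∀ x, lin p q (lin p q (lin p q x)) = x := by
    intro x
    obtain ⟨u, hu, rfl⟩ := C.surj x
    rw [← hpq u hu, ← hpq _ (hy.nor u hu), ← hpq _ (hy.nor _ (hy.nor u hu)), conj_cube hy3 u]
  have hsq' : ∀ x, lin p' q' (lin p' q' x) = x := by
    intro x
    obtain ⟨u, hu, rfl⟩ := C.surj x
    rw [← hpq' u hu, ← hpq' _ (hb.nor u hu)]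
    congr 1
    calc b * (b * u * b⁻¹) * b⁻¹ = (b * b) * u * (b * b)⁻¹ := by group
      _ = u := by rw [hb2]; group
  have hcomm : ∀ x, lin p q (lin p' q' x) = lin p' q' (lin p q x) := by
    intro x
    obtain ⟨u, hu, rfl⟩ := C.surj x
    rw [← hpq u hu, ← hpq' _ (hy.nor u hu), ← hpq' u hu, ← hpq _ (hb.nor u hu)]
    congr 1
    calc y * (b * u * b⁻¹) * y⁻¹ = (y * b) * u * (y * b)⁻¹ := by group
      _ = (b * y) * u * (b * y)⁻¹ := by rw [hyb]
      _ = _ := by group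
  have hne : ¬ (p = (1, 0) ∧ q = (0, 1)) := by
    rintro ⟨h1, h2⟩
    exact hn (B.triv_of_id C hy fun u hu => by rw [hpq u hu, lin_id p q h1 h2])
  have l10 : ∀ a b : ZMod 3 × ZMod 3, lin a b (1, 0) = a := fun a b => by simp [lin]
  have l01 : ∀ a b : ZMod 3 × ZMod 3, lin a b (0, 1) = b := fun a b => by simp [lin]
  have c1 := hcomm (1, 0)
  have c2 := hcomm (0, 1)
  have d1 := hsq' (1, 0)
  have d2 := hsq' (0, 1)
  rw [l10, l10] at c1
  rw [l01, l01] at c2
  rw [l10] at d1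
  rw [l01] at d2
  rcases lin_comm2 p q (hcube _) (hcube _) hne p' q' c1 c2 d1 d2 with h | h
  · left
    exact B.triv_of_id C hb fun u hu => by rw [hpq' u hu, lin_id p' q' h.1 h.2]
  · right
    intro x hx
    rw [← C.zero _ (U.mul_mem (hb.nor x hx) hx), C.add _ (hb.nor x hx) _ hx, hpq' x hx, h.1, h.2]
    simp [lin, Prod.ext_iff]

/-- an involution acting trivially modulo `Z` centralizes the block -/
theorem fix_of_triv (B : Blk Z U) {t : G} (ht : Act Z U t) (ht2 : t * t = 1)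
    (h : Triv Z U t) : ∀ x ∈ U, t * x * t⁻¹ = x := by
  intro x hx
  have hw := h x hx
  set w := t * x * t⁻¹ * x⁻¹ with hwdef
  have h1 : t * x * t⁻¹ = w * x := by rw [hwdef]; group
  have h2 : t * (t * x * t⁻¹) * t⁻¹ = x := by
    calc t * (t * x * t⁻¹) * t⁻¹ = (t * t) * x * (t * t)⁻¹ := by group
      _ = x := by rw [ht2]; group
  have h3 : t * (w * x) * t⁻¹ = w * (w * x) := by
    calc t * (w * x) * t⁻¹ = (t * w * t⁻¹) * (t * x * t⁻¹) := by group
      _ = w * (w * x) := by rw [ht.cen w hw, h1]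
  rw [h1, h3] at h2
  have h4 : w * w = 1 := by
    have : w * w * x = x := by rw [mul_assoc]; exact h2
    simpa using this
  have h5 : w ^ 3 = 1 := B.exp w (B.ZleU hw)
  have h6 : w = 1 := by
    calc w = w ^ 3 * (w * w)⁻¹ := by group
      _ = 1 := by rw [h5, h4]; simp
  rw [h1, h6, one_mul]

/-- an element acting trivially and commuting with `y` centralizes the fixed space of `y`. -/
theorem comm_of_triv (B : Blk Z U) {y r c : G} (H : Unip Z U y r c) {h : G}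
    (hy : Act Z U y)
    (ht : Triv Z U h) (hyh : y * h = h * y) : h * c = c * h := by
  have h1 := ht r H.rU
  set w := h * r * h⁻¹ * r⁻¹ with hw
  have h2 : h * r * h⁻¹ = w * r := by rw [hw]; group
  have h3 : c = y * r * y⁻¹ * r⁻¹ := by rw [H.yr]; group
  have h4 : h * c * h⁻¹ = c := by
    calc h * c * h⁻¹ = (h * y) * r * (h * y)⁻¹ * (h * r * h⁻¹)⁻¹ := by rw [h3]; group
      _ = (y * h) * r * (y * h)⁻¹ * (h * r * h⁻¹)⁻¹ := by rw [hyh]
      _ = y * (h * r * h⁻¹) * y⁻¹ * (h * r * h⁻¹)⁻¹ := by group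
      _ = (y * w * y⁻¹) * (y * r * y⁻¹) * r⁻¹ * w⁻¹ := by rw [h2]; group
      _ = w * (y * r * y⁻¹ * r⁻¹) * w⁻¹ := by rw [hy.cen w h1]; group
      _ = w * c * w⁻¹ := by rw [← h3]
      _ = c := by rw [B.cen w h1 c H.cU]; group
  calc h * c = (h * c * h⁻¹) * h := by group
    _ = c * h := by rw [h4]

end Blk

end Cfsg.Agent.H341.Weak
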