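import Mathlib

/-!
# A frame of type `3^{1+6}` with three blocks

The common local data of the 3-centralizers of types `²E₆(2)` and `Fi₂₂` (rows S3337 and S3368).
-/

set_option autoImplicit false

namespace Cfsg.Agent.H341.Weak

/-- `Q` is extraspecial `3^{1+6}` of exponent 3, the central product of the three blocks `U i`
of order 27; the centralizer of `Z = Z(Q)` permutes the blocks, and `e i` are commuting
involutions, `e i` inverting `U i / Z` and centralizing the other blocks. -/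
structure Frame {G : Type*} [Group G] (Z Q : Subgroup G) (U : Fin 3 → Subgroup G)
    (e : Fin 3 → G) : Prop where
  cardZ : Nat.card Z = 3
  cardQ : Nat.card Q = 3 ^ 7
  cardU : ∀ i, Nat.card (U i) = 27
  QleC : Q ≤ Subgroup.centralizer (Z : Set G)
  conjQ : ∀ c ∈ Subgroup.centralizer (Z : Set G), ∀ x ∈ Q, c * x * c⁻¹ ∈ Q
  CQ : Subgroup.centralizer (Q : Set G) ≤ Q
  exp : ∀ x ∈ Q, x ^ 3 = 1
  ZleU : ∀ i, Z ≤ U i
  UleQ : ∀ i, U i ≤ Q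
  comm : ∀ i j, i ≠ j → ∀ x ∈ U i, ∀ y ∈ U j, x * y = y * x
  comZ : ∀ x ∈ Q, ∀ y ∈ Q, x * y * x⁻¹ * y⁻¹ ∈ Z
  cenZ : ∀ x ∈ Q, (∀ y ∈ Q, x * y = y * x) → x ∈ Z
  sup : Q = U 0 ⊔ U 1 ⊔ U 2
  perm : ∀ c ∈ Subgroup.centralizer (Z : Set G), ∃ s : Equiv.Perm (Fin 3),
    ∀ i, ∀ x ∈ U i, c * x * c⁻¹ ∈ U (s i)
  eC : ∀ i, e i ∈ Subgroup.centralizer (Z : Set G)
  e2 : ∀ i, e i * e i = 1
  ee : ∀ i j, e i * e j = e j * e i
  eU : ∀ i j, j ≠ i → ∀ x ∈ U j, e i * x * (e i)⁻¹ = x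
  einv : ∀ i, ∀ x ∈ U i, e i * x * (e i)⁻¹ * x ∈ Z

end Cfsg.Agent.H341.Weak
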