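import Mathlib
import Cfsg.Agent.H341.WeakDef
import Cfsg.Agent.H341.WeakBlk

/-!
# Elementary facts on frames
-/

set_option autoImplicit false

namespace Cfsg.Agent.H341.Weak

theorem cov3 : ∀ i j k : Fin 3, i ≠ j → i ≠ k → j ≠ k → ∀ l : Fin 3, l = i ∨ l = j ∨ l = k := by
  decide

theorem exists_jk : ∀ i : Fin 3, ∃ j k : Fin 3, i ≠ j ∧ i ≠ k ∧ j ≠ k := by decide

namespace Blk

variable {G : Type*} [Group G] {Z U : Subgroup G}

theorem gens (B : Blk Z U) : ∃ a ∈ U, ∃ b ∈ U,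
    ∀ u ∈ U, ∃ m n : Fin 3, ∃ w ∈ Z, u = a ^ m.val * b ^ n.val * w := by
  obtain ⟨v, C⟩ := B.vec
  obtain ⟨a, haU, ha⟩ := C.surj (1, 0)
  obtain ⟨b, hbU, hb⟩ := C.surj (0, 1)
  refine ⟨a, haU, b, hbU, fun u hu => ?_⟩
  have hmem : (a ^ (v u).1.val * b ^ (v u).2.val) ∈ U :=
    U.mul_mem (U.pow_mem haU _) (U.pow_mem hbU _)
  refine ⟨⟨(v u).1.val, ZMod.val_lt _⟩, ⟨(v u).2.val, ZMod.val_lt _⟩,
    (a ^ (v u).1.val * b ^ (v u).2.val)⁻¹ * u, ?_, by group⟩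
  apply C.eq_of' hmem hu
  rw [C.add _ (U.pow_mem haU _) _ (U.pow_mem hbU _), C.pow haU, C.pow hbU, ha, hb]
  ext <;> simp

/-- powers of a nontrivial element of `Z` -/
theorem powZ (B : Blk Z U) {w : G} (hw : w ∈ Z) (hw1 : w ≠ 1) {z : G} (hz : z ∈ Z) :
    ∃ m : Fin 3, z = w ^ m.val := by
  classical
  haveI : Fact (Nat.Prime 3) := ⟨by norm_num⟩
  have h1 : (⟨w, hw⟩ : Z) ≠ 1 := fun h => hw1 (congrArg Subtype.val h)
  have h2 := mem_zpowers_of_prime_card (G := Z) (p := 3) B.cardZ (g := ⟨w, hw⟩) (g' := ⟨z, hz⟩) h1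
  have hfin : Finite Z := Nat.finite_of_card_ne_zero (by rw [B.cardZ]; norm_num)
  rw [mem_zpowers_iff_mem_range_orderOf] at h2
  simp only [Finset.mem_image, Finset.mem_range] at h2
  obtain ⟨m, hm, hm2⟩ := h2
  have ho : orderOf (⟨w, hw⟩ : Z) ∣ 3 := by rw [← B.cardZ]; exact orderOf_dvd_natCard _
  have ho3 : orderOf (⟨w, hw⟩ : Z) ≤ 3 := Nat.le_of_dvd (by norm_num) ho
  exact ⟨⟨m, by omega⟩, (congrArg Subtype.val hm2).symm⟩

/-- an automorphism trivial modulo `Z` is inner -/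
theorem inner (B : Blk Z U) (hna : ∃ x ∈ U, ∃ y ∈ U, x * y ≠ y * x) {h : G}
    (ht : Triv Z U h) (hA : Act Z U h) : ∃ q ∈ U, ∀ x ∈ U, q * x * q⁻¹ = h * x * h⁻¹ := by
  obtain ⟨a, haU, b, hbU, hgen⟩ := B.gens
  have hw0Z := B.com a haU b hbU
  set w0 := a * b * a⁻¹ * b⁻¹ with hw0
  have hab : a * b = w0 * b * a := by rw [hw0]; group
  have hw01 : w0 ≠ 1 := by
    intro h1
    obtain ⟨x, hx, y, hy, hxy⟩ := hna
    apply hxy
    have hab' : Commute a b := by show a * b = b * a; rw [hab, h1, one_mul]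
    obtain ⟨m, n, w, hw, rfl⟩ := hgen x hx
    obtain ⟨m', n', w', hw', rfl⟩ := hgen y hy
    have cw : ∀ u ∈ U, Commute w u := fun u hu => B.cen w hw u hu
    have cw' : ∀ u ∈ U, Commute w' u := fun u hu => B.cen w' hw' u hu
    have h2 : Commute (a ^ m.val * b ^ n.val) (a ^ m'.val * b ^ n'.val) :=
      ((Commute.refl a).pow_pow _ _ |>.mul_right (hab'.pow_pow _ _)).mul_left
        ((hab'.symm.pow_pow _ _).mul_right ((Commute.refl b).pow_pow _ _))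
    have h3 : Commute w (a ^ m'.val * b ^ n'.val * w') := cw _ hy
    have h4 : Commute w' (a ^ m.val * b ^ n.val) := cw' _
      (U.mul_mem (U.pow_mem haU _) (U.pow_mem hbU _))
    exact (h2.mul_right h4.symm).mul_left h3
  obtain ⟨i, hi⟩ := B.powZ hw0Z hw01 (ht b hbU)
  obtain ⟨j, hj⟩ := B.powZ hw0Z hw01 (inv_mem (ht a haU))
  have cw0 : ∀ u ∈ U, Commute w0 u := fun u hu => B.cen w0 hw0Z u hu
  have hi2 : h * b * h⁻¹ = w0 ^ i.val * b := by rw [← hi]; group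
  have hj2 : h * a * h⁻¹ = (w0 ^ j.val)⁻¹ * a := by rw [← hj]; group
  -- conjugation by powers of `a`, `b`
  have hA1 : ∀ n : ℕ, a ^ n * b * (a ^ n)⁻¹ = w0 ^ n * b := by
    intro n
    induction n with
    | zero => simp
    | succ n ih =>
      have e1 : a ^ (n + 1) * b * (a ^ (n + 1))⁻¹ = a * (a ^ n * b * (a ^ n)⁻¹) * a⁻¹ := by
        rw [pow_succ']; group
      have e2 : a * w0 ^ n = w0 ^ n * a := ((cw0 a haU).pow_left n).symm.eq
      rw [e1, ih]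
      calc a * (w0 ^ n * b) * a⁻¹ = (a * w0 ^ n) * b * a⁻¹ := by group
        _ = w0 ^ n * (a * b) * a⁻¹ := by rw [e2]; group
        _ = w0 ^ (n + 1) * b := by rw [hab, pow_succ]; group
  have hba : b * a = w0⁻¹ * a * b := by
    have e3 : w0 * b = b * w0 := (cw0 b hbU).eq
    have e4 : w0⁻¹ * a * b = w0⁻¹ * (a * b) := by group
    rw [e4, hab]; group
  have hB1 : ∀ n : ℕ, b ^ n * a * (b ^ n)⁻¹ = (w0 ^ n)⁻¹ * a := by
    intro n
    induction n with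
    | zero => simp
    | succ n ih =>
      have e1 : b ^ (n + 1) * a * (b ^ (n + 1))⁻¹ = b * (b ^ n * a * (b ^ n)⁻¹) * b⁻¹ := by
        rw [pow_succ']; group
      have e2 : b * (w0 ^ n)⁻¹ = (w0 ^ n)⁻¹ * b := (((cw0 b hbU).pow_left n).inv_left).symm.eq
      rw [e1, ih]
      calc b * ((w0 ^ n)⁻¹ * a) * b⁻¹ = (b * (w0 ^ n)⁻¹) * a * b⁻¹ := by group
        _ = (w0 ^ n)⁻¹ * (b * a) * b⁻¹ := by rw [e2]; group
        _ = (w0 ^ (n + 1))⁻¹ * a := by rw [hba, pow_succ']; group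
  have hqU : a ^ i.val * b ^ j.val ∈ U := U.mul_mem (U.pow_mem haU _) (U.pow_mem hbU _)
  refine ⟨a ^ i.val * b ^ j.val, hqU, ?_⟩
  have hqa : (a ^ i.val * b ^ j.val) * a * (a ^ i.val * b ^ j.val)⁻¹ = h * a * h⁻¹ := by
    calc (a ^ i.val * b ^ j.val) * a * (a ^ i.val * b ^ j.val)⁻¹
        = a ^ i.val * (b ^ j.val * a * (b ^ j.val)⁻¹) * (a ^ i.val)⁻¹ := by group
      _ = a ^ i.val * ((w0 ^ j.val)⁻¹ * a) * (a ^ i.val)⁻¹ := by rw [hB1]
      _ = (w0 ^ j.val)⁻¹ * (a ^ i.val * a * (a ^ i.val)⁻¹) := by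
          have := (((cw0 a haU).pow_pow j.val i.val).inv_left).eq
          calc a ^ i.val * ((w0 ^ j.val)⁻¹ * a) * (a ^ i.val)⁻¹
              = (a ^ i.val * (w0 ^ j.val)⁻¹) * a * (a ^ i.val)⁻¹ := by group
            _ = ((w0 ^ j.val)⁻¹ * a ^ i.val) * a * (a ^ i.val)⁻¹ := by rw [this]
            _ = _ := by group
      _ = (w0 ^ j.val)⁻¹ * a := by congr 1; rw [← pow_succ, pow_succ']; group
      _ = h * a * h⁻¹ := hj2.symm
  have hqb : (a ^ i.val * b ^ j.val) * b * (a ^ i.val * b ^ j.val)⁻¹ = h * b * h⁻¹ := by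
    calc (a ^ i.val * b ^ j.val) * b * (a ^ i.val * b ^ j.val)⁻¹
        = a ^ i.val * (b ^ j.val * b * (b ^ j.val)⁻¹) * (a ^ i.val)⁻¹ := by group
      _ = a ^ i.val * b * (a ^ i.val)⁻¹ := by
          congr 2; rw [← pow_succ, pow_succ']; group
      _ = w0 ^ i.val * b := hA1 _
      _ = h * b * h⁻¹ := hi2.symm
  intro x hx
  obtain ⟨m, n, w, hw, rfl⟩ := hgen x hx
  set q := a ^ i.val * b ^ j.val with hq
  have e1 : ∀ g : G, g * (a ^ m.val * b ^ n.val * w) * g⁻¹ =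
      (g * a * g⁻¹) ^ m.val * (g * b * g⁻¹) ^ n.val * (g * w * g⁻¹) := by
    intro g
    rw [conj_pow, conj_pow]; group
  rw [e1 q, e1 h, hqa, hqb, hA.cen w hw]
  congr 1
  rw [← B.cen w hw q hqU]; group

end Blk

namespace Frame

variable {G : Type*} [Group G] {Z Q : Subgroup G} {U : Fin 3 → Subgroup G} {e : Fin 3 → G}

theorem ZleQ (F : Frame Z Q U e) : Z ≤ Q := (F.ZleU 0).trans (F.UleQ 0)

theorem zc (F : Frame Z Q U e) {z x : G} (hz : z ∈ Z) (hx : x ∈ Q) : z * x = x * z :=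
  Subgroup.mem_centralizer_iff.1 (F.QleC hx) z hz

theorem cz {c z : G} (hc : c ∈ Subgroup.centralizer (Z : Set G)) (hz : z ∈ Z) :
    c * z * c⁻¹ = z := by
  have := Subgroup.mem_centralizer_iff.1 hc z hz
  rw [← this]; group

theorem blk (F : Frame Z Q U e) (i : Fin 3) : Blk Z (U i) where
  cardZ := F.cardZ
  cardU := F.cardU i
  ZleU := F.ZleU i
  cen z hz x hx := F.zc hz (F.UleQ i hx)
  com x hx y hy := F.comZ x (F.UleQ i hx) y (F.UleQ i hy)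
  exp x hx := F.exp x (F.UleQ i hx)

theorem mul3 (F : Frame Z Q U e) {i j k : Fin 3} (hij : i ≠ j) (hik : i ≠ k) (hjk : j ≠ k) :
    ∀ x ∈ Q, ∃ u ∈ U i, ∃ v ∈ U j, ∃ w ∈ U k, x = u * v * w := by
  let S : Subgroup G :=
    { carrier := {x | ∃ u ∈ U i, ∃ v ∈ U j, ∃ w ∈ U k, x = u * v * w}
      one_mem' := ⟨1, one_mem _, 1, one_mem _, 1, one_mem _, by simp⟩
      mul_mem' := by
        rintro _ _ ⟨u, hu, v, hv, w, hw, rfl⟩ ⟨u', hu', v', hv', w', hw', rfl⟩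
        refine ⟨u * u', mul_mem hu hu', v * v', mul_mem hv hv', w * w', mul_mem hw hw', ?_⟩
        have h1 := F.comm i j hij u' hu' v hv
        have h2 := F.comm i k hik u' hu' w hw
        have h3 := F.comm j k hjk v' hv' w hw
        calc u * v * w * (u' * v' * w') = u * v * (w * u') * v' * w' := by group
          _ = u * (v * u') * w * v' * w' := by rw [← h2]; group
          _ = u * u' * v * (w * v') * w' := by rw [← h1]; group
          _ = u * u' * (v * v') * (w * w') := by rw [← h3]; group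
      inv_mem' := by
        rintro _ ⟨u, hu, v, hv, w, hw, rfl⟩
        refine ⟨u⁻¹, inv_mem hu, v⁻¹, inv_mem hv, w⁻¹, inv_mem hw, ?_⟩
        have h1 := F.comm i j hij u⁻¹ (inv_mem hu) v⁻¹ (inv_mem hv)
        have h2 := F.comm i k hik u⁻¹ (inv_mem hu) w⁻¹ (inv_mem hw)
        have h3 := F.comm j k hjk v⁻¹ (inv_mem hv) w⁻¹ (inv_mem hw)
        calc (u * v * w)⁻¹ = w⁻¹ * v⁻¹ * u⁻¹ := by group
          _ = v⁻¹ * (w⁻¹ * u⁻¹) := by rw [← h3]; group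
          _ = v⁻¹ * u⁻¹ * w⁻¹ := by rw [← h2]; group
          _ = u⁻¹ * v⁻¹ * w⁻¹ := by rw [← h1] }
  have hU : ∀ l, U l ≤ S := by
    intro l x hx
    rcases cov3 i j k hij hik hjk l with rfl | rfl | rfl
    · exact ⟨x, hx, 1, one_mem _, 1, one_mem _, by simp⟩
    · exact ⟨1, one_mem _, x, hx, 1, one_mem _, by simp⟩
    · exact ⟨1, one_mem _, 1, one_mem _, x, hx, by simp⟩
  intro x hx
  rw [F.sup] at hx
  exact (sup_le (sup_le (hU 0) (hU 1)) (hU 2)) hx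

theorem commQ (F : Frame Z Q U e) {g : G} (h : ∀ i, ∀ u ∈ U i, g * u = u * g) :
    ∀ x ∈ Q, g * x = x * g := by
  intro x hx
  obtain ⟨u, hu, v, hv, w, hw, rfl⟩ := F.mul3 (i := 0) (j := 1) (k := 2) (by decide) (by decide)
    (by decide) x hx
  have c1 : Commute g u := h 0 u hu
  have c2 : Commute g v := h 1 v hv
  have c3 : Commute g w := h 2 w hw
  exact (c1.mul_right c2).mul_right c3

theorem cenU (F : Frame Z Q U e) {i : Fin 3} {x : G} (hx : x ∈ U i)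
    (h : ∀ u ∈ U i, x * u = u * x) : x ∈ Z := by
  apply F.cenZ x (F.UleQ i hx)
  apply F.commQ
  intro j u hu
  by_cases hij : i = j
  · subst hij; exact h u hu
  · exact F.comm i j hij x hx u hu

theorem inter (F : Frame Z Q U e) {i j : Fin 3} (hij : i ≠ j) {x : G} (hx : x ∈ U i)
    (hx' : x ∈ U j) : x ∈ Z :=
  F.cenU hx' fun u hu => F.comm i j hij x hx u hu

theorem indep1 (F : Frame Z Q U e) {i j k : Fin 3} (hij : i ≠ j) (hik : i ≠ k)
    {u v w : G} (hu : u ∈ U i) (hv : v ∈ U j) (hw : w ∈ U k) (h : u * v * w ∈ Z) : u ∈ Z := by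
  apply F.cenU hu
  intro x hx
  have h1 : Commute v x := (F.comm i j hij x hx v hv).symm
  have h2 : Commute w x := (F.comm i k hik x hx w hw).symm
  have h3 : Commute (u * v * w) x := F.zc h (F.UleQ i hx)
  have h4 : u = (u * v * w) * w⁻¹ * v⁻¹ := by group
  have h5 : Commute ((u * v * w) * w⁻¹ * v⁻¹) x :=
    (h3.mul_left h2.inv_left).mul_left h1.inv_left
  rw [h4]; exact h5

theorem indep (F : Frame Z Q U e) {i j k : Fin 3} (hij : i ≠ j) (hik : i ≠ k) (hjk : j ≠ k)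
    {u v w : G} (hu : u ∈ U i) (hv : v ∈ U j) (hw : w ∈ U k) (h : u * v * w ∈ Z) :
    u ∈ Z ∧ v ∈ Z ∧ w ∈ Z := by
  have h1 := F.indep1 hij hik hu hv hw h
  have h2 : v * u * w ∈ Z := by rw [← F.comm i j hij u hu v hv]; exact h
  have h3 := F.indep1 hij.symm hjk hv hu hw h2
  refine ⟨h1, h3, ?_⟩
  have h4 : w = (u * v)⁻¹ * (u * v * w) := by group
  rw [h4]
  exact mul_mem (inv_mem (mul_mem h1 h3)) h

theorem nab (F : Frame Z Q U e) (i : Fin 3) : ∃ x ∈ U i, ∃ y ∈ U i, x * y ≠ y * x := by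
  by_contra hcon
  push Not at hcon
  have h1 : U i ≤ Z := fun x hx => F.cenU hx fun u hu => hcon x hx u hu
  have h2 : U i = Z := le_antisymm h1 (F.ZleU i)
  have h3 := F.cardU i
  rw [h2, F.cardZ] at h3
  norm_num at h3

/-- the kernel of the action of `C(Z)` on `Q / Z` is `Q` -/
theorem mem_Q (F : Frame Z Q U e) {h : G} (hc : h ∈ Subgroup.centralizer (Z : Set G))
    (ht : ∀ i, Triv Z (U i) h) : h ∈ Q := by
  have hA : ∀ i, Act Z (U i) h := fun i =>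
    ⟨fun z hz => cz hc hz, fun x hx => by
      have h1 := ht i x hx
      have h2 : h * x * h⁻¹ = (h * x * h⁻¹ * x⁻¹) * x := by group
      rw [h2]; exact mul_mem (F.ZleU i h1) hx⟩
  choose q hqU hq using fun i => (F.blk i).inner (F.nab i) (ht i) (hA i)
  have hqq : ∀ i j, i ≠ j → ∀ x ∈ U j, q i * x * (q i)⁻¹ = x := by
    intro i j hij x hx
    rw [F.comm i j hij _ (hqU i) x hx]; group
  set p := q 0 * q 1 * q 2 with hp
  have hpQ : p ∈ Q := mul_mem (mul_mem (F.UleQ 0 (hqU 0)) (F.UleQ 1 (hqU 1))) (F.UleQ 2 (hqU 2))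
  have hpx : ∀ i, ∀ x ∈ U i, p * x * p⁻¹ = h * x * h⁻¹ := by
    intro i x hx
    have e1 : p * x * p⁻¹ = q 0 * (q 1 * (q 2 * x * (q 2)⁻¹) * (q 1)⁻¹) * (q 0)⁻¹ := by
      rw [hp]; group
    have hi : i = 0 ∨ i = 1 ∨ i = 2 := by fin_cases i <;> simp
    rcases hi with rfl | rfl | rfl
    · rw [e1, hqq 2 0 (by decide) x hx, hqq 1 0 (by decide) x hx, hq 0 x hx]
    · rw [e1, hqq 2 1 (by decide) x hx, hq 1 x hx, hqq 0 1 (by decide) _ ((hA 1).nor x hx)]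
    · rw [e1, hq 2 x hx, hqq 1 2 (by decide) _ ((hA 2).nor x hx),
        hqq 0 2 (by decide) _ ((hA 2).nor x hx)]
  have hcen : p⁻¹ * h ∈ Subgroup.centralizer (Q : Set G) := by
    rw [Subgroup.mem_centralizer_iff]
    intro x hx
    refine (F.commQ (g := p⁻¹ * h) ?_ x hx).symm
    intro i u hu
    have e2 := hpx i u hu
    have e3 : (p⁻¹ * h) * u * (p⁻¹ * h)⁻¹ = u := by
      calc (p⁻¹ * h) * u * (p⁻¹ * h)⁻¹ = p⁻¹ * (h * u * h⁻¹) * p := by group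
        _ = p⁻¹ * (p * u * p⁻¹) * p := by rw [e2]
        _ = u := by group
    calc p⁻¹ * h * u = (p⁻¹ * h) * u * (p⁻¹ * h)⁻¹ * (p⁻¹ * h) := by group
      _ = u * (p⁻¹ * h) := by rw [e3]
  have := F.CQ hcen
  have h5 : h = p * (p⁻¹ * h) := by group
  rw [h5]
  exact mul_mem hpQ this

/-- the permutation of the blocks induced by `c` -/
noncomputable def sg (F : Frame Z Q U e) (c : G) : Equiv.Perm (Fin 3) := by
  classical
  exact if h : c ∈ Subgroup.centralizer (Z : Set G) then (F.perm c h).choose else 1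

theorem sg_spec (F : Frame Z Q U e) {c : G} (hc : c ∈ Subgroup.centralizer (Z : Set G))
    (i : Fin 3) {x : G} (hx : x ∈ U i) : c * x * c⁻¹ ∈ U (F.sg c i) := by
  unfold sg
  rw [dif_pos hc]
  exact (F.perm c hc).choose_spec i x hx

theorem conj_mem_Z {c x : G} (hc : c ∈ Subgroup.centralizer (Z : Set G)) (h : c * x * c⁻¹ ∈ Z) :
    x ∈ Z := by
  have h1 := cz (inv_mem hc) h
  have h2 : c⁻¹ * (c * x * c⁻¹) * c⁻¹⁻¹ = x := by group
  rw [h2] at h1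
  rw [h1]; exact h

theorem sg_eq (F : Frame Z Q U e) {c : G} (hc : c ∈ Subgroup.centralizer (Z : Set G))
    {i j : Fin 3} {x : G} (hx : x ∈ U i) (hxZ : x ∉ Z) (h : c * x * c⁻¹ ∈ U j) :
    F.sg c i = j := by
  by_contra hne
  exact hxZ (conj_mem_Z hc (F.inter hne (F.sg_spec hc i hx) h))

theorem exists_notZ (F : Frame Z Q U e) (i : Fin 3) : ∃ x ∈ U i, x ∉ Z := by
  obtain ⟨x, hx, y, hy, hxy⟩ := F.nab i
  refine ⟨x, hx, fun h => hxy (F.zc h (F.UleQ i hy))⟩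

theorem sg_mul (F : Frame Z Q U e) {c d : G} (hc : c ∈ Subgroup.centralizer (Z : Set G))
    (hd : d ∈ Subgroup.centralizer (Z : Set G)) : F.sg (c * d) = F.sg c * F.sg d := by
  ext1 i
  obtain ⟨x, hx, hxZ⟩ := F.exists_notZ i
  apply F.sg_eq (mul_mem hc hd) hx hxZ
  have h1 := F.sg_spec hc _ (F.sg_spec hd i hx)
  have h2 : c * d * x * (c * d)⁻¹ = c * (d * x * d⁻¹) * c⁻¹ := by group
  rw [h2]; exact h1

theorem sg_one (F : Frame Z Q U e) : F.sg (1 : G) = 1 := by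
  ext1 i
  obtain ⟨x, hx, hxZ⟩ := F.exists_notZ i
  apply F.sg_eq (one_mem _) hx hxZ
  simpa using hx

theorem sg_pow (F : Frame Z Q U e) {c : G} (hc : c ∈ Subgroup.centralizer (Z : Set G)) (n : ℕ) :
    F.sg (c ^ n) = F.sg c ^ n := by
  induction n with
  | zero => rw [pow_zero, pow_zero, F.sg_one]
  | succ n ih => rw [pow_succ, pow_succ, F.sg_mul (pow_mem hc n) hc, ih]

theorem sg_inv (F : Frame Z Q U e) {c : G} (hc : c ∈ Subgroup.centralizer (Z : Set G)) :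
    F.sg c⁻¹ = (F.sg c)⁻¹ := by
  rw [eq_inv_iff_mul_eq_one, ← F.sg_mul (inv_mem hc) hc, inv_mul_cancel, F.sg_one]

theorem sg_cube (F : Frame Z Q U e) {c : G} (hc : c ∈ Subgroup.centralizer (Z : Set G))
    (h3 : c ^ 3 = 1) : F.sg c ^ 3 = 1 := by
  rw [← F.sg_pow hc, h3, F.sg_one]

theorem sg_Q (F : Frame Z Q U e) {q : G} (hq : q ∈ Q) : F.sg q = 1 := by
  ext1 i
  obtain ⟨x, hx, hxZ⟩ := F.exists_notZ i
  apply F.sg_eq (F.QleC hq) hx hxZ
  have h1 := F.comZ q hq x (F.UleQ i hx)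
  have h2 : q * x * q⁻¹ = (q * x * q⁻¹ * x⁻¹) * x := by group
  rw [h2]
  exact mul_mem (F.ZleU i h1) hx

theorem sg_e (F : Frame Z Q U e) (j : Fin 3) : F.sg (e j) = 1 := by
  ext1 i
  obtain ⟨x, hx, hxZ⟩ := F.exists_notZ i
  apply F.sg_eq (F.eC j) hx hxZ
  by_cases hij : i = j
  · subst hij
    have h1 := F.einv i x hx
    have h2 : e i * x * (e i)⁻¹ = (e i * x * (e i)⁻¹ * x) * x⁻¹ := by group
    rw [h2]
    exact mul_mem (F.ZleU i h1) (inv_mem hx)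
  · rw [F.eU j i hij x hx]; exact hx

theorem act_of_sg (F : Frame Z Q U e) {c : G} (hc : c ∈ Subgroup.centralizer (Z : Set G))
    {i : Fin 3} (h : F.sg c i = i) : Act Z (U i) c where
  cen z hz := cz hc hz
  nor x hx := by
    have := F.sg_spec hc i hx
    rwa [h] at this

theorem act_e (F : Frame Z Q U e) (i j : Fin 3) : Act Z (U i) (e j) :=
  F.act_of_sg (F.eC j) (by rw [F.sg_e]; rfl)

/-- surjectivity of conjugation onto a block -/
theorem conj_inv_mem (F : Frame Z Q U e) {c : G} (hc : c ∈ Subgroup.centralizer (Z : Set G))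
    {i : Fin 3} {x : G} (hx : x ∈ U (F.sg c i)) : c⁻¹ * x * c ∈ U i := by
  have h := F.sg_spec (inv_mem hc) _ hx
  rw [F.sg_inv hc] at h
  simpa using h

/-- `c e_i c⁻¹ e_{c i} ∈ Q` -/
theorem conj_e (F : Frame Z Q U e) {c : G} (hc : c ∈ Subgroup.centralizer (Z : Set G))
    (i : Fin 3) : c * e i * c⁻¹ * e (F.sg c i) ∈ Q := by
  have hC : c * e i * c⁻¹ * e (F.sg c i) ∈ Subgroup.centralizer (Z : Set G) :=
    mul_mem (mul_mem (mul_mem hc (F.eC i)) (inv_mem hc)) (F.eC _)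
  apply F.mem_Q hC
  intro j x hx
  obtain ⟨k, rfl⟩ : ∃ k, j = F.sg c k := ⟨(F.sg c)⁻¹ j, by simp⟩
  by_cases hki : k = i
  · subst hki
    -- both invert modulo `Z`
    have h1 := F.einv _ x hx
    set w := e (F.sg c k) * x * (e (F.sg c k))⁻¹ * x with hw
    have h2 : e (F.sg c k) * x * (e (F.sg c k))⁻¹ = w * x⁻¹ := by rw [hw]; group
    have hx' : c⁻¹ * x⁻¹ * c ∈ U k := F.conj_inv_mem hc (inv_mem hx)
    have h3 := F.einv _ _ hx'
    set w' := e k * (c⁻¹ * x⁻¹ * c) * (e k)⁻¹ * (c⁻¹ * x⁻¹ * c) with hw'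
    have h4 : e k * (c⁻¹ * x⁻¹ * c) * (e k)⁻¹ = w' * (c⁻¹ * x * c) := by rw [hw']; group
    have h5 : c * e k * c⁻¹ * e (F.sg c k) * x * (c * e k * c⁻¹ * e (F.sg c k))⁻¹ * x⁻¹ =
        w * (c * w' * c⁻¹) := by
      calc c * e k * c⁻¹ * e (F.sg c k) * x * (c * e k * c⁻¹ * e (F.sg c k))⁻¹ * x⁻¹
          = c * e k * c⁻¹ * (e (F.sg c k) * x * (e (F.sg c k))⁻¹) * (c * e k * c⁻¹)⁻¹ * x⁻¹ := by
            group
        _ = (c * e k * c⁻¹ * w * (c * e k * c⁻¹)⁻¹) *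
              (c * (e k * (c⁻¹ * x⁻¹ * c) * (e k)⁻¹) * c⁻¹) * x⁻¹ := by rw [h2]; group
        _ = w * (c * w' * c⁻¹) := by
            rw [h4, cz (mul_mem (mul_mem hc (F.eC k)) (inv_mem hc)) h1]; group
    rw [h5]
    exact mul_mem h1 (by rw [cz hc h3]; exact h3)
  · have hne : F.sg c k ≠ F.sg c i := fun h => hki ((F.sg c).injective h)
    have h1 := F.eU (F.sg c i) (F.sg c k) hne x hx
    have h2 := F.eU i k hki _ (F.conj_inv_mem hc hx)
    have h5 : c * e i * c⁻¹ * e (F.sg c i) * x * (c * e i * c⁻¹ * e (F.sg c i))⁻¹ * x⁻¹ = 1 := by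
      calc c * e i * c⁻¹ * e (F.sg c i) * x * (c * e i * c⁻¹ * e (F.sg c i))⁻¹ * x⁻¹
          = c * e i * c⁻¹ * (e (F.sg c i) * x * (e (F.sg c i))⁻¹) * (c * e i * c⁻¹)⁻¹ * x⁻¹ := by
            group
        _ = c * (e i * (c⁻¹ * x * c) * (e i)⁻¹) * c⁻¹ * x⁻¹ := by rw [h1]; group
        _ = 1 := by rw [h2]; group
    rw [h5]; exact one_mem _

/-- an element of `Q` inverted by `e i` lies in `U i` -/
theorem mem_U_of_inv (F : Frame Z Q U e) {i : Fin 3} {x : G} (hx : x ∈ Q)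
    (h : e i * x * (e i)⁻¹ = x⁻¹) : x ∈ U i := by
  obtain ⟨j, k, hij, hik, hjk⟩ := exists_jk i
  obtain ⟨u, hu, v, hv, w, hw, rfl⟩ := F.mul3 hij hik hjk x hx
  have h1 := F.eU i j hij.symm v hv
  have h2 := F.eU i k hik.symm w hw
  have h3 := F.einv i u hu
  have cuv : Commute u v := F.comm i j hij u hu v hv
  have cuw : Commute u w := F.comm i k hik u hu w hw
  have cvw : Commute v w := F.comm j k hjk v hv w hw
  have e1 : e i * (u * v * w) * (e i)⁻¹ = (e i * u * (e i)⁻¹) * v * w := by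
    calc e i * (u * v * w) * (e i)⁻¹
        = (e i * u * (e i)⁻¹) * (e i * v * (e i)⁻¹) * (e i * w * (e i)⁻¹) := by group
      _ = _ := by rw [h1, h2]
  rw [e1] at h
  have e2 : (u * v * w)⁻¹ = u⁻¹ * (v⁻¹ * w⁻¹) := by
    calc (u * v * w)⁻¹ = w⁻¹ * (v⁻¹ * u⁻¹) := by group
      _ = w⁻¹ * (u⁻¹ * v⁻¹) := by rw [cuv.inv_inv.eq]
      _ = (w⁻¹ * u⁻¹) * v⁻¹ := by group
      _ = (u⁻¹ * w⁻¹) * v⁻¹ := by rw [cuw.inv_inv.eq]
      _ = u⁻¹ * (w⁻¹ * v⁻¹) := by group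
      _ = u⁻¹ * (v⁻¹ * w⁻¹) := by rw [cvw.inv_inv.eq]
  rw [e2] at h
  -- `(v w)² ∈ Z`
  have e3 : v * v * (w * w) ∈ Z := by
    have h4 : e i * u * (e i)⁻¹ * u * (v * v * (w * w)) = 1 := by
      have h5 : e i * u * (e i)⁻¹ = u⁻¹ * (v⁻¹ * w⁻¹) * w⁻¹ * v⁻¹ := by rw [← h]; group
      rw [h5]
      have c1 : Commute u (v⁻¹ * w⁻¹ * w⁻¹ * v⁻¹) :=
        (((cuv.inv_right).mul_right cuw.inv_right).mul_right cuw.inv_right).mul_right cuv.inv_right
      calc u⁻¹ * (v⁻¹ * w⁻¹) * w⁻¹ * v⁻¹ * u * (v * v * (w * w))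
          = u⁻¹ * ((v⁻¹ * w⁻¹ * w⁻¹ * v⁻¹) * u) * (v * v * (w * w)) := by group
        _ = (v⁻¹ * w⁻¹ * w⁻¹ * v⁻¹) * (v * v * (w * w)) := by rw [← c1.eq]; group
        _ = v⁻¹ * w⁻¹ * (w⁻¹ * v) * (w * w) := by group
        _ = v⁻¹ * w⁻¹ * (v * w⁻¹) * (w * w) := by rw [← (cvw.inv_right).eq]
        _ = v⁻¹ * (w⁻¹ * v) * w := by group
        _ = v⁻¹ * (v * w⁻¹) * w := by rw [← (cvw.inv_right).eq]
        _ = 1 := by group
    have h6 : v * v * (w * w) = (e i * u * (e i)⁻¹ * u)⁻¹ := by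
      rw [eq_comm, inv_eq_iff_mul_eq_one]; exact h4
    rw [h6]; exact inv_mem h3
  have e4 := F.indep (i := j) (j := k) (k := i) hjk hij.symm hik.symm (mul_mem hv hv)
    (mul_mem hw hw) (one_mem (U i)) (by rw [mul_one]; exact e3)
  have sq : ∀ a : G, a ∈ Q → a * a ∈ Z → a ∈ Z := by
    intro a ha haa
    have h3 := F.exp a ha
    have h4 : a = (a * a) * (a * a) := by
      calc a = a ^ 3 * a := by rw [h3, one_mul]
        _ = (a * a) * (a * a) := by simp only [pow_succ, pow_zero, one_mul, mul_assoc]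
    rw [h4]; exact mul_mem haa haa
  have hvZ := sq v (F.UleQ j hv) e4.1
  have hwZ := sq w (F.UleQ k hw) e4.2.1
  exact mul_mem (mul_mem hu (F.ZleU i hvZ)) (F.ZleU i hwZ)

end Frame

end Cfsg.Agent.H341.Weak
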