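import Mathlib
import Cfsg.Agent.H341.WeakFrame

/-!
# Elements of order 3 acting on a frame
-/

set_option autoImplicit false

namespace Cfsg.Agent.H341.Weak

variable {G : Type*} [Group G]

/-- the orbit of `y` under a subgroup `Q` -/
theorem orb [Finite G] (Q : Subgroup G) (y : G) (W : Set G)
    (hW : ∀ r ∈ Q, y⁻¹ * r * y * r⁻¹ ∈ W) :
    Nat.card Q ≤ Nat.card W * Nat.card (Q ⊓ Subgroup.centralizer {y} : Subgroup G) ∧
    (Nat.card W * Nat.card (Q ⊓ Subgroup.centralizer {y} : Subgroup G) ≤ Nat.card Q →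
      ∀ w ∈ W, ∃ r ∈ Q, y⁻¹ * r * y * r⁻¹ = w) := by
  classical
  set A : Subgroup G := Q ⊓ Subgroup.centralizer {y} with hA
  let f : Q ⧸ A.subgroupOf Q → W := Quotient.lift
    (fun r : Q => (⟨y⁻¹ * r * y * (r : G)⁻¹, hW r r.2⟩ : W)) (by
      intro a b hab
      have h1 : (a⁻¹ * b : Q) ∈ A.subgroupOf Q := QuotientGroup.leftRel_apply.1 hab
      rw [Subgroup.mem_subgroupOf] at h1
      have h2 := Subgroup.mem_centralizer_iff.1 h1.2 y rfl
      push_cast at h2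
      apply Subtype.ext
      show y⁻¹ * a * y * (a : G)⁻¹ = y⁻¹ * b * y * (b : G)⁻¹
      calc y⁻¹ * a * y * (a : G)⁻¹ = y⁻¹ * a * (y * ((a : G)⁻¹ * b)) * (b : G)⁻¹ := by group
        _ = y⁻¹ * a * ((a : G)⁻¹ * b * y) * (b : G)⁻¹ := by rw [h2]
        _ = _ := by group)
  have hinj : Function.Injective f := by
    intro a b hab
    induction a using QuotientGroup.induction_on with | _ a =>
    induction b using QuotientGroup.induction_on with | _ b =>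
    have h1 : y⁻¹ * a * y * (a : G)⁻¹ = y⁻¹ * b * y * (b : G)⁻¹ := congrArg Subtype.val hab
    rw [QuotientGroup.eq, Subgroup.mem_subgroupOf]
    refine Subgroup.mem_inf.2 ⟨(a⁻¹ * b).2, ?_⟩
    rw [Subgroup.mem_centralizer_iff]
    intro y' hy'
    rw [Set.mem_singleton_iff.1 hy']
    push_cast
    calc y * ((a : G)⁻¹ * b) = (a : G)⁻¹ * (y * (y⁻¹ * a * y * (a : G)⁻¹)) * b := by group
      _ = (a : G)⁻¹ * (y * (y⁻¹ * b * y * (b : G)⁻¹)) * b := by rw [h1]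
      _ = _ := by group
  have hcard := Subgroup.card_eq_card_quotient_mul_card_subgroup (A.subgroupOf Q)
  have hA2 : Nat.card (A.subgroupOf Q) = Nat.card A :=
    Nat.card_congr (Subgroup.subgroupOfEquivOfLe inf_le_left).toEquiv
  rw [hA2] at hcard
  have hle : Nat.card (Q ⧸ A.subgroupOf Q) ≤ Nat.card W := Nat.card_le_card_of_injective f hinj
  have hApos : 0 < Nat.card A := Nat.card_pos
  constructor
  · rw [hcard]; exact Nat.mul_le_mul_right _ hle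
  · intro h w hw
    rw [hcard] at h
    have h2 : Nat.card W ≤ Nat.card (Q ⧸ A.subgroupOf Q) := Nat.le_of_mul_le_mul_right h hApos
    have hsurj : Function.Surjective f :=
      ((Nat.bijective_iff_injective_and_card f).2 ⟨hinj, le_antisymm hle h2⟩).2
    obtain ⟨r, hr⟩ := hsurj ⟨w, hw⟩
    induction r using QuotientGroup.induction_on with | _ r =>
    exact ⟨r, r.2, congrArg Subtype.val hr⟩

/-- `{x ∈ L : [y, x] ∈ Z}` -/
def CZ (Z L : Subgroup G) (hL : L ≤ Subgroup.centralizer (Z : Set G)) (y : G) : Subgroup G where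
  carrier := {x | x ∈ L ∧ y * x * y⁻¹ * x⁻¹ ∈ Z}
  one_mem' := ⟨one_mem _, by simp⟩
  mul_mem' := by
    rintro a b ⟨ha, ha'⟩ ⟨hb, hb'⟩
    refine ⟨mul_mem ha hb, ?_⟩
    have h1 := Frame.cz (hL ha) hb'
    have h2 : y * (a * b) * y⁻¹ * (a * b)⁻¹ =
      (y * a * y⁻¹ * a⁻¹) * (a * (y * b * y⁻¹ * b⁻¹) * a⁻¹) := by group
    rw [h2, h1]; exact mul_mem ha' hb'
  inv_mem' := by
    rintro a ⟨ha, ha'⟩
    refine ⟨inv_mem ha, ?_⟩
    have h1 := Frame.cz (inv_mem (hL ha)) (inv_mem ha')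
    have h2 : y * a⁻¹ * y⁻¹ * a⁻¹⁻¹ = a⁻¹ * (y * a * y⁻¹ * a⁻¹)⁻¹ * a⁻¹⁻¹ := by group
    rw [h2, h1]; exact inv_mem ha'

namespace Frame

variable {Z Q : Subgroup G} {U : Fin 3 → Subgroup G} {e : Fin 3 → G}

/-- conjugating the involutions by an element of `Q` -/
theorem conjE (F : Frame Z Q U e) {q : G} (hq : q ∈ Q) :
    Frame Z Q U (fun i => q * e i * q⁻¹) where
  cardZ := F.cardZ
  cardQ := F.cardQ
  cardU := F.cardU
  QleC := F.QleC
  conjQ := F.conjQ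
  CQ := F.CQ
  exp := F.exp
  ZleU := F.ZleU
  UleQ := F.UleQ
  comm := F.comm
  comZ := F.comZ
  cenZ := F.cenZ
  sup := F.sup
  perm := F.perm
  eC i := mul_mem (mul_mem (F.QleC hq) (F.eC i)) (inv_mem (F.QleC hq))
  e2 i := by
    calc q * e i * q⁻¹ * (q * e i * q⁻¹) = q * (e i * e i) * q⁻¹ := by group
      _ = 1 := by rw [F.e2]; group
  ee i j := by
    calc q * e i * q⁻¹ * (q * e j * q⁻¹) = q * (e i * e j) * q⁻¹ := by group
      _ = q * (e j * e i) * q⁻¹ := by rw [F.ee]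
      _ = _ := by group
  eU i j hij x hx := by
    have h1 : q⁻¹ * x * q ∈ U j := by
      have := F.sg_spec (F.QleC (inv_mem hq)) j hx
      rw [F.sg_Q (inv_mem hq)] at this
      simpa using this
    have h2 := F.eU i j hij _ h1
    calc q * e i * q⁻¹ * x * (q * e i * q⁻¹)⁻¹ = q * (e i * (q⁻¹ * x * q) * (e i)⁻¹) * q⁻¹ := by
          group
      _ = x := by rw [h2]; group
  einv i x hx := by
    have h1 : q⁻¹ * x * q ∈ U i := by
      have := F.sg_spec (F.QleC (inv_mem hq)) i hx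
      rw [F.sg_Q (inv_mem hq)] at this
      simpa using this
    have h2 := F.einv i _ h1
    have h3 : q * e i * q⁻¹ * x * (q * e i * q⁻¹)⁻¹ * x =
        q * (e i * (q⁻¹ * x * q) * (e i)⁻¹ * (q⁻¹ * x * q)) * q⁻¹ := by group
    rw [h3, cz (F.QleC hq) h2]; exact h2

/-- transport by an automorphism -/
theorem map (F : Frame Z Q U e) (φ : G ≃* G) :
    Frame (Z.map φ.toMonoidHom) (Q.map φ.toMonoidHom) (fun i => (U i).map φ.toMonoidHom)
      (fun i => φ (e i)) := by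
  have hm : ∀ (K : Subgroup G) (x : G), x ∈ K.map φ.toMonoidHom ↔ φ.symm x ∈ K := fun K x =>
    Subgroup.mem_map_equiv
  have hc : ∀ (K : Subgroup G) (x : G), x ∈ Subgroup.centralizer
      ((K.map φ.toMonoidHom : Subgroup G) : Set G) ↔
      φ.symm x ∈ Subgroup.centralizer (K : Set G) := by
    intro K x
    rw [Subgroup.mem_centralizer_iff, Subgroup.mem_centralizer_iff]
    constructor
    · intro h k hk
      have h1 := h (φ k) ((hm K _).2 (by simpa using hk))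
      apply φ.injective
      simpa using h1
    · intro h k hk
      have h1 := h (φ.symm k) ((hm K _).1 hk)
      apply φ.symm.injective
      simpa using h1
  have hcard : ∀ K : Subgroup G, Nat.card (K.map φ.toMonoidHom) = Nat.card K := fun K =>
    (Nat.card_congr (K.equivMapOfInjective φ.toMonoidHom φ.injective).toEquiv).symm
  refine
    { cardZ := by rw [hcard, F.cardZ]
      cardQ := by rw [hcard, F.cardQ]
      cardU := fun i => by rw [hcard, F.cardU]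
      QleC := fun x hx => (hc _ _).2 (F.QleC ((hm _ _).1 hx))
      conjQ := fun c h x hx => (hm _ _).2 (by
        have := F.conjQ _ ((hc _ _).1 h) _ ((hm _ _).1 hx)
        simpa using this)
      CQ := fun x hx => (hm _ _).2 (F.CQ ((hc _ _).1 hx))
      exp := fun x hx => by
        have := F.exp _ ((hm _ _).1 hx)
        apply φ.symm.injective
        simpa using this
      ZleU := fun i => Subgroup.map_mono (F.ZleU i)
      UleQ := fun i => Subgroup.map_mono (F.UleQ i)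
      comm := fun i j hij x hx y hy => by
        have := F.comm i j hij _ ((hm _ _).1 hx) _ ((hm _ _).1 hy)
        apply φ.symm.injective
        simpa using this
      comZ := fun x hx y hy => (hm _ _).2 (by
        have := F.comZ _ ((hm _ _).1 hx) _ ((hm _ _).1 hy)
        simpa using this)
      cenZ := fun x hx h => (hm _ _).2 (F.cenZ _ ((hm _ _).1 hx) (fun y hy => by
        have h1 := h (φ y) ((hm _ _).2 (by simpa using hy))
        apply φ.injective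
        simpa using h1))
      sup := by
        conv_lhs => rw [F.sup]
        rw [Subgroup.map_sup, Subgroup.map_sup]
      perm := fun c h => by
        obtain ⟨s, hs⟩ := F.perm _ ((hc _ _).1 h)
        refine ⟨s, fun i x hx => (hm _ _).2 ?_⟩
        have := hs i _ ((hm _ _).1 hx)
        simpa using this
      eC := fun i => (hc _ _).2 (by simpa using F.eC i)
      e2 := fun i => by rw [← map_mul, F.e2, map_one]
      ee := fun i j => by rw [← map_mul, F.ee, map_mul]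
      eU := fun i j hij x hx => by
        have := F.eU i j hij _ ((hm _ _).1 hx)
        apply φ.symm.injective
        simpa using this
      einv := fun i x hx => (hm _ _).2 (by
        have := F.einv i _ ((hm _ _).1 hx)
        simpa using this) }

/-- an element of order 3 acting nontrivially on each block -/
structure Full (Z : Subgroup G) (U : Fin 3 → Subgroup G) (y : G) (r c : Fin 3 → G) : Prop where
  cen : y ∈ Subgroup.centralizer (Z : Set G)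
  y3 : y ^ 3 = 1
  act : ∀ i, Act Z (U i) y
  H : ∀ i, Unip Z (U i) y (r i) (c i)

theorem exists_full (F : Frame Z Q U e) {y : G} (hy : y ∈ Subgroup.centralizer (Z : Set G))
    (hy3 : y ^ 3 = 1) (hs : F.sg y = 1) (hn : ∀ i, ¬ Triv Z (U i) y) :
    ∃ r c, Full Z U y r c := by
  have hA : ∀ i, Act Z (U i) y := fun i => F.act_of_sg hy (by rw [hs]; rfl)
  choose r c H using fun i => (F.blk i).unip (hA i) hy3 (hn i)
  exact ⟨r, c, hy, hy3, hA, H⟩

/-- component of a relation -/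
theorem comp (F : Frame Z Q U e) {y : G} {i j k : Fin 3} (hij : i ≠ j) (hik : i ≠ k)
    (hjk : j ≠ k) (hA : ∀ i, Act Z (U i) y)
    {u v w : G} (hu : u ∈ U i) (hv : v ∈ U j) (hw : w ∈ U k)
    (h : y * (u * v * w) * y⁻¹ * (u * v * w)⁻¹ ∈ Z) :
    y * u * y⁻¹ * u⁻¹ ∈ Z ∧ y * v * y⁻¹ * v⁻¹ ∈ Z ∧ y * w * y⁻¹ * w⁻¹ ∈ Z := by
  have hu' := (hA i).nor u hu
  have hv' := (hA j).nor v hv
  have hw' := (hA k).nor w hw
  apply F.indep hij hik hjk (mul_mem hu' (inv_mem hu)) (mul_mem hv' (inv_mem hv))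
    (mul_mem hw' (inv_mem hw))
  have h1 : y * (u * v * w) * y⁻¹ * (u * v * w)⁻¹ =
      y * u * y⁻¹ * u⁻¹ * (y * v * y⁻¹ * v⁻¹) * (y * w * y⁻¹ * w⁻¹) := by
    have c1 : Commute (y * v * y⁻¹) u⁻¹ := (F.comm i j hij _ (inv_mem hu) _ hv').symm
    have c2 : Commute (y * w * y⁻¹ * w⁻¹) u⁻¹ :=
      (F.comm i k hik _ (inv_mem hu) _ (mul_mem hw' (inv_mem hw))).symm
    have c3 : Commute (y * w * y⁻¹ * w⁻¹) v⁻¹ :=
      (F.comm j k hjk _ (inv_mem hv) _ (mul_mem hw' (inv_mem hw))).symm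
    calc y * (u * v * w) * y⁻¹ * (u * v * w)⁻¹
        = (y * u * y⁻¹) * (y * v * y⁻¹) * ((y * w * y⁻¹ * w⁻¹) * v⁻¹) * u⁻¹ := by group
      _ = (y * u * y⁻¹) * (y * v * y⁻¹) * (v⁻¹ * (y * w * y⁻¹ * w⁻¹)) * u⁻¹ := by rw [c3.eq]
      _ = (y * u * y⁻¹) * (y * v * y⁻¹) * v⁻¹ * ((y * w * y⁻¹ * w⁻¹) * u⁻¹) := by group
      _ = (y * u * y⁻¹) * (y * v * y⁻¹) * v⁻¹ * (u⁻¹ * (y * w * y⁻¹ * w⁻¹)) := by rw [c2.eq]
      _ = (y * u * y⁻¹) * (y * v * y⁻¹) * (v⁻¹ * u⁻¹) * (y * w * y⁻¹ * w⁻¹) := by group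
      _ = (y * u * y⁻¹) * (y * v * y⁻¹) * (u⁻¹ * v⁻¹) * (y * w * y⁻¹ * w⁻¹) := by
          rw [(F.comm i j hij _ (inv_mem hu) _ (inv_mem hv))]
      _ = (y * u * y⁻¹) * ((y * v * y⁻¹) * u⁻¹) * v⁻¹ * (y * w * y⁻¹ * w⁻¹) := by group
      _ = (y * u * y⁻¹) * (u⁻¹ * (y * v * y⁻¹)) * v⁻¹ * (y * w * y⁻¹ * w⁻¹) := by rw [c1.eq]
      _ = _ := by group
  rw [← h1]; exact h

namespace Full

variable {y : G} {r c : Fin 3 → G}

theorem c_mem (F : Frame Z Q U e) (H : Full Z U y r c) (i : Fin 3) : c i ∈ Q :=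
  F.UleQ i (H.H i).cU

/-- elements of `CZ` -/
theorem mem (F : Frame Z Q U e) (H : Full Z U y r c) {x : G} (hx : x ∈ CZ Z Q F.QleC y) :
    ∃ n : Fin 3 → Fin 3, ∃ w ∈ Z, x = c 0 ^ (n 0).val * c 1 ^ (n 1).val * c 2 ^ (n 2).val * w := by
  obtain ⟨hxQ, hx2⟩ := hx
  obtain ⟨u, hu, v, hv, w, hw, rfl⟩ := F.mul3 (i := 0) (j := 1) (k := 2) (by decide) (by decide)
    (by decide) x hxQ
  obtain ⟨h1, h2, h3⟩ := F.comp (i := 0) (j := 1) (k := 2) (by decide) (by decide)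
    (by decide) H.act hu hv hw hx2
  obtain ⟨n0, w0, hw0, e0⟩ := (H.H 0).fix u hu h1
  obtain ⟨n1, w1, hw1, e1⟩ := (H.H 1).fix v hv h2
  obtain ⟨n2, w2, hw2, e2⟩ := (H.H 2).fix w hw h3
  refine ⟨![n0, n1, n2], w0 * w1 * w2, mul_mem (mul_mem hw0 hw1) hw2, ?_⟩
  have c1 : w0 * (c 1 ^ n1.val) = c 1 ^ n1.val * w0 :=
    F.zc hw0 (pow_mem (H.c_mem F 1) _)
  have c2 : (w0 * w1) * (c 2 ^ n2.val) = c 2 ^ n2.val * (w0 * w1) :=
    F.zc (mul_mem hw0 hw1) (pow_mem (H.c_mem F 2) _)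
  rw [e0, e1, e2]
  show c 0 ^ n0.val * w0 * (c 1 ^ n1.val * w1) * (c 2 ^ n2.val * w2) =
    c 0 ^ n0.val * c 1 ^ n1.val * c 2 ^ n2.val * (w0 * w1 * w2)
  calc c 0 ^ n0.val * w0 * (c 1 ^ n1.val * w1) * (c 2 ^ n2.val * w2)
      = c 0 ^ n0.val * (w0 * c 1 ^ n1.val) * w1 * (c 2 ^ n2.val * w2) := by group
    _ = c 0 ^ n0.val * c 1 ^ n1.val * ((w0 * w1) * c 2 ^ n2.val) * w2 := by rw [c1]; group
    _ = _ := by rw [c2]; group

theorem card_le (F : Frame Z Q U e) [Finite G] (H : Full Z U y r c) :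
    Nat.card (CZ Z Q F.QleC y) ≤ 81 := by
  have hsurj : Set.SurjOn (fun p : (Fin 3 × Fin 3 × Fin 3) × Z =>
      c 0 ^ p.1.1.val * c 1 ^ p.1.2.1.val * c 2 ^ p.1.2.2.val * (p.2 : G)) Set.univ
      (CZ Z Q F.QleC y : Set G) := by
    intro x hx
    obtain ⟨n, w, hw, rfl⟩ := H.mem F hx
    exact ⟨((n 0, n 1, n 2), ⟨w, hw⟩), Set.mem_univ _, rfl⟩
  have h1 := Set.ncard_le_ncard_of_injOn (s := (CZ Z Q F.QleC y : Set G))
    (t := Set.univ) (fun x => Classical.epsilon (fun p : (Fin 3 × Fin 3 × Fin 3) × Z =>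
      c 0 ^ p.1.1.val * c 1 ^ p.1.2.1.val * c 2 ^ p.1.2.2.val * (p.2 : G) = x))
      (fun _ _ => Set.mem_univ _) (by
        intro a ha b hb hab
        obtain ⟨pa, _, hpa⟩ := hsurj ha
        obtain ⟨pb, _, hpb⟩ := hsurj hb
        have ea := Classical.epsilon_spec (p := fun p : (Fin 3 × Fin 3 × Fin 3) × Z =>
          c 0 ^ p.1.1.val * c 1 ^ p.1.2.1.val * c 2 ^ p.1.2.2.val * (p.2 : G) = a) ⟨pa, hpa⟩
        have eb := Classical.epsilon_spec (p := fun p : (Fin 3 × Fin 3 × Fin 3) × Z =>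
          c 0 ^ p.1.1.val * c 1 ^ p.1.2.1.val * c 2 ^ p.1.2.2.val * (p.2 : G) = b) ⟨pb, hpb⟩
        simp only at hab
        rw [← ea, ← eb, hab])
  rw [Set.ncard_univ] at h1
  have h2 : Nat.card ((Fin 3 × Fin 3 × Fin 3) × Z) = 81 := by
    rw [Nat.card_prod, Nat.card_prod, Nat.card_prod, F.cardZ]; simp
  rw [h2] at h1
  exact h1

theorem comm (F : Frame Z Q U e) (H : Full Z U y r c) {a b : G}
    (ha : a ∈ CZ Z Q F.QleC y) (hb : b ∈ CZ Z Q F.QleC y) : a * b = b * a := by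
  obtain ⟨n, w, hw, rfl⟩ := H.mem F ha
  obtain ⟨n', w', hw', rfl⟩ := H.mem F hb
  have cc : ∀ i j, Commute (c i) (c j) := by
    intro i j
    by_cases hij : i = j
    · subst hij; exact Commute.refl _
    · exact F.comm i j hij _ (H.H i).cU _ (H.H j).cU
  have cw : ∀ i, ∀ v ∈ Z, Commute v (c i) := fun i v hv => F.zc hv (H.c_mem F i)
  have cww : Commute w w' := F.zc hw (F.ZleQ hw')
  have key : ∀ (n : Fin 3 → Fin 3) (g : G), (∀ i, Commute g (c i)) →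
      Commute g (c 0 ^ (n 0).val * c 1 ^ (n 1).val * c 2 ^ (n 2).val) := fun n g hg =>
    (((hg 0).pow_right _).mul_right ((hg 1).pow_right _)).mul_right ((hg 2).pow_right _)
  have k1 : Commute (c 0 ^ (n 0).val * c 1 ^ (n 1).val * c 2 ^ (n 2).val)
      (c 0 ^ (n' 0).val * c 1 ^ (n' 1).val * c 2 ^ (n' 2).val) :=
    key n' _ fun i => (key n (c i) fun j => cc i j).symm
  have k2 : Commute w (c 0 ^ (n' 0).val * c 1 ^ (n' 1).val * c 2 ^ (n' 2).val) :=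
    key n' w fun i => cw i w hw
  have k3 : Commute w' (c 0 ^ (n 0).val * c 1 ^ (n 1).val * c 2 ^ (n 2).val) :=
    key n w' fun i => cw i w' hw'
  exact ((k1.mul_right k3.symm).mul_left (k2.mul_right cww))

theorem orbit_mem (F : Frame Z Q U e) (H : Full Z U y r c) {x : G} (hx : x ∈ Q) :
    y⁻¹ * x * y * x⁻¹ ∈ CZ Z Q F.QleC y := by
  have hUi : ∀ i, ∀ u ∈ U i, y⁻¹ * u * y * u⁻¹ ∈ U i ∧ y⁻¹ * u * y * u⁻¹ ∈ CZ Z Q F.QleC y := by
    intro i u hu
    have hyu : y⁻¹ * u * y ∈ U i := by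
      have h1 := (H.act i).nor _ ((H.act i).nor u hu)
      have h2 := Blk.conj_cube H.y3 u
      have h3 : y⁻¹ * u * y = y * (y * u * y⁻¹) * y⁻¹ := by
        calc y⁻¹ * u * y = y⁻¹ * (y * (y * (y * u * y⁻¹) * y⁻¹) * y⁻¹) * y := by rw [h2]
          _ = _ := by group
      rw [h3]; exact h1
    have h4 : y⁻¹ * u * y * u⁻¹ ∈ U i := mul_mem hyu (inv_mem hu)
    exact ⟨h4, F.UleQ i h4, (H.H i).two u hu⟩
  obtain ⟨u, hu, v, hv, w, hw, rfl⟩ := F.mul3 (i := 0) (j := 1) (k := 2) (by decide) (by decide)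
    (by decide) x hx
  obtain ⟨hu1, hu2⟩ := hUi 0 u hu
  obtain ⟨hv1, hv2⟩ := hUi 1 v hv
  obtain ⟨hw1, hw2⟩ := hUi 2 w hw
  have h1 : y⁻¹ * (u * v * w) * y * (u * v * w)⁻¹ =
      (y⁻¹ * u * y * u⁻¹) * (y⁻¹ * v * y * v⁻¹) * (y⁻¹ * w * y * w⁻¹) := by
    have c1 : Commute (y⁻¹ * v * y) u⁻¹ := (F.comm 0 1 (by decide) _ (inv_mem hu) _ (by
      have : y⁻¹ * v * y = (y⁻¹ * v * y * v⁻¹) * v := by group
      rw [this]; exact mul_mem hv1 hv)).symm
    have c2 : Commute (y⁻¹ * w * y * w⁻¹) u⁻¹ :=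
      (F.comm 0 2 (by decide) _ (inv_mem hu) _ hw1).symm
    have c3 : Commute (y⁻¹ * w * y * w⁻¹) v⁻¹ :=
      (F.comm 1 2 (by decide) _ (inv_mem hv) _ hw1).symm
    calc y⁻¹ * (u * v * w) * y * (u * v * w)⁻¹
        = (y⁻¹ * u * y) * (y⁻¹ * v * y) * ((y⁻¹ * w * y * w⁻¹) * v⁻¹) * u⁻¹ := by group
      _ = (y⁻¹ * u * y) * (y⁻¹ * v * y) * (v⁻¹ * (y⁻¹ * w * y * w⁻¹)) * u⁻¹ := by rw [c3.eq]
      _ = (y⁻¹ * u * y) * (y⁻¹ * v * y) * v⁻¹ * ((y⁻¹ * w * y * w⁻¹) * u⁻¹) := by group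
      _ = (y⁻¹ * u * y) * (y⁻¹ * v * y) * v⁻¹ * (u⁻¹ * (y⁻¹ * w * y * w⁻¹)) := by rw [c2.eq]
      _ = (y⁻¹ * u * y) * (y⁻¹ * v * y) * (v⁻¹ * u⁻¹) * (y⁻¹ * w * y * w⁻¹) := by group
      _ = (y⁻¹ * u * y) * (y⁻¹ * v * y) * (u⁻¹ * v⁻¹) * (y⁻¹ * w * y * w⁻¹) := by
          rw [(F.comm 0 1 (by decide) _ (inv_mem hu) _ (inv_mem hv))]
      _ = (y⁻¹ * u * y) * ((y⁻¹ * v * y) * u⁻¹) * v⁻¹ * (y⁻¹ * w * y * w⁻¹) := by group
      _ = (y⁻¹ * u * y) * (u⁻¹ * (y⁻¹ * v * y)) * v⁻¹ * (y⁻¹ * w * y * w⁻¹) := by rw [c1.eq]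
      _ = _ := by group
  rw [h1]
  exact mul_mem (mul_mem hu2 hv2) hw2

theorem A_le (F : Frame Z Q U e) (y : G) :
    Q ⊓ Subgroup.centralizer {y} ≤ CZ Z Q F.QleC y := by
  intro x hx
  obtain ⟨h1, h2⟩ := Subgroup.mem_inf.1 hx
  have h3 := Subgroup.mem_centralizer_iff.1 h2 y rfl
  refine ⟨h1, ?_⟩
  rw [h3]
  simp

theorem card3 (F : Frame Z Q U e) [Finite G] (K : Subgroup G) (hK : K ≤ Q) :
    ∃ n ≤ 7, Nat.card K = 3 ^ n := by
  have h1 : Nat.card K ∣ 3 ^ 7 := by rw [← F.cardQ]; exact Subgroup.card_dvd_of_le hK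
  obtain ⟨n, hn, h2⟩ := (Nat.dvd_prime_pow (by norm_num)).1 h1
  exact ⟨n, hn, h2⟩

/-- cardinalities -/
theorem cards (F : Frame Z Q U e) [Finite G] (H : Full Z U y r c) :
    Nat.card (CZ Z Q F.QleC y) = 81 ∧
    27 ≤ Nat.card (Q ⊓ Subgroup.centralizer {y} : Subgroup G) ∧
    (Nat.card (Q ⊓ Subgroup.centralizer {y} : Subgroup G) ≤ 27 →
      ∀ w ∈ CZ Z Q F.QleC y, ∃ x ∈ Q, y⁻¹ * x * y * x⁻¹ = w) ∧
    (¬ (CZ Z Q F.QleC y ≤ Subgroup.centralizer {y}) →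
      Nat.card (Q ⊓ Subgroup.centralizer {y} : Subgroup G) ≤ 27) := by
  obtain ⟨h1, h2⟩ := orb Q y (CZ Z Q F.QleC y : Set G) (fun x hx => H.orbit_mem F hx)
  have h3 := H.card_le F
  have hC : Nat.card ((CZ Z Q F.QleC y : Subgroup G) : Set G) = Nat.card (CZ Z Q F.QleC y) := rfl
  rw [hC, F.cardQ] at h1 h2
  have hle : Nat.card (Q ⊓ Subgroup.centralizer {y} : Subgroup G) ≤ Nat.card (CZ Z Q F.QleC y) :=
    Subgroup.card_le_of_le (A_le F y)
  obtain ⟨n, _, hn⟩ := card3 F (CZ Z Q F.QleC y) (fun x hx => hx.1)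
  obtain ⟨m, _, hm⟩ := card3 F (Q ⊓ Subgroup.centralizer {y}) inf_le_left
  rw [hn] at h1 h2 h3 hle
  rw [hm] at h1 h2 hle
  have hn4 : n ≤ 4 := by
    by_contra hcon
    have : 3 ^ 5 ≤ 3 ^ n := Nat.pow_le_pow_right (by norm_num) (by omega)
    omega
  have hmn : m ≤ n := by
    by_contra hcon
    have : 3 ^ (n + 1) ≤ 3 ^ m := Nat.pow_le_pow_right (by norm_num) (by omega)
    rw [pow_succ] at this
    have : 0 < 3 ^ n := by positivity
    omega
  have h7 : 7 ≤ n + m := by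
    rw [← pow_add] at h1
    by_contra hcon
    have : 3 ^ (n + m + 1) ≤ 3 ^ 7 := Nat.pow_le_pow_right (by norm_num) (by omega)
    rw [pow_succ] at this
    have : 0 < 3 ^ (n + m) := by positivity
    omega
  have hn' : n = 4 := by omega
  subst hn'
  refine ⟨by rw [hn]; norm_num, ?_, ?_, ?_⟩
  · rw [hm]
    calc 27 = 3 ^ 3 := by norm_num
      _ ≤ 3 ^ m := Nat.pow_le_pow_right (by norm_num) (by omega)
  · intro h
    rw [hm] at h
    apply h2
    calc 3 ^ 4 * 3 ^ m ≤ 3 ^ 4 * 27 := Nat.mul_le_mul_left _ h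
      _ = 3 ^ 7 := by norm_num
  · intro h
    rw [hm]
    have hm3 : m ≤ 3 := by
      by_contra hcon
      have hm4 : m = 4 := by omega
      apply h
      have heq : Q ⊓ Subgroup.centralizer {y} = CZ Z Q F.QleC y := by
        apply Subgroup.eq_of_le_of_card_ge (A_le F y)
        rw [hn, hm, hm4]
      rw [← heq]; exact inf_le_right
    calc 3 ^ m ≤ 3 ^ 3 := Nat.pow_le_pow_right (by norm_num) hm3
      _ = 27 := by norm_num

end Full

end Frame

end Cfsg.Agent.H341.Weak
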