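import Mathlib
import Cfsg.Agent.H341.WeakFull

/-!
# Abelian 3-subgroups meeting `Q` trivially
-/

set_option autoImplicit false

namespace Cfsg.Agent.H341.Weak

variable {G : Type*} [Group G]

theorem relIndex_le3 [Finite G] (K B : Subgroup G) {b0 : G} (hb0 : b0 ∈ B)
    (h : ∀ b ∈ B, ∃ m : Fin 3, b0 ^ m.val * b ∈ K) : K.relIndex B ≤ 3 := by
  rw [Subgroup.relIndex, Subgroup.index]
  have hs : Function.Surjective (fun m : Fin 3 =>
      (QuotientGroup.mk ((⟨b0, hb0⟩ : B) ^ m.val)⁻¹ : B ⧸ K.subgroupOf B)) := by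
    intro x
    induction x using QuotientGroup.induction_on with | _ b =>
    obtain ⟨m, hm⟩ := h b b.2
    refine ⟨m, ?_⟩
    rw [QuotientGroup.eq, Subgroup.mem_subgroupOf]
    push_cast
    simpa using hm
  have := Nat.card_le_card_of_surjective _ hs
  simpa using this

theorem perm_cube : ∀ s t : Equiv.Perm (Fin 3), s ^ 3 = 1 → s ≠ 1 → t ^ 3 = 1 →
    ∃ m : Fin 3, s ^ m.val * t = 1 := by
  decide

theorem perm_cyc : ∀ s : Equiv.Perm (Fin 3), s ^ 3 = 1 → s ≠ 1 →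
    ∀ i, s i ≠ i ∧ s (s i) ≠ i ∧ s (s i) ≠ s i := by
  decide

theorem perm_comm : ∀ s t : Equiv.Perm (Fin 3), s ^ 3 = 1 → t ^ 3 = 1 → s * t = t * s := by
  decide

namespace Frame

variable {Z Q : Subgroup G} {U : Fin 3 → Subgroup G} {e : Fin 3 → G}

/-- the elements of `C(Z)` fixing every block -/
noncomputable def N0 (F : Frame Z Q U e) : Subgroup G where
  carrier := {h | h ∈ Subgroup.centralizer (Z : Set G) ∧ F.sg h = 1}
  one_mem' := ⟨one_mem _, F.sg_one⟩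
  mul_mem' := by
    rintro a b ⟨ha, ha'⟩ ⟨hb, hb'⟩
    exact ⟨mul_mem ha hb, by rw [F.sg_mul ha hb, ha', hb', one_mul]⟩
  inv_mem' := by
    rintro a ⟨ha, ha'⟩
    exact ⟨inv_mem ha, by rw [F.sg_inv ha, ha', inv_one]⟩

theorem N0_act (F : Frame Z Q U e) {h : G} (hh : h ∈ F.N0) (i : Fin 3) : Act Z (U i) h :=
  F.act_of_sg hh.1 (by rw [hh.2]; rfl)

/-- the elements acting trivially on `U i / Z` -/
noncomputable def KK (F : Frame Z Q U e) (i : Fin 3) : Subgroup G where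
  carrier := {h | h ∈ F.N0 ∧ Triv Z (U i) h}
  one_mem' := ⟨one_mem _, fun x _ => by simp⟩
  mul_mem' := by
    rintro a b ⟨ha, ha'⟩ ⟨hb, hb'⟩
    exact ⟨mul_mem ha hb, ha'.mul hb' (F.N0_act hb i)⟩
  inv_mem' := by
    rintro a ⟨ha, ha'⟩
    refine ⟨inv_mem ha, fun x hx => ?_⟩
    have h1 := (F.N0_act (inv_mem ha) i).nor x hx
    have h2 := inv_mem (ha' _ h1)
    have h3 : a⁻¹ * x * a⁻¹⁻¹ * x⁻¹ = (a * (a⁻¹ * x * a⁻¹⁻¹) * a⁻¹ * (a⁻¹ * x * a⁻¹⁻¹)⁻¹)⁻¹ := by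
      group
    rw [h3]; exact h2

theorem KK_le (F : Frame Z Q U e) (i : Fin 3) : F.KK i ≤ F.N0 := fun _ h => h.1

theorem KK_inf (F : Frame Z Q U e) : F.KK 0 ⊓ F.KK 1 ⊓ F.KK 2 ≤ Q := by
  intro h hh
  obtain ⟨h01, h2⟩ := Subgroup.mem_inf.1 hh
  obtain ⟨h0, h1⟩ := Subgroup.mem_inf.1 h01
  apply F.mem_Q h0.1.1
  intro i
  fin_cases i
  · exact h0.2
  · exact h1.2
  · exact h2.2

/-- abelian, exponent 3, meeting `Q` trivially -/
structure Ab (F : Frame Z Q U e) (B : Subgroup G) : Prop where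
  cen : B ≤ Subgroup.centralizer (Z : Set G)
  comm : ∀ a ∈ B, ∀ b ∈ B, a * b = b * a
  exp : ∀ b ∈ B, b ^ 3 = 1
  bot : B ⊓ Q = ⊥

namespace Ab

variable {B : Subgroup G}

theorem KK_relIndex [Finite G] (F : Frame Z Q U e) (hB : F.Ab B) (B' : Subgroup G)
    (hB' : B' ≤ B) (h : B' ≤ F.N0) (i : Fin 3) : (F.KK i).relIndex B' ≤ 3 := by
  by_cases hall : ∀ b ∈ B', Triv Z (U i) b
  · apply relIndex_le3 _ _ (one_mem B')
    intro b hb
    exact ⟨0, by simpa using ⟨h hb, hall b hb⟩⟩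
  · push Not at hall
    obtain ⟨b0, hb0, hn⟩ := hall
    apply relIndex_le3 _ _ hb0
    intro b hb
    obtain ⟨m, hm⟩ := (F.blk i).comm3 (F.N0_act (h hb0) i) (hB.exp b0 (hB' hb0)) hn
      (F.N0_act (h hb) i) (hB.exp b (hB' hb)) (hB.comm _ (hB' hb0) _ (hB' hb))
    exact ⟨m, mul_mem (pow_mem (h hb0) _) (h hb), hm⟩

theorem card_of_le [Finite G] (F : Frame Z Q U e) (hB : F.Ab B) (h : B ≤ F.N0) :
    Nat.card B ≤ 27 := by
  have h1 : (F.KK 0 ⊓ F.KK 1 ⊓ F.KK 2).relIndex B = Nat.card B := by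
    rw [← Subgroup.inf_relIndex_right]
    have : F.KK 0 ⊓ F.KK 1 ⊓ F.KK 2 ⊓ B = ⊥ := by
      rw [eq_bot_iff, ← hB.bot]
      exact le_inf inf_le_right (inf_le_left.trans F.KK_inf)
    rw [this, Subgroup.relIndex_bot_left]
  have h2 : (F.KK 0 ⊓ F.KK 1 ⊓ F.KK 2).relIndex B ≤
      (F.KK 0 ⊓ F.KK 1).relIndex B * (F.KK 2).relIndex B := Subgroup.relIndex_inf_le
  have h3 : (F.KK 0 ⊓ F.KK 1).relIndex B ≤ (F.KK 0).relIndex B * (F.KK 1).relIndex B :=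
    Subgroup.relIndex_inf_le
  have k0 := hB.KK_relIndex F B le_rfl h 0
  have k1 := hB.KK_relIndex F B le_rfl h 1
  have k2 := hB.KK_relIndex F B le_rfl h 2
  rw [← h1]
  calc _ ≤ (F.KK 0 ⊓ F.KK 1).relIndex B * (F.KK 2).relIndex B := h2
    _ ≤ ((F.KK 0).relIndex B * (F.KK 1).relIndex B) * (F.KK 2).relIndex B :=
        Nat.mul_le_mul_right _ h3
    _ ≤ (3 * 3) * 3 := Nat.mul_le_mul (Nat.mul_le_mul k0 k1) k2

/-- an element commuting with a permuting element and trivial on one block is in `Q` -/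
theorem triv_all (F : Frame Z Q U e) {b0 b : G} (hb0 : b0 ∈ Subgroup.centralizer (Z : Set G))
    (h3 : F.sg b0 ^ 3 = 1) (hs : F.sg b0 ≠ 1) (_hb : b ∈ F.N0) (hcomm : b0 * b = b * b0)
    {i : Fin 3} (ht : Triv Z (U i) b) : ∀ j, Triv Z (U j) b := by
  have step : ∀ k, Triv Z (U k) b → Triv Z (U (F.sg b0 k)) b := by
    intro k hk x hx
    have h1 := hk _ (F.conj_inv_mem hb0 hx)
    have h2 : b * x * b⁻¹ * x⁻¹ =
        b0 * (b * (b0⁻¹ * x * b0) * b⁻¹ * (b0⁻¹ * x * b0)⁻¹) * b0⁻¹ := by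
      have e1 : b0 * b * b0⁻¹ = b := by rw [hcomm]; group
      calc b * x * b⁻¹ * x⁻¹ = (b0 * b * b0⁻¹) * x * (b0 * b * b0⁻¹)⁻¹ * x⁻¹ := by rw [e1]
        _ = _ := by group
    rw [h2, cz hb0 h1]; exact h1
  obtain ⟨c1, c2, c3⟩ := perm_cyc _ h3 hs i
  intro j
  rcases cov3 i (F.sg b0 i) (F.sg b0 (F.sg b0 i)) c1.symm c2.symm c3.symm j with rfl | rfl | rfl
  · exact ht
  · exact step _ ht
  · exact step _ (step _ ht)

theorem card_perm [Finite G] (F : Frame Z Q U e) (hB : F.Ab B) {b0 : G} (hb0 : b0 ∈ B)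
    (hs : F.sg b0 ≠ 1) : Nat.card B ≤ 9 := by
  have h3 : F.sg b0 ^ 3 = 1 := F.sg_cube (hB.cen hb0) (hB.exp b0 hb0)
  have h1 : F.N0.relIndex B ≤ 3 := by
    apply relIndex_le3 _ _ hb0
    intro b hb
    obtain ⟨m, hm⟩ := perm_cube _ (F.sg b) h3 hs (F.sg_cube (hB.cen hb) (hB.exp b hb))
    refine ⟨m, mul_mem (pow_mem (hB.cen hb0) _) (hB.cen hb), ?_⟩
    rw [F.sg_mul (pow_mem (hB.cen hb0) _) (hB.cen hb), F.sg_pow (hB.cen hb0), hm]
  have h2 := hB.KK_relIndex F (F.N0 ⊓ B) inf_le_right inf_le_left 0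
  have h4 : (F.KK 0 ⊓ B).relIndex (F.N0 ⊓ B) * (F.N0 ⊓ B).relIndex B = (F.KK 0 ⊓ B).relIndex B :=
    Subgroup.relIndex_mul_relIndex _ _ _ (inf_le_inf_right _ (F.KK_le 0)) inf_le_right
  have h5 : F.KK 0 ⊓ B = ⊥ := by
    rw [eq_bot_iff]
    intro b hb
    obtain ⟨hb1, hb2⟩ := Subgroup.mem_inf.1 hb
    rw [← hB.bot]
    refine Subgroup.mem_inf.2 ⟨hb2, F.mem_Q hb1.1.1 ?_⟩
    exact triv_all F (hB.cen hb0) h3 hs hb1.1 (hB.comm _ hb0 _ hb2) hb1.2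
  have h6 : (F.KK 0 ⊓ B).relIndex (F.N0 ⊓ B) = (F.KK 0).relIndex (F.N0 ⊓ B) := by
    rw [← Subgroup.inf_relIndex_right (F.KK 0) (F.N0 ⊓ B),
      ← Subgroup.inf_relIndex_right (F.KK 0 ⊓ B) (F.N0 ⊓ B)]
    congr 1
    ext x
    simp only [Subgroup.mem_inf]
    tauto
  rw [Subgroup.inf_relIndex_right, h6, h5, Subgroup.relIndex_bot_left] at h4
  rw [← h4]
  calc _ ≤ 3 * 3 := Nat.mul_le_mul h2 h1

theorem card_le [Finite G] (F : Frame Z Q U e) (hB : F.Ab B) : Nat.card B ≤ 27 := by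
  by_cases h : B ≤ F.N0
  · exact hB.card_of_le F h
  · obtain ⟨b, hb, hbn⟩ := Set.not_subset.1 h
    have : F.sg b ≠ 1 := fun h1 => hbn ⟨hB.cen hb, h1⟩
    exact (hB.card_perm F hb this).trans (by norm_num)

theorem le_N0 [Finite G] (F : Frame Z Q U e) (hB : F.Ab B) (h27 : 27 ≤ Nat.card B) :
    B ≤ F.N0 := by
  intro b hb
  by_contra hbn
  have : F.sg b ≠ 1 := fun h1 => hbn ⟨hB.cen hb, h1⟩
  have := hB.card_perm F hb this
  omega

/-- elements acting on one block only -/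
theorem exists_single [Finite G] (F : Frame Z Q U e) (hB : F.Ab B) (h27 : 27 ≤ Nat.card B)
    (i : Fin 3) : ∃ b ∈ B, b ∈ F.N0 ∧ (∀ j, j ≠ i → Triv Z (U j) b) ∧ ¬ Triv Z (U i) b := by
  have hle := hB.le_N0 F h27
  obtain ⟨j, k, hij, hik, hjk⟩ := exists_jk i
  have hne : F.KK j ⊓ F.KK k ⊓ B ≠ ⊥ := by
    intro hbot
    have h1 : (F.KK j ⊓ F.KK k).relIndex B = Nat.card B := by
      rw [← Subgroup.inf_relIndex_right, hbot, Subgroup.relIndex_bot_left]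
    have h3 : (F.KK j ⊓ F.KK k).relIndex B ≤ (F.KK j).relIndex B * (F.KK k).relIndex B :=
      Subgroup.relIndex_inf_le
    have k0 := hB.KK_relIndex F B le_rfl hle j
    have k1 := hB.KK_relIndex F B le_rfl hle k
    have : (F.KK j).relIndex B * (F.KK k).relIndex B ≤ 3 * 3 := Nat.mul_le_mul k0 k1
    omega
  obtain ⟨⟨b, hb⟩, hb1⟩ := Subgroup.ne_bot_iff_exists_ne_one.1 hne
  obtain ⟨hjk', hbB⟩ := Subgroup.mem_inf.1 hb
  obtain ⟨hj, hk⟩ := Subgroup.mem_inf.1 hjk'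
  have hoth : ∀ l, l ≠ i → Triv Z (U l) b := by
    intro l hl
    rcases cov3 i j k hij hik hjk l with rfl | rfl | rfl
    · exact absurd rfl hl
    · exact hj.2
    · exact hk.2
  refine ⟨b, hbB, hle hbB, hoth, fun hi => hb1 ?_⟩
  have : (b : G) ∈ B ⊓ Q := by
    refine Subgroup.mem_inf.2 ⟨hbB, F.mem_Q (hle hbB).1 fun l => ?_⟩
    by_cases hl : l = i
    · subst hl; exact hi
    · exact hoth l hl
  rw [hB.bot, Subgroup.mem_bot] at this
  exact Subtype.ext this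

/-- an element acting on all blocks -/
theorem exists_full' [Finite G] (F : Frame Z Q U e) (hB : F.Ab B) (h27 : 27 ≤ Nat.card B) :
    ∃ b ∈ B, b ∈ F.N0 ∧ ∀ i, ¬ Triv Z (U i) b := by
  obtain ⟨b0, hb0, hN0, ht0, hn0⟩ := hB.exists_single F h27 0
  obtain ⟨b1, hb1, hN1, ht1, hn1⟩ := hB.exists_single F h27 1
  obtain ⟨b2, hb2, hN2, ht2, hn2⟩ := hB.exists_single F h27 2
  have key : ∀ i (a b : G), a ∈ F.N0 → b ∈ F.N0 → Triv Z (U i) b →
      (Triv Z (U i) (a * b) → Triv Z (U i) a) := by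
    intro i a b ha hb h1 h2
    have hb' : b⁻¹ ∈ F.KK i := inv_mem (show b ∈ F.KK i from ⟨hb, h1⟩)
    have hab : a * b ∈ F.KK i := ⟨mul_mem ha hb, h2⟩
    have := mul_mem hab hb'
    rw [mul_inv_cancel_right] at this
    exact this.2
  have key2 : ∀ i (a b : G), a ∈ F.N0 → b ∈ F.N0 → Triv Z (U i) a →
      (Triv Z (U i) (a * b) → Triv Z (U i) b) := by
    intro i a b ha hb h1 h2
    have ha' : a⁻¹ ∈ F.KK i := inv_mem (show a ∈ F.KK i from ⟨ha, h1⟩)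
    have hab : a * b ∈ F.KK i := ⟨mul_mem ha hb, h2⟩
    have := mul_mem ha' hab
    rw [inv_mul_cancel_left] at this
    exact this.2
  refine ⟨b0 * b1 * b2, mul_mem (mul_mem hb0 hb1) hb2, mul_mem (mul_mem hN0 hN1) hN2, ?_⟩
  intro i
  have hi : i = 0 ∨ i = 1 ∨ i = 2 := by fin_cases i <;> simp
  rcases hi with rfl | rfl | rfl
  · intro h
    exact hn0 (key 0 b0 b1 hN0 hN1 (ht1 0 (by decide))
      (key 0 (b0 * b1) b2 (mul_mem hN0 hN1) hN2 (ht2 0 (by decide)) h))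
  · intro h
    exact hn1 (key2 1 b0 b1 hN0 hN1 (ht0 1 (by decide))
      (key 1 (b0 * b1) b2 (mul_mem hN0 hN1) hN2 (ht2 1 (by decide)) h))
  · intro h
    refine hn2 (key2 2 (b0 * b1) b2 (mul_mem hN0 hN1) hN2 ?_ h)
    exact (ht0 2 (by decide)).mul (ht1 2 (by decide)) (F.N0_act hN1 2)

end Ab

end Frame

end Cfsg.Agent.H341.Weak
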