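import Mathlib
import Cfsg.Agent.H341.WeakAb

/-!
# Involutions commuting with an element of order 3, and permuting elements
-/

set_option autoImplicit false

namespace Cfsg.Agent.H341.Weak

variable {G : Type*} [Group G]

namespace Frame

variable {Z Q : Subgroup G} {U : Fin 3 → Subgroup G} {e : Fin 3 → G}

theorem e_inv (F : Frame Z Q U e) (i : Fin 3) : (e i)⁻¹ = e i :=
  inv_eq_of_mul_eq_one_left (F.e2 i)

/-- the element `x = y⁻¹ e y e⁻¹` -/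
theorem xi_mem (F : Frame Z Q U e) {y : G} (hy : y ∈ Subgroup.centralizer (Z : Set G))
    {i : Fin 3} (hs : F.sg y i = i) :
    y⁻¹ * e i * y * (e i)⁻¹ ∈ U i ∧
    e i * (y⁻¹ * e i * y * (e i)⁻¹) * (e i)⁻¹ = (y⁻¹ * e i * y * (e i)⁻¹)⁻¹ := by
  have h1 : e i * (y⁻¹ * e i * y * (e i)⁻¹) * (e i)⁻¹ = (y⁻¹ * e i * y * (e i)⁻¹)⁻¹ := by
    have he := F.e_inv i
    have h2 := F.e2 i
    calc e i * (y⁻¹ * e i * y * (e i)⁻¹) * (e i)⁻¹
        = e i * y⁻¹ * e i * y * (e i * e i)⁻¹ := by group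
      _ = e i * y⁻¹ * e i * y := by rw [h2]; group
      _ = e i * y⁻¹ * (e i)⁻¹ * y := by rw [he]
      _ = _ := by group
  refine ⟨F.mem_U_of_inv ?_ h1, h1⟩
  have h3 := F.conj_e (inv_mem hy) i
  have hs' : F.sg y⁻¹ i = i := by
    rw [F.sg_inv hy, Equiv.Perm.inv_eq_iff_eq, hs]
  rw [hs', inv_inv] at h3
  rw [F.e_inv i]; exact h3

theorem cube_inv {x : G} (h : x ^ 3 = 1) : x * x = x⁻¹ := by
  rw [eq_inv_iff_mul_eq_one, ← h]
  simp only [pow_succ, pow_zero, one_mul]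

/-- `y x⁻¹` commutes with `e i` -/
theorem y1_comm {y ei x : G} (hx3 : x ^ 3 = 1) (hx : x = y⁻¹ * ei * y * ei⁻¹)
    (hinv : ei * x * ei⁻¹ = x⁻¹) : ei * (y * x⁻¹) * ei⁻¹ = y * x⁻¹ := by
  have h1 : ei * y * ei⁻¹ = y * x := by rw [hx]; group
  have h2 : ei * x⁻¹ * ei⁻¹ = x := by
    calc ei * x⁻¹ * ei⁻¹ = (ei * x * ei⁻¹)⁻¹ := by group
      _ = x := by rw [hinv, inv_inv]
  calc ei * (y * x⁻¹) * ei⁻¹ = (ei * y * ei⁻¹) * (ei * x⁻¹ * ei⁻¹) := by group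
    _ = y * (x * x) := by rw [h1, h2]; group
    _ = y * x⁻¹ := by rw [cube_inv hx3]

theorem Unip.cen_c (F : Frame Z Q U e) {i : Fin 3} {y r c : G} (H : Unip Z (U i) y r c)
    {x : G} (hx : x ∈ U i) (hxc : x * c = c * x) : ∃ n : Fin 3, ∃ w ∈ Z, x = c ^ n.val * w := by
  obtain ⟨m, n, w, hw, rfl⟩ := H.gen x hx
  have cwc : Commute w c := F.zc hw (F.UleQ i H.cU)
  have hrm : Commute (r ^ m.val) c := by
    have h1 : r ^ m.val = (r ^ m.val * c ^ n.val * w) * w⁻¹ * (c ^ n.val)⁻¹ := by group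
    rw [h1]
    have h2 : Commute (r ^ m.val * c ^ n.val * w) c := hxc
    exact (h2.mul_left cwc.inv_left).mul_left (((Commute.refl c).pow_left _).inv_left)
  by_cases hm : m = 0
  · subst hm
    exact ⟨n, w, hw, by simp⟩
  · exfalso
    have hr3 : r ^ 3 = 1 := F.exp r (F.UleQ i H.rU)
    have hr : Commute r c := by
      have hm' : m = 1 ∨ m = 2 := by fin_cases m <;> simp_all
      rcases hm' with rfl | rfl
      · simpa using hrm
      · have h4 : r = (r ^ 2) ^ 2 := by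
          calc r = r ^ 3 * r := by rw [hr3, one_mul]
            _ = (r ^ 2) ^ 2 := by rw [← pow_succ, ← pow_mul]
        rw [h4]; exact hrm.pow_left 2
    apply H.cZ
    apply F.cenU H.cU
    intro u hu
    obtain ⟨m', n', w', hw', rfl⟩ := H.gen u hu
    exact ((hr.symm.pow_right _).mul_right ((Commute.refl c).pow_right _)).mul_right
      (F.zc hw' (F.UleQ i H.cU)).symm

/-- an involution of the block commuting with `y` -/
theorem exists_e1 (F : Frame Z Q U e) {i : Fin 3} {y r c : G}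
    (hy : y ∈ Subgroup.centralizer (Z : Set G)) (hs : F.sg y i = i)
    (H : Unip Z (U i) y r c) (hyc : y * c = c * y) :
    ∃ q ∈ U i, y * (q * e i * q⁻¹) = (q * e i * q⁻¹) * y := by
  obtain ⟨hxU, hxinv⟩ := F.xi_mem hy hs
  set x := y⁻¹ * e i * y * (e i)⁻¹ with hx
  have hx3 : x ^ 3 = 1 := F.exp x (F.UleQ i hxU)
  have hy1 := y1_comm hx3 hx hxinv
  have heye : e i * y * (e i)⁻¹ = y * x := by rw [hx]; group
  -- `x` commutes with `c`
  have hxc : x * c = c * x := by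
    have h1 := F.einv i c H.cU
    set w := e i * c * (e i)⁻¹ * c with hw
    have h2 : e i * c * (e i)⁻¹ = w * c⁻¹ := by rw [hw]; group
    have h3 : Commute (y * x) (w * c⁻¹) := by
      rw [← heye, ← h2]
      show (e i * y * (e i)⁻¹) * (e i * c * (e i)⁻¹) = (e i * c * (e i)⁻¹) * (e i * y * (e i)⁻¹)
      calc (e i * y * (e i)⁻¹) * (e i * c * (e i)⁻¹) = e i * (y * c) * (e i)⁻¹ := by group
        _ = e i * (c * y) * (e i)⁻¹ := by rw [hyc]
        _ = _ := by group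
    have h4 : Commute (y * x) w := by
      have a1 : Commute y w := by
        show y * w = w * y
        exact (Subgroup.mem_centralizer_iff.1 hy w h1).symm
      have a2 : Commute x w := (F.zc h1 (F.UleQ i hxU)).symm
      exact a1.mul_left a2
    have h5 : Commute (y * x) c := by
      have h6 : c = (w * c⁻¹)⁻¹ * w := by
        rw [mul_inv_rev, inv_inv, mul_assoc, inv_mul_cancel, mul_one]
      rw [h6]
      exact h3.inv_right.mul_right h4
    have h7 : x = y⁻¹ * (y * x) := by group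
    have h8 : Commute y c := hyc
    show Commute x c
    rw [h7]
    exact h8.inv_left.mul_left h5
  obtain ⟨n, w, hw, hxn⟩ := Unip.cen_c F H hxU hxc
  have hrU := H.rU
  -- `y⁻¹ r y = c⁻¹ r`
  have hyr : y⁻¹ * r * y = c⁻¹ * r := by
    have h1 : y * (c⁻¹ * r) * y⁻¹ = r := by
      calc y * (c⁻¹ * r) * y⁻¹ = (y * c⁻¹) * r * y⁻¹ := by group
        _ = (c⁻¹ * y) * r * y⁻¹ := by rw [(Commute.inv_right hyc : Commute y c⁻¹).eq]
        _ = c⁻¹ * (y * r * y⁻¹) := by group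
        _ = r := by rw [H.yr]; group
    calc y⁻¹ * r * y = y⁻¹ * (y * (c⁻¹ * r) * y⁻¹) * y := by rw [h1]
      _ = _ := by group
  have hc3 : c ^ 3 = 1 := F.exp c (F.UleQ i H.cU)
  -- find `q`
  obtain ⟨q, hqU, w2, hw2, hq⟩ : ∃ q ∈ U i, ∃ w2 ∈ Z, y⁻¹ * q * y * q⁻¹ = x * w2 := by
    have hn : n = 0 ∨ n = 1 ∨ n = 2 := by fin_cases n <;> simp
    rcases hn with rfl | rfl | rfl
    · refine ⟨1, one_mem _, w⁻¹, inv_mem hw, ?_⟩
      rw [hxn]; simp
    · -- `q = r⁻¹`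
      have h1 : y⁻¹ * r⁻¹ * y * r⁻¹⁻¹ = r⁻¹ * c * r := by
        calc y⁻¹ * r⁻¹ * y * r⁻¹⁻¹ = (y⁻¹ * r * y)⁻¹ * r := by group
          _ = r⁻¹ * c * r := by rw [hyr]; group
      have h2 := F.comZ r⁻¹ (F.UleQ i (inv_mem hrU)) c (F.UleQ i H.cU)
      set w3 := r⁻¹ * c * r⁻¹⁻¹ * c⁻¹ with hw3
      refine ⟨r⁻¹, inv_mem hrU, w3 * w⁻¹, mul_mem h2 (inv_mem hw), ?_⟩
      have h4 : r⁻¹ * c * r = w3 * c := by rw [hw3]; group
      rw [h1, h4, hxn]
      have c1 : w3 * c = c * w3 := F.zc h2 (F.UleQ i H.cU)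
      have c2 : w * w3 = w3 * w := F.zc hw (F.ZleQ h2)
      rw [c1]
      show c * w3 = c ^ 1 * w * (w3 * w⁻¹)
      calc c * w3 = c * (w3 * w) * w⁻¹ := by group
        _ = c * (w * w3) * w⁻¹ := by rw [c2]
        _ = _ := by group
    · -- `q = r`
      refine ⟨r, hrU, w⁻¹, inv_mem hw, ?_⟩
      rw [hyr, hxn]
      show c⁻¹ * r * r⁻¹ = c ^ 2 * w * w⁻¹
      have : c⁻¹ = c * c := (cube_inv hc3).symm
      rw [this, pow_two]; group
  refine ⟨q, hqU, ?_⟩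
  -- `q y₁ q⁻¹ = y w'`
  have hqy : ∃ w' ∈ Z, q * (y * x⁻¹) * q⁻¹ = y * w' := by
    have h2 := F.comZ q (F.UleQ i hqU) x⁻¹ (F.UleQ i (inv_mem hxU))
    set w3 := q * x⁻¹ * q⁻¹ * x⁻¹⁻¹ with hw3
    refine ⟨w2 * w3, mul_mem hw2 h2, ?_⟩
    have h4 : q * x⁻¹ * q⁻¹ = w3 * x⁻¹ := by rw [hw3]; group
    have h5 : q * y * q⁻¹ = y * (x * w2) := by rw [← hq]; group
    have c1 : w3 * x⁻¹ = x⁻¹ * w3 := F.zc h2 (F.UleQ i (inv_mem hxU))
    have c2 : w2 * x⁻¹ = x⁻¹ * w2 := F.zc hw2 (F.UleQ i (inv_mem hxU))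
    calc q * (y * x⁻¹) * q⁻¹ = (q * y * q⁻¹) * (q * x⁻¹ * q⁻¹) := by group
      _ = y * (x * w2) * (x⁻¹ * w3) := by rw [h5, h4, c1]
      _ = y * x * (w2 * x⁻¹) * w3 := by group
      _ = y * x * (x⁻¹ * w2) * w3 := by rw [c2]
      _ = _ := by group
  obtain ⟨w', hw', hqy⟩ := hqy
  have hy2 : y = (q * (y * x⁻¹) * q⁻¹) * w'⁻¹ := by rw [hqy]; group
  have k1 : Commute (q * (y * x⁻¹) * q⁻¹) (q * e i * q⁻¹) := by
    show (q * (y * x⁻¹) * q⁻¹) * (q * e i * q⁻¹) = (q * e i * q⁻¹) * (q * (y * x⁻¹) * q⁻¹)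
    have h1 : e i * (y * x⁻¹) = (y * x⁻¹) * e i := by
      calc e i * (y * x⁻¹) = (e i * (y * x⁻¹) * (e i)⁻¹) * e i := by group
        _ = _ := by rw [hy1]
    calc (q * (y * x⁻¹) * q⁻¹) * (q * e i * q⁻¹) = q * ((y * x⁻¹) * e i) * q⁻¹ := by group
      _ = q * (e i * (y * x⁻¹)) * q⁻¹ := by rw [h1]
      _ = _ := by group
  have k2 : Commute w'⁻¹ (q * e i * q⁻¹) := by
    have hC : q * e i * q⁻¹ ∈ Subgroup.centralizer (Z : Set G) :=
      mul_mem (mul_mem (F.QleC (F.UleQ i hqU)) (F.eC i)) (inv_mem (F.QleC (F.UleQ i hqU)))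
    exact Subgroup.mem_centralizer_iff.1 hC _ (inv_mem hw')
  have k3 : Commute y (q * e i * q⁻¹) := by
    rw [hy2]; exact k1.mul_left k2
  exact k3

/-- simultaneous version -/
theorem Full.exists_conj {y : G} {r c : Fin 3 → G} (F : Frame Z Q U e) (H : Full Z U y r c)
    (I : Fin 3 → Prop) (hI : ∀ i, I i → y * c i = c i * y) :
    ∃ q ∈ Q, ∀ i, I i → y * (q * e i * q⁻¹) = (q * e i * q⁻¹) * y := by
  classical
  have hsg : ∀ i, F.sg y i = i := by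
    intro i
    obtain ⟨x, hx, hxZ⟩ := F.exists_notZ i
    exact F.sg_eq H.cen hx hxZ ((H.act i).nor x hx)
  have h1 : ∀ i, ∃ q ∈ U i, I i → y * (q * e i * q⁻¹) = (q * e i * q⁻¹) * y := by
    intro i
    by_cases hi : I i
    · obtain ⟨q, hq, hq2⟩ := F.exists_e1 H.cen (hsg i) (H.H i) (hI i hi)
      exact ⟨q, hq, fun _ => hq2⟩
    · exact ⟨1, one_mem _, fun h => absurd h hi⟩
  choose q hqU hq using h1
  refine ⟨q 0 * q 1 * q 2, mul_mem (mul_mem (F.UleQ 0 (hqU 0)) (F.UleQ 1 (hqU 1)))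
    (F.UleQ 2 (hqU 2)), ?_⟩
  intro i hi
  have key : (q 0 * q 1 * q 2) * e i * (q 0 * q 1 * q 2)⁻¹ = q i * e i * (q i)⁻¹ := by
    have hqe : ∀ j, j ≠ i → q j * e i * (q j)⁻¹ = e i := by
      intro j hj
      have h1 := F.eU i j hj _ (hqU j)
      have h2 : e i * q j = q j * e i := by
        calc e i * q j = (e i * q j * (e i)⁻¹) * e i := by group
          _ = _ := by rw [h1]
      rw [← h2]; group
    have hqq : ∀ j, j ≠ i → q j * q i * (q j)⁻¹ = q i := by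
      intro j hj
      rw [F.comm j i hj _ (hqU j) _ (hqU i)]; group
    have hqei : ∀ j, j ≠ i → q j * (q i * e i * (q i)⁻¹) * (q j)⁻¹ = q i * e i * (q i)⁻¹ := by
      intro j hj
      calc q j * (q i * e i * (q i)⁻¹) * (q j)⁻¹
          = (q j * q i * (q j)⁻¹) * (q j * e i * (q j)⁻¹) * (q j * q i * (q j)⁻¹)⁻¹ := by group
        _ = _ := by rw [hqq j hj, hqe j hj]
    have hi3 : i = 0 ∨ i = 1 ∨ i = 2 := by fin_cases i <;> simp
    rcases hi3 with rfl | rfl | rfl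
    · calc (q 0 * q 1 * q 2) * e 0 * (q 0 * q 1 * q 2)⁻¹
          = q 0 * (q 1 * (q 2 * e 0 * (q 2)⁻¹) * (q 1)⁻¹) * (q 0)⁻¹ := by group
        _ = _ := by rw [hqe 2 (by decide), hqe 1 (by decide)]
    · calc (q 0 * q 1 * q 2) * e 1 * (q 0 * q 1 * q 2)⁻¹
          = q 0 * (q 1 * (q 2 * e 1 * (q 2)⁻¹) * (q 1)⁻¹) * (q 0)⁻¹ := by group
        _ = _ := by rw [hqe 2 (by decide), hqei 0 (by decide)]
    · calc (q 0 * q 1 * q 2) * e 2 * (q 0 * q 1 * q 2)⁻¹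
          = q 0 * (q 1 * (q 2 * e 2 * (q 2)⁻¹) * (q 1)⁻¹) * (q 0)⁻¹ := by group
        _ = _ := by rw [hqei 1 (by decide), hqei 0 (by decide)]
  rw [key]
  exact hq i hi

end Frame

end Cfsg.Agent.H341.Weak
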