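import Mathlib
import Cfsg.Agent.H341.WeakInv

/-!
# Elements permuting the blocks
-/

set_option autoImplicit false

namespace Cfsg.Agent.H341.Weak

variable {G : Type*} [Group G]

/-- norm -/
def Nm (y u : G) : G := u * (y * u * y⁻¹) * (y * (y * u * y⁻¹) * y⁻¹)

namespace Frame

variable {Z Q : Subgroup G} {U : Fin 3 → Subgroup G} {e : Fin 3 → G}

/-- an element of order 3 permuting the blocks -/
structure Cyc (F : Frame Z Q U e) (y : G) : Prop where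
  cen : y ∈ Subgroup.centralizer (Z : Set G)
  y3 : y ^ 3 = 1
  ne : F.sg y ≠ 1

namespace Cyc

variable {y : G}

theorem s3 (F : Frame Z Q U e) (H : F.Cyc y) : F.sg y ^ 3 = 1 := F.sg_cube H.cen H.y3

theorem data (F : Frame Z Q U e) (H : F.Cyc y) {i : Fin 3} {u : G} (hu : u ∈ U i) :
    y * u * y⁻¹ ∈ U (F.sg y i) ∧ y * (y * u * y⁻¹) * y⁻¹ ∈ U (F.sg y (F.sg y i)) :=
  ⟨F.sg_spec H.cen i hu, F.sg_spec H.cen _ (F.sg_spec H.cen i hu)⟩

theorem dist (F : Frame Z Q U e) (H : F.Cyc y) (i : Fin 3) :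
    i ≠ F.sg y i ∧ i ≠ F.sg y (F.sg y i) ∧ F.sg y i ≠ F.sg y (F.sg y i) := by
  obtain ⟨h1, h2, h3⟩ := perm_cyc _ (H.s3 F) H.ne i
  exact ⟨h1.symm, h2.symm, h3.symm⟩

theorem comms (F : Frame Z Q U e) (H : F.Cyc y) {i : Fin 3} {u v : G} (hu : u ∈ U i)
    (hv : v ∈ U i) : Commute u (y * v * y⁻¹) ∧ Commute u (y * (y * v * y⁻¹) * y⁻¹) ∧
    Commute (y * u * y⁻¹) (y * (y * v * y⁻¹) * y⁻¹) := by
  obtain ⟨h1, h2, h3⟩ := H.dist F i
  obtain ⟨a1, a2⟩ := H.data F hu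
  obtain ⟨b1, b2⟩ := H.data F hv
  exact ⟨F.comm _ _ h1 _ hu _ b1, F.comm _ _ h2 _ hu _ b2, F.comm _ _ h3 _ a1 _ b2⟩

theorem Nm_mul (F : Frame Z Q U e) (H : F.Cyc y) {i : Fin 3} {u v : G} (hu : u ∈ U i)
    (hv : v ∈ U i) : Nm y (u * v) = Nm y u * Nm y v := by
  obtain ⟨h1, h2, h3⟩ := H.comms F hu hv
  obtain ⟨g1, g2, g3⟩ := H.comms F hv hu
  unfold Nm
  set u1 := y * u * y⁻¹ with hu1
  set v1 := y * v * y⁻¹ with hv1
  set u2 := y * u1 * y⁻¹ with hu2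
  set v2 := y * v1 * y⁻¹ with hv2
  have e1 : y * (u * v) * y⁻¹ = u1 * v1 := by rw [hu1, hv1]; group
  have e2 : y * (u1 * v1) * y⁻¹ = u2 * v2 := by rw [hu2, hv2]; group
  rw [e1, e2]
  calc u * v * (u1 * v1) * (u2 * v2) = u * (v * u1) * (v1 * u2) * v2 := by group
    _ = u * (u1 * v) * (u2 * v1) * v2 := by rw [g1.eq, g3.eq]
    _ = u * u1 * (v * u2) * v1 * v2 := by group
    _ = u * u1 * (u2 * v) * v1 * v2 := by rw [g2.eq]
    _ = _ := by group

theorem Nm_Z (F : Frame Z Q U e) (H : F.Cyc y) {u : G} (hu : u ∈ Z) : Nm y u = 1 := by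
  unfold Nm
  rw [cz H.cen hu, cz H.cen hu]
  have := F.exp u (F.ZleQ hu)
  calc u * u * u = u ^ 3 := by simp only [pow_succ, pow_zero, one_mul]
    _ = 1 := this

theorem mem_Z_of_Nm (F : Frame Z Q U e) (H : F.Cyc y) {i : Fin 3} {u : G} (hu : u ∈ U i)
    (h : Nm y u ∈ Z) : u ∈ Z := by
  obtain ⟨h1, h2, h3⟩ := H.dist F i
  obtain ⟨a1, a2⟩ := H.data F hu
  exact F.indep1 h1 h2 hu a1 a2 h

theorem Nm_comm (F : Frame Z Q U e) (H : F.Cyc y) {i : Fin 3} {u : G} (hu : u ∈ U i) :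
    y * Nm y u * y⁻¹ = Nm y u := by
  obtain ⟨h1, h2, h3⟩ := H.comms F hu hu
  have h4 := Blk.conj_cube H.y3 u
  unfold Nm
  set u1 := y * u * y⁻¹ with hu1
  set u2 := y * u1 * y⁻¹ with hu2
  calc y * (u * u1 * u2) * y⁻¹ = (y * u * y⁻¹) * (y * u1 * y⁻¹) * (y * u2 * y⁻¹) := by group
    _ = u1 * u2 * u := by rw [← hu1, ← hu2, h4]
    _ = u1 * (u2 * u) := by group
    _ = u1 * (u * u2) := by rw [h2.eq]
    _ = (u1 * u) * u2 := by group
    _ = _ := by rw [h1.eq]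

theorem Nm_mem (F : Frame Z Q U e) (H : F.Cyc y) {i : Fin 3} {u : G} (hu : u ∈ U i) :
    Nm y u ∈ Q ⊓ Subgroup.centralizer {y} := by
  obtain ⟨a1, a2⟩ := H.data F hu
  refine Subgroup.mem_inf.2 ⟨mul_mem (mul_mem (F.UleQ _ hu) (F.UleQ _ a1)) (F.UleQ _ a2), ?_⟩
  rw [Subgroup.mem_centralizer_iff]
  intro y' hy'
  rw [Set.mem_singleton_iff.1 hy']
  calc y * Nm y u = (y * Nm y u * y⁻¹) * y := by group
    _ = _ := by rw [H.Nm_comm F hu]

/-- the norm as a homomorphism -/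
def nmHom (F : Frame Z Q U e) (H : F.Cyc y) (i : Fin 3) : U i →* G where
  toFun u := Nm y u
  map_one' := by simp [Nm]
  map_mul' u v := H.Nm_mul F u.2 v.2

theorem card_cen [Finite G] (F : Frame Z Q U e) (H : F.Cyc y) :
    27 ≤ Nat.card (Q ⊓ Subgroup.centralizer {y} : Subgroup G) := by
  set f := nmHom F H 0 with hf
  have hker : ∀ u : U 0, u ∈ f.ker ↔ (u : G) ∈ Z := by
    intro u
    rw [MonoidHom.mem_ker]
    constructor
    · intro h
      exact H.mem_Z_of_Nm F u.2 (by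
        have : Nm y (u : G) = 1 := h
        rw [this]; exact one_mem _)
    · intro h
      exact H.Nm_Z F h
  have hker2 : f.ker = Z.subgroupOf (U 0) := by
    ext u; rw [hker u, Subgroup.mem_subgroupOf]
  have hkc : Nat.card f.ker = 3 := by
    rw [hker2, Nat.card_congr (Subgroup.subgroupOfEquivOfLe (F.ZleU 0)).toEquiv, F.cardZ]
  have hrange : Nat.card f.range = 9 := by
    have h1 := Subgroup.card_eq_card_quotient_mul_card_subgroup f.ker
    rw [Nat.card_congr (QuotientGroup.quotientKerEquivRange f).toEquiv, hkc, F.cardU 0] at h1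
    omega
  have hdisj : Disjoint f.range Z := by
    rw [Subgroup.disjoint_def]
    rintro x ⟨u, rfl⟩ hx
    have h1 := H.mem_Z_of_Nm F u.2 hx
    exact H.Nm_Z F h1
  have hinj := Subgroup.mul_injective_of_disjoint hdisj
  have hle1 : f.range ≤ Q ⊓ Subgroup.centralizer {y} := by
    rintro x ⟨u, rfl⟩
    exact H.Nm_mem F u.2
  have hle2 : Z ≤ Q ⊓ Subgroup.centralizer {y} := by
    intro z hz
    refine Subgroup.mem_inf.2 ⟨F.ZleQ hz, ?_⟩
    rw [Subgroup.mem_centralizer_iff]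
    intro y' hy'
    rw [Set.mem_singleton_iff.1 hy']
    exact (Subgroup.mem_centralizer_iff.1 H.cen z hz).symm
  have h2 := Nat.card_le_card_of_injective
    (fun p : f.range × Z => (⟨(p.1 : G) * p.2, mul_mem (hle1 p.1.2) (hle2 p.2.2)⟩ :
      (Q ⊓ Subgroup.centralizer {y} : Subgroup G))) (by
    intro p q h
    exact hinj (congrArg Subtype.val h))
  rw [Nat.card_prod, hrange, F.cardZ] at h2
  exact h2

end Cyc

end Frame

end Cfsg.Agent.H341.Weak
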