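import Mathlib
import Cfsg.Agent.H341.WeakPerm

/-!
# Two commuting conjugates of `Z`
-/

set_option autoImplicit false

namespace Cfsg.Agent.H341.Weak

variable {G : Type*} [Group G]

theorem sq_one_of {w : G} (h3 : w ^ 3 = 1) (h2 : w * w = 1) : w = 1 := by
  calc w = w ^ 3 * (w * w)⁻¹ := by group
    _ = 1 := by rw [h3, h2]; simp

namespace Frame

variable {Z Q : Subgroup G} {U : Fin 3 → Subgroup G} {e : Fin 3 → G}

theorem e_not_mem (F : Frame Z Q U e) (i : Fin 3) {g : G} (hg : ∀ x ∈ U i, g * x * g⁻¹ * x ∈ Z)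
    (h1 : g ∈ Q) : False := by
  obtain ⟨x, hx, hxZ⟩ := F.exists_notZ i
  apply hxZ
  have h2 := F.comZ g h1 x (F.UleQ i hx)
  have h3 := mul_mem (inv_mem h2) (hg x hx)
  have h4 : (g * x * g⁻¹ * x⁻¹)⁻¹ * (g * x * g⁻¹ * x) = x * x := by group
  rw [h4] at h3
  have h5 := F.exp x (F.UleQ i hx)
  have h6 : x = (x * x) * (x * x) := by
    calc x = x ^ 3 * x := by rw [h5, one_mul]
      _ = (x * x) * (x * x) := by simp only [pow_succ, pow_zero, one_mul, mul_assoc]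
  rw [h6]; exact mul_mem h3 h3

end Frame

structure Pair (Z Q : Subgroup G) (U : Fin 3 → Subgroup G) (e : Fin 3 → G)
    (Y Q' : Subgroup G) (U' : Fin 3 → Subgroup G) (e' : Fin 3 → G) : Prop where
  F : Frame Z Q U e
  F' : Frame Y Q' U' e'
  comm : ∀ z ∈ Z, ∀ y ∈ Y, z * y = y * z
  YQ : Y ⊓ Q = ⊥
  ZQ' : Z ⊓ Q' = ⊥
  wc : ∀ g : G, (∀ z ∈ Z, g * z * g⁻¹ ∈ Q) → ∀ z ∈ Z, g * z * g⁻¹ ∈ Z
  wc' : ∀ g : G, (∀ y ∈ Y, g * y * g⁻¹ ∈ Q') → ∀ y ∈ Y, g * y * g⁻¹ ∈ Y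

namespace Pair

variable {Z Q : Subgroup G} {U : Fin 3 → Subgroup G} {e : Fin 3 → G}
  {Y Q' : Subgroup G} {U' : Fin 3 → Subgroup G} {e' : Fin 3 → G}

theorem symm (P : Pair Z Q U e Y Q' U' e') : Pair Y Q' U' e' Z Q U e where
  F := P.F'
  F' := P.F
  comm y hy z hz := (P.comm z hz y hy).symm
  YQ := P.ZQ'
  ZQ' := P.YQ
  wc := P.wc'
  wc' := P.wc

/-- change of involutions -/
theorem conjE (P : Pair Z Q U e Y Q' U' e') {q : G} (hq : q ∈ Q) :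
    Pair Z Q U (fun i => q * e i * q⁻¹) Y Q' U' e' :=
  { P with F := P.F.conjE hq }

theorem ZC (P : Pair Z Q U e Y Q' U' e') {z : G} (hz : z ∈ Z) :
    z ∈ Subgroup.centralizer (Y : Set G) :=
  Subgroup.mem_centralizer_iff.2 fun y hy => (P.comm z hz y hy).symm

/-- key consequence of weak closure -/
theorem W1 (P : Pair Z Q U e Y Q' U' e') {y d g : G} (hy : y ∈ Y) (hy1 : y ≠ 1) (hdQ : d ∈ Q)
    (hdQ' : d ∈ Q') (hg : g * y * g⁻¹ = y * d) : d = 1 := by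
  have h1 : ∀ y' ∈ Y, g * y' * g⁻¹ ∈ Q' := by
    intro y' hy'
    obtain ⟨m, rfl⟩ := (P.F'.blk 0).powZ hy hy1 hy'
    rw [← conj_pow, hg]
    exact pow_mem (mul_mem (P.F'.ZleQ hy) hdQ') _
  have h2 := P.wc' g h1 y hy
  rw [hg] at h2
  have h3 : d ∈ Y := by
    have := mul_mem (inv_mem hy) h2
    rwa [inv_mul_cancel_left] at this
  have h4 : d ∈ Y ⊓ Q := Subgroup.mem_inf.2 ⟨h3, hdQ⟩
  rw [P.YQ] at h4
  exact Subgroup.mem_bot.1 h4

theorem W1' (P : Pair Z Q U e Y Q' U' e') {y d x : G} (hy : y ∈ Y) (hy1 : y ≠ 1) (hdQ : d ∈ Q)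
    (hdQ' : d ∈ Q') (hg : y⁻¹ * x * y * x⁻¹ = d) : d = 1 := by
  apply P.W1 hy hy1 hdQ hdQ' (g := x)
  rw [← hg]; group

theorem cent_eq (F' : Frame Y Q' U' e') {y : G} (hy : y ∈ Y) (hy1 : y ≠ 1) :
    Subgroup.centralizer {y} = Subgroup.centralizer (Y : Set G) := by
  ext x
  rw [Subgroup.mem_centralizer_iff, Subgroup.mem_centralizer_iff]
  constructor
  · intro h y' hy'
    obtain ⟨m, rfl⟩ := (F'.blk 0).powZ hy hy1 hy'
    have : Commute y x := h y rfl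
    exact this.pow_left _
  · intro h y' hy'
    rw [Set.mem_singleton_iff.1 hy']
    exact h y hy

theorem D_le (P : Pair Z Q U e Y Q' U' e') : Q ⊓ Q' ≤ Q ⊓ Subgroup.centralizer (Y : Set G) :=
  inf_le_inf_left _ P.F'.QleC

theorem D_le' (P : Pair Z Q U e Y Q' U' e') : Q ⊓ Q' ≤ Q' ⊓ Subgroup.centralizer (Z : Set G) :=
  fun _ hx => Subgroup.mem_inf.2 ⟨(Subgroup.mem_inf.1 hx).2, P.F.QleC (Subgroup.mem_inf.1 hx).1⟩

theorem P3 (P : Pair Z Q U e Y Q' U' e') {a b : G}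
    (ha : a ∈ Q ⊓ Subgroup.centralizer (Y : Set G))
    (hb : b ∈ Q' ⊓ Subgroup.centralizer (Z : Set G)) : a * b * a⁻¹ * b⁻¹ ∈ Q ⊓ Q' := by
  obtain ⟨ha1, ha2⟩ := Subgroup.mem_inf.1 ha
  obtain ⟨hb1, hb2⟩ := Subgroup.mem_inf.1 hb
  refine Subgroup.mem_inf.2 ⟨?_, ?_⟩
  · have h1 := P.F.conjQ b hb2 a⁻¹ (inv_mem ha1)
    have h2 : a * b * a⁻¹ * b⁻¹ = a * (b * a⁻¹ * b⁻¹) := by group
    rw [h2]; exact mul_mem ha1 h1
  · exact mul_mem (P.F'.conjQ a ha2 b hb1) (inv_mem hb1)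

theorem comm_of_bot (P : Pair Z Q U e Y Q' U' e') (hD : Q ⊓ Q' = ⊥) {a b : G}
    (ha : a ∈ Q ⊓ Subgroup.centralizer (Y : Set G))
    (hb : b ∈ Q' ⊓ Subgroup.centralizer (Z : Set G)) : a * b = b * a := by
  have h := P.P3 ha hb
  rw [hD, Subgroup.mem_bot] at h
  calc a * b = (a * b * a⁻¹ * b⁻¹) * (b * a) := by group
    _ = b * a := by rw [h, one_mul]

theorem ab (P : Pair Z Q U e Y Q' U' e') (hD : Q ⊓ Q' = ⊥)
    (hA : ∀ a ∈ Q ⊓ Subgroup.centralizer (Y : Set G),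
      ∀ b ∈ Q ⊓ Subgroup.centralizer (Y : Set G), a * b = b * a) :
    P.F'.Ab (Q ⊓ Subgroup.centralizer (Y : Set G)) where
  cen := inf_le_right
  comm := hA
  exp b hb := P.F.exp b (Subgroup.mem_inf.1 hb).1
  bot := by
    rw [eq_bot_iff, ← hD]
    exact le_inf (inf_le_left.trans inf_le_left) inf_le_right

/-- the involutions `e' i` commuting with `Z` act on `A` -/
theorem X (P : Pair Z Q U e Y Q' U' e') {i : Fin 3}
    (ht : e' i ∈ Subgroup.centralizer (Z : Set G)) {a : G}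
    (ha : a ∈ Q ⊓ Subgroup.centralizer (Y : Set G)) :
    P.F'.sg a i = i ∧ e' i * a * (e' i)⁻¹ * a⁻¹ ∈ Q ⊓ Q' := by
  obtain ⟨ha1, ha2⟩ := Subgroup.mem_inf.1 ha
  set t := e' i with htdef
  have htY : t ∈ Subgroup.centralizer (Y : Set G) := P.F'.eC i
  have ht2 : t * t = 1 := P.F'.e2 i
  have hti : t⁻¹ = t := P.F'.e_inv i
  have hx := P.F'.conj_e ha2 i
  have hga : t * a * t⁻¹ * a⁻¹ ∈ Q := mul_mem (P.F.conjQ t ht a ha1) (inv_mem ha1)
  have hgC : t * a * t⁻¹ * a⁻¹ ∈ Subgroup.centralizer (Y : Set G) :=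
    mul_mem (mul_mem (mul_mem htY ha2) (inv_mem htY)) (inv_mem ha2)
  by_cases hs : P.F'.sg a i = i
  · refine ⟨hs, Subgroup.mem_inf.2 ⟨hga, ?_⟩⟩
    rw [hs, ← htdef] at hx
    have h1 : t * a * t⁻¹ * a⁻¹ = (a * t * a⁻¹ * t)⁻¹ := by
      calc t * a * t⁻¹ * a⁻¹ = t⁻¹ * a * t⁻¹ * a⁻¹ := by rw [hti]
        _ = _ := by group
    rw [h1]; exact inv_mem hx
  · exfalso
    set x := a * t * a⁻¹ * e' (P.F'.sg a i) with hxdef
    -- `g = t a t⁻¹ a⁻¹ = t x⁻¹`-like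
    set g := t * a * t⁻¹ * a⁻¹ with hg
    have hg3 : g ^ 3 = 1 := P.F.exp g hga
    have hgx : g = t * (e' (P.F'.sg a i) * x⁻¹) := by
      have h1 : a * t⁻¹ * a⁻¹ = e' (P.F'.sg a i) * x⁻¹ := by rw [hxdef]; group
      rw [← h1, hg]; group
    have hinv : ∀ u ∈ U' i, g * u * g⁻¹ * u ∈ Y := by
      intro u hu
      have h1 := P.F'.comZ x⁻¹ (inv_mem hx) u (P.F'.UleQ i hu)
      set w := x⁻¹ * u * x⁻¹⁻¹ * u⁻¹ with hw
      have h2 : x⁻¹ * u * x⁻¹⁻¹ = w * u := by rw [hw]; group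
      have h3 := P.F'.eU (P.F'.sg a i) i (fun h => hs h.symm) u hu
      have h4 := P.F'.einv i u hu
      have hwe : ∀ k, e' k * w * (e' k)⁻¹ = w := fun k => Frame.cz (P.F'.eC k) h1
      have h5 : g * u * g⁻¹ = w * (t * u * t⁻¹) := by
        calc g * u * g⁻¹ = t * (e' (P.F'.sg a i) * (x⁻¹ * u * x⁻¹⁻¹) * (e' (P.F'.sg a i))⁻¹) * t⁻¹ := by
              rw [hgx]; group
          _ = t * ((e' (P.F'.sg a i) * w * (e' (P.F'.sg a i))⁻¹) *
                (e' (P.F'.sg a i) * u * (e' (P.F'.sg a i))⁻¹)) * t⁻¹ := by rw [h2]; group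
          _ = (t * w * t⁻¹) * (t * u * t⁻¹) := by rw [hwe, h3]; group
          _ = _ := by rw [htdef, hwe]
      have h6 : g * u * g⁻¹ * u = w * (t * u * t⁻¹ * u) := by rw [h5]; group
      rw [h6]
      exact mul_mem h1 h4
    have hgact : ∀ u ∈ U' i, g * u * g⁻¹ ∈ U' i := by
      intro u hu
      have h1 : g * u * g⁻¹ = (g * u * g⁻¹ * u) * u⁻¹ := by group
      rw [h1]
      exact mul_mem (P.F'.ZleU i (hinv u hu)) (inv_mem hu)
    obtain ⟨u, hu, huZ⟩ := P.F'.exists_notZ i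
    apply huZ
    -- `g u g⁻¹ = w₁ u⁻¹` etc.
    have k1 := hinv u hu
    have k2 := hinv _ (hgact u hu)
    have k3 := hinv _ (hgact _ (hgact u hu))
    have hc := Blk.conj_cube hg3 u
    rw [hc] at k3
    -- k3 : u * (g (g u g⁻¹) g⁻¹) ∈ Y,  k2 : g(gug⁻¹)g⁻¹ * (gug⁻¹) ∈ Y, k1 : gug⁻¹ * u ∈ Y
    set v := g * u * g⁻¹ with hv
    set v2 := g * v * g⁻¹ with hv2
    -- u v2 = y3, v2 v = y2, v u = y1
    have hvU := hgact u hu
    have hcent : ∀ y ∈ Y, ∀ q ∈ Q', y * q = q * y := fun y hy q hq => P.F'.zc hy hq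
    have e1 : u * u = (u * v2) * (v2 * v)⁻¹ * (v * u) := by
      have hv2v : v2 = (v2 * v) * v⁻¹ := by group
      have : (u * v2) * (v2 * v)⁻¹ * (v * u) = u * (v2 * v⁻¹ * v2⁻¹) * (v * u) := by group
      rw [this]
      -- v2 commutes with v modulo: use v2 = y2 v⁻¹
      have h1 : v2 * v⁻¹ * v2⁻¹ = v⁻¹ := by
        have hcm : v2 * v = v * v2 := by
          rw [hv2v]
          calc (v2 * v) * v⁻¹ * v = (v2 * v) := by group
            _ = v * (v2 * v) * v⁻¹ := by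
                rw [← hcent _ k2 v (P.F'.UleQ i hvU)]; group
            _ = v * ((v2 * v) * v⁻¹) := by group
        calc v2 * v⁻¹ * v2⁻¹ = (v2 * v * v2⁻¹)⁻¹ := by group
          _ = (v * v2 * v2⁻¹)⁻¹ := by rw [hcm]
          _ = v⁻¹ := by group
      rw [h1]; group
    have h7 : u * u ∈ Y := by
      rw [e1]
      exact mul_mem (mul_mem k3 (inv_mem k2)) k1
    have h5 := P.F'.exp u (P.F'.UleQ i hu)
    have h6 : u = (u * u) * (u * u) := by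
      calc u = u ^ 3 * u := by rw [h5, one_mul]
        _ = (u * u) * (u * u) := by simp only [pow_succ, pow_zero, one_mul, mul_assoc]
    rw [h6]; exact mul_mem h7 h7

end Pair

end Cfsg.Agent.H341.Weak
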