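import Mathlib
import Cfsg.Agent.H341.WeakPair

/-!
# `C_Q(Y)` is abelian
-/

set_option autoImplicit false

namespace Cfsg.Agent.H341.Weak

variable {G : Type*} [Group G]

namespace Pair

variable {Z Q : Subgroup G} {U : Fin 3 → Subgroup G} {e : Fin 3 → G}
  {Y Q' : Subgroup G} {U' : Fin 3 → Subgroup G} {e' : Fin 3 → G}

/-- if a full element `z ∈ Z` does not centralize all of its fixed space, `Q ⊓ Q' = ⊥`. -/
theorem bot_of_not (P : Pair Z Q U e Y Q' U' e') [Finite G] {z : G} (hz : z ∈ Z) (hz1 : z ≠ 1)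
    {r c : Fin 3 → G} (H : Frame.Full Y U' z r c) {i : Fin 3} (hi : z * c i ≠ c i * z) :
    Q ⊓ Q' = ⊥ := by
  obtain ⟨hC, h27, hsurj, hle⟩ := H.cards P.F'
  have hnot : ¬ (CZ Y Q' P.F'.QleC z ≤ Subgroup.centralizer {z}) := by
    intro h
    apply hi
    have h1 : c i ∈ CZ Y Q' P.F'.QleC z := ⟨P.F'.UleQ i (H.H i).cU, (H.H i).yc⟩
    exact Subgroup.mem_centralizer_iff.1 (h h1) z rfl
  have hsurj' := hsurj (hle hnot)
  rw [eq_bot_iff]
  intro d hd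
  obtain ⟨hdQ, hdQ'⟩ := Subgroup.mem_inf.1 hd
  rw [Subgroup.mem_bot]
  have h2 : d ∈ Q' ⊓ Subgroup.centralizer {z} := by
    refine Subgroup.mem_inf.2 ⟨hdQ', ?_⟩
    rw [cent_eq P.F hz hz1]
    exact P.F.QleC hdQ
  obtain ⟨x, _, hx2⟩ := hsurj' d (Frame.Full.A_le P.F' z h2)
  exact P.symm.W1' hz hz1 hdQ' hdQ hx2

/-- if a full element `z ∈ Z` centralizes all of its fixed space, `A` fixes the blocks. -/
theorem sg_of_all (P : Pair Z Q U e Y Q' U' e') {z : G} (hz : z ∈ Z) (hz1 : z ≠ 1)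
    {r c : Fin 3 → G} (H : Frame.Full Y U' z r c) (hall : ∀ i, z * c i = c i * z) {a : G}
    (ha : a ∈ Q ⊓ Subgroup.centralizer (Y : Set G)) : P.F'.sg a = 1 := by
  obtain ⟨q, hqQ, hq⟩ := H.exists_conj P.F' (fun _ => True) (fun i _ => hall i)
  have P' : Pair Z Q U e Y Q' U' (fun i => q * e' i * q⁻¹) := (P.symm.conjE hqQ).symm
  ext1 i
  have hte : q * e' i * q⁻¹ ∈ Subgroup.centralizer (Z : Set G) := by
    rw [← cent_eq P.F hz hz1, Subgroup.mem_centralizer_iff]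
    intro z' hz'
    rw [Set.mem_singleton_iff.1 hz']
    exact hq i trivial
  have h1 := (P'.X (i := i) hte ha).1
  have haY := (Subgroup.mem_inf.1 ha).2
  obtain ⟨x, hx, hxZ⟩ := P.F'.exists_notZ i
  apply P.F'.sg_eq haY hx hxZ
  have h2 := P'.F'.sg_spec haY i hx
  rw [h1] at h2
  exact h2

theorem mem_CZ_of_comm (F : Frame Z Q U e) {a b : G} (ha : a ∈ Q) (hab : a * b = b * a) :
    a ∈ CZ Z Q F.QleC b := by
  refine ⟨ha, ?_⟩
  have : b * a * b⁻¹ * a⁻¹ = 1 := by rw [← hab]; group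
  rw [this]; exact one_mem _

theorem A_comm (P : Pair Z Q U e Y Q' U' e') [Finite G] :
    ∀ a ∈ Q ⊓ Subgroup.centralizer (Y : Set G),
      ∀ b ∈ Q ⊓ Subgroup.centralizer (Y : Set G), a * b = b * a := by
  by_contra hcon
  push Not at hcon
  obtain ⟨a, ha, b, hb, hab⟩ := hcon
  obtain ⟨haQ, haY⟩ := Subgroup.mem_inf.1 ha
  obtain ⟨hbQ, hbY⟩ := Subgroup.mem_inf.1 hb
  have hw0Z := P.F.comZ a haQ b hbQ
  set w0 := a * b * a⁻¹ * b⁻¹ with hw0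
  have hw01 : w0 ≠ 1 := by
    intro h
    apply hab
    calc a * b = w0 * (b * a) := by rw [hw0]; group
      _ = b * a := by rw [h, one_mul]
  have hw0C : w0 ∈ Subgroup.centralizer (Y : Set G) := P.ZC hw0Z
  have hw03 : w0 ^ 3 = 1 := P.F.exp w0 (P.F.ZleQ hw0Z)
  have hsa := P.F'.sg_cube haY (P.F.exp a haQ)
  have hsb := P.F'.sg_cube hbY (P.F.exp b hbQ)
  have hs0 : P.F'.sg w0 = 1 := by
    rw [hw0, P.F'.sg_mul (mul_mem (mul_mem haY hbY) (inv_mem haY)) (inv_mem hbY),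
      P.F'.sg_mul (mul_mem haY hbY) (inv_mem haY), P.F'.sg_mul haY hbY, P.F'.sg_inv haY,
      P.F'.sg_inv hbY, perm_comm _ _ hsa hsb]
    group
  have hnQ : w0 ∉ Q' := by
    intro h
    have : w0 ∈ Z ⊓ Q' := Subgroup.mem_inf.2 ⟨hw0Z, h⟩
    rw [P.ZQ'] at this
    exact hw01 (Subgroup.mem_bot.1 this)
  have cwa : w0 * a = a * w0 := P.F.zc hw0Z haQ
  have cwb : w0 * b = b * w0 := P.F.zc hw0Z hbQ
  have hN0 : w0 ∈ P.F'.N0 := ⟨hw0C, hs0⟩
  -- an element of `A` permuting the blocks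
  obtain ⟨c0, hc0, hc0s⟩ : ∃ c0 ∈ Q ⊓ Subgroup.centralizer (Y : Set G), P.F'.sg c0 ≠ 1 := by
    by_contra hno
    push Not at hno
    have haN : a ∈ P.F'.N0 := ⟨haY, hno a ha⟩
    have hbN : b ∈ P.F'.N0 := ⟨hbY, hno b hb⟩
    apply hnQ
    apply P.F'.mem_Q hw0C
    intro i
    by_contra hni
    obtain ⟨m, hm⟩ := (P.F'.blk i).comm3 (P.F'.N0_act hN0 i) hw03 hni (P.F'.N0_act haN i)
      (P.F.exp a haQ) cwa
    obtain ⟨n, hn⟩ := (P.F'.blk i).comm3 (P.F'.N0_act hN0 i) hw03 hni (P.F'.N0_act hbN i)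
      (P.F.exp b hbQ) cwb
    have k1 : w0 ^ m.val * a ∈ P.F'.KK i := ⟨mul_mem (pow_mem hN0 _) haN, hm⟩
    have k2 : w0 ^ n.val * b ∈ P.F'.KK i := ⟨mul_mem (pow_mem hN0 _) hbN, hn⟩
    have k3 := mul_mem (mul_mem (mul_mem k1 k2) (inv_mem k1)) (inv_mem k2)
    have c1 : Commute (w0 ^ m.val) a := (show Commute w0 a from cwa).pow_left _
    have c2 : Commute (w0 ^ m.val) b := (show Commute w0 b from cwb).pow_left _
    have c3 : Commute (w0 ^ n.val) a := (show Commute w0 a from cwa).pow_left _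
    have c4 : Commute (w0 ^ n.val) b := (show Commute w0 b from cwb).pow_left _
    have c5 : Commute (w0 ^ m.val) (w0 ^ n.val) := (Commute.refl w0).pow_pow _ _
    have k4 : w0 ^ m.val * a * (w0 ^ n.val * b) * (w0 ^ m.val * a)⁻¹ * (w0 ^ n.val * b)⁻¹ = w0 := by
      have d1 : Commute (w0 ^ m.val) (w0 ^ n.val * b) := c5.mul_right c2
      have d2 : Commute (w0 ^ n.val) (b * a⁻¹) := c4.mul_right c3.inv_right
      calc w0 ^ m.val * a * (w0 ^ n.val * b) * (w0 ^ m.val * a)⁻¹ * (w0 ^ n.val * b)⁻¹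
          = w0 ^ m.val * a * ((w0 ^ n.val * b) * a⁻¹ * (w0 ^ m.val)⁻¹) * (w0 ^ n.val * b)⁻¹ := by
            group
        _ = a * w0 ^ m.val * ((w0 ^ n.val * b) * a⁻¹ * (w0 ^ m.val)⁻¹) * (w0 ^ n.val * b)⁻¹ := by
            rw [c1.eq]
        _ = a * (w0 ^ m.val * (w0 ^ n.val * b)) * a⁻¹ * (w0 ^ m.val)⁻¹ * (w0 ^ n.val * b)⁻¹ := by
            group
        _ = a * ((w0 ^ n.val * b) * w0 ^ m.val) * a⁻¹ * (w0 ^ m.val)⁻¹ * (w0 ^ n.val * b)⁻¹ := by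
            rw [d1.eq]
        _ = a * (w0 ^ n.val * b) * (w0 ^ m.val * a⁻¹) * (w0 ^ m.val)⁻¹ * (w0 ^ n.val * b)⁻¹ := by
            group
        _ = a * (w0 ^ n.val * b) * (a⁻¹ * w0 ^ m.val) * (w0 ^ m.val)⁻¹ * (w0 ^ n.val * b)⁻¹ := by
            rw [c1.inv_right.eq]
        _ = a * (w0 ^ n.val * (b * a⁻¹)) * (w0 ^ n.val * b)⁻¹ := by group
        _ = a * ((b * a⁻¹) * w0 ^ n.val) * (w0 ^ n.val * b)⁻¹ := by rw [d2.eq]
        _ = a * b * a⁻¹ * (w0 ^ n.val * b⁻¹ * (w0 ^ n.val)⁻¹) := by group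
        _ = a * b * a⁻¹ * (b⁻¹ * w0 ^ n.val * (w0 ^ n.val)⁻¹) := by rw [c4.inv_right.eq]
        _ = w0 := by rw [hw0]; group
    rw [k4] at k3
    exact hni k3.2
  obtain ⟨hc0Q, hc0Y⟩ := Subgroup.mem_inf.1 hc0
  have hfull : ∀ i, ¬ Triv Y (U' i) w0 := by
    intro i hi
    apply hnQ
    exact P.F'.mem_Q hw0C (Frame.Ab.triv_all P.F' hc0Y
      (P.F'.sg_cube hc0Y (P.F.exp c0 hc0Q)) hc0s hN0 (P.F.zc hw0Z hc0Q).symm hi)
  obtain ⟨r', c', H'⟩ := P.F'.exists_full hw0C hw03 hs0 hfull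
  by_cases hall : ∀ i, w0 * c' i = c' i * w0
  · exact hc0s (P.sg_of_all hw0Z hw01 H' hall hc0)
  · push Not at hall
    obtain ⟨i, hi⟩ := hall
    have hD := P.bot_of_not hw0Z hw01 H' hi
    have hceq := cent_eq P.F hw0Z hw01
    have hA' : ∀ a ∈ Q' ⊓ Subgroup.centralizer (Z : Set G),
        ∀ b ∈ Q' ⊓ Subgroup.centralizer (Z : Set G), a * b = b * a := by
      rw [← hceq]
      intro a ha b hb
      exact H'.comm P.F' (Frame.Full.A_le P.F' w0 ha) (Frame.Full.A_le P.F' w0 hb)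
    have hAb := P.symm.ab (by rw [inf_comm]; exact hD) hA'
    have h27 : 27 ≤ Nat.card (Q' ⊓ Subgroup.centralizer (Z : Set G) : Subgroup G) := by
      rw [← hceq]; exact (H'.cards P.F').2.1
    obtain ⟨a', ha', haN', hn⟩ := Frame.Ab.exists_full' P.F hAb h27
    obtain ⟨ha'Q, ha'Z⟩ := Subgroup.mem_inf.1 ha'
    obtain ⟨r, c, H⟩ := P.F.exists_full ha'Z (P.F'.exp a' ha'Q) haN'.2 hn
    apply hab
    exact H.comm P.F (mem_CZ_of_comm P.F haQ (P.comm_of_bot hD ha ha'))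
      (mem_CZ_of_comm P.F hbQ (P.comm_of_bot hD hb ha'))

end Pair

end Cfsg.Agent.H341.Weak
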