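import Mathlib
import Cfsg.Agent.H341.WeakOne

/-!
# `Y` acts nontrivially on each block
-/

set_option autoImplicit false

namespace Cfsg.Agent.H341.Weak

theorem span2 : ∀ p q : ZMod 3 × ZMod 3, p ≠ 0 →
    (∃ n : Fin 3, q = (n.val * p.1, n.val * p.2)) ∨ ∀ x : ZMod 3 × ZMod 3, ∃ m n : Fin 3,
      x = (m.val * p.1 + n.val * q.1, m.val * p.2 + n.val * q.2) := by
  decide +kernel

variable {G : Type*} [Group G]

namespace Frame

variable {Z Q : Subgroup G} {U : Fin 3 → Subgroup G} {e : Fin 3 → G}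

/-- centralizers in a block -/
theorem cenx (F : Frame Z Q U e) {i : Fin 3} {x v : G} (hx : x ∈ U i) (hxZ : x ∉ Z)
    (hv : v ∈ U i) (hxv : v * x = x * v) : ∃ n : Fin 3, ∃ w ∈ Z, v = x ^ n.val * w := by
  obtain ⟨f, C⟩ := (F.blk i).vec
  have hfx : f x ≠ 0 := fun h => hxZ ((C.zero x hx).1 h)
  rcases span2 (f x) (f v) hfx with ⟨n, hn⟩ | h
  · refine ⟨n, (x ^ n.val)⁻¹ * v, ?_, by group⟩
    apply C.eq_of' (pow_mem hx _) hv
    rw [C.pow hx, hn]
  · exfalso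
    apply hxZ
    apply F.cenU hx
    intro u hu
    obtain ⟨m, n, hmn⟩ := h (f u)
    have hmem : x ^ m.val * v ^ n.val ∈ U i := mul_mem (pow_mem hx _) (pow_mem hv _)
    have hw : (x ^ m.val * v ^ n.val)⁻¹ * u ∈ Z := by
      apply C.eq_of' hmem hu
      rw [C.add _ (pow_mem hx _) _ (pow_mem hv _), C.pow hx, C.pow hv, hmn]
      rfl
    have hu2 : u = x ^ m.val * v ^ n.val * ((x ^ m.val * v ^ n.val)⁻¹ * u) := by group
    have c1 : Commute x v := hxv.symm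
    have c2 : Commute x ((x ^ m.val * v ^ n.val)⁻¹ * u) := (F.zc hw (F.UleQ i hx)).symm
    have c3 : Commute x (x ^ m.val * v ^ n.val * ((x ^ m.val * v ^ n.val)⁻¹ * u)) :=
      (((Commute.refl x).pow_right _).mul_right (c1.pow_right _)).mul_right c2
    rw [hu2]; exact c3

/-- the data of an element trivial on a block but not centralizing it -/
structure Half (F : Frame Z Q U e) (i : Fin 3) (y x : G) : Prop where
  xU : x ∈ U i
  xZ : x ∉ Z
  comm : y * x = x * y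
  eye : e i * y * (e i)⁻¹ = y * x
  exe : e i * x * (e i)⁻¹ = x⁻¹

theorem exists_half (F : Frame Z Q U e) {i : Fin 3} {y : G}
    (hy : y ∈ Subgroup.centralizer (Z : Set G)) (hs : F.sg y i = i) (ht : Triv Z (U i) y)
    (hnc : ∃ u ∈ U i, y * u ≠ u * y) : ∃ x, Half F i y x := by
  obtain ⟨hxU, hxinv⟩ := F.xi_mem hy hs
  set x := y⁻¹ * e i * y * (e i)⁻¹ with hx
  have heye : e i * y * (e i)⁻¹ = y * x := by rw [hx]; group
  have hx3 : x ^ 3 = 1 := F.exp x (F.UleQ i hxU)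
  have hcomm : y * x = x * y := by
    have hw := ht x hxU
    set w := y * x * y⁻¹ * x⁻¹ with hwd
    have h1 : e i * w * (e i)⁻¹ = w := cz (F.eC i) hw
    have h2 : e i * w * (e i)⁻¹ = w⁻¹ := by
      have hyx : y * x * y⁻¹ = w * x := by rw [hwd]; group
      calc e i * w * (e i)⁻¹ = (e i * y * (e i)⁻¹) * (e i * x * (e i)⁻¹) * (e i * y * (e i)⁻¹)⁻¹ *
            (e i * x * (e i)⁻¹)⁻¹ := by rw [hwd]; group
        _ = (y * x) * x⁻¹ * (y * x)⁻¹ * x⁻¹⁻¹ := by rw [heye, hxinv]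
        _ = (y * x * y⁻¹)⁻¹ * x := by group
        _ = x⁻¹ * w⁻¹ * x := by rw [hyx]; group
        _ = w⁻¹ := by
            rw [mul_assoc, F.zc (inv_mem hw) (F.UleQ i hxU)]; group
    have h3 : w * w = 1 := by
      have : w = w⁻¹ := by rw [← h2, h1]
      calc w * w = w * w⁻¹ := by rw [← this]
        _ = 1 := by group
    have h4 : w = 1 := sq_one_of (F.exp w (F.ZleQ hw)) h3
    calc y * x = w * (x * y) := by rw [hwd]; group
      _ = x * y := by rw [h4, one_mul]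
  refine ⟨x, hxU, ?_, hcomm, heye, hxinv⟩
  intro hxZ
  -- `x = 1`, so `y` commutes with `e i`
  have h1 : e i * x * (e i)⁻¹ = x := cz (F.eC i) hxZ
  have h2 : x * x = 1 := by
    have : x = x⁻¹ := by rw [← hxinv, h1]
    calc x * x = x * x⁻¹ := by rw [← this]
      _ = 1 := by group
  have hx1 : x = 1 := sq_one_of hx3 h2
  rw [hx1, mul_one] at heye
  obtain ⟨u, hu, hyu⟩ := hnc
  apply hyu
  have hw := ht u hu
  set w := y * u * y⁻¹ * u⁻¹ with hwd
  have hyuy : y * u * y⁻¹ = w * u := by rw [hwd]; group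
  have hw' := F.einv i u hu
  set w' := e i * u * (e i)⁻¹ * u with hwd'
  have heu : e i * u * (e i)⁻¹ = w' * u⁻¹ := by rw [hwd']; group
  have h5 : y * (e i * u * (e i)⁻¹) * y⁻¹ = e i * (y * u * y⁻¹) * (e i)⁻¹ := by
    have h6 : y * e i = e i * y := by
      calc y * e i = (e i * y * (e i)⁻¹) * e i := by rw [heye]
        _ = e i * y := by group
    calc y * (e i * u * (e i)⁻¹) * y⁻¹ = (y * e i) * u * (y * e i)⁻¹ := by group
      _ = (e i * y) * u * (e i * y)⁻¹ := by rw [h6]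
      _ = _ := by group
  rw [heu, hyuy] at h5
  have h6 : y * (w' * u⁻¹) * y⁻¹ = w' * (u⁻¹ * w⁻¹) := by
    calc y * (w' * u⁻¹) * y⁻¹ = (y * w' * y⁻¹) * (y * u * y⁻¹)⁻¹ := by group
      _ = w' * (w * u)⁻¹ := by rw [cz hy hw', hyuy]
      _ = _ := by group
  have h7 : e i * (w * u) * (e i)⁻¹ = w * (w' * u⁻¹) := by
    calc e i * (w * u) * (e i)⁻¹ = (e i * w * (e i)⁻¹) * (e i * u * (e i)⁻¹) := by group
      _ = _ := by rw [cz (F.eC i) hw, heu]
  rw [h6, h7] at h5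
  have hww' : w * w' = w' * w := F.zc hw (F.ZleQ hw')
  have huw : u⁻¹ * w⁻¹ = w⁻¹ * u⁻¹ := (F.zc (inv_mem hw) (inv_mem (F.UleQ i hu))).symm
  have h8 : w * w = 1 := by
    have h9 : w' * (w⁻¹ * u⁻¹) = w' * (w * u⁻¹) := by
      rw [← huw, h5, ← mul_assoc, hww', mul_assoc]
    have h10 : w⁻¹ = w := by simpa using h9
    calc w * w = w⁻¹ * w := by rw [h10]
      _ = 1 := by group
  have h11 : w = 1 := sq_one_of (F.exp w (F.ZleQ hw)) h8
  calc y * u = w * (u * y) := by rw [hwd]; group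
    _ = u * y := by rw [h11, one_mul]

end Frame

namespace Pair

variable {Z Q : Subgroup G} {U : Fin 3 → Subgroup G} {e : Fin 3 → G}
  {Y Q' : Subgroup G} {U' : Fin 3 → Subgroup G} {e' : Fin 3 → G}

/-- commuting with the abelian group `A`: some element of each block is moved by `y`. -/
theorem exists_move (P : Pair Z Q U e Y Q' U' e') [Finite G] {y : G} (hy : y ∈ Y) (hy1 : y ≠ 1)
    (i : Fin 3) : ∃ u ∈ U i, y * u ≠ u * y := by
  by_contra hcon
  push Not at hcon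
  obtain ⟨a, ha, b, hb, hab⟩ := P.F.nab i
  apply hab
  have hmem : ∀ u ∈ U i, u ∈ Q ⊓ Subgroup.centralizer (Y : Set G) := by
    intro u hu
    refine Subgroup.mem_inf.2 ⟨P.F.UleQ i hu, ?_⟩
    rw [← cent_eq P.F' hy hy1, Subgroup.mem_centralizer_iff]
    intro y' hy'
    rw [Set.mem_singleton_iff.1 hy']
    exact hcon u hu
  exact P.A_comm a (hmem a ha) b (hmem b hb)

theorem memA (P : Pair Z Q U e Y Q' U' e') {y : G} (hy : y ∈ Y) (hy1 : y ≠ 1) {x : G}
    (hx : x ∈ Q) (h : y * x = x * y) : x ∈ Q ⊓ Subgroup.centralizer (Y : Set G) := by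
  refine Subgroup.mem_inf.2 ⟨hx, ?_⟩
  rw [← cent_eq P.F' hy hy1, Subgroup.mem_centralizer_iff]
  intro y' hy'
  rw [Set.mem_singleton_iff.1 hy']
  exact h

theorem not_half_two (P : Pair Z Q U e Y Q' U' e') [Finite G] {y : G} (hy : y ∈ Y) (hy1 : y ≠ 1)
    {i j : Fin 3} (hij : i ≠ j) {x : G} (hx : P.F.Half i y x) (hti : Triv Z (U i) y)
    (hsj : P.F.sg y j = j) : ¬ Triv Z (U j) y := by
  intro htj
  have hyZ := P.symm.ZC hy
  obtain ⟨x', hx'⟩ := P.F.exists_half hyZ hsj htj (P.exists_move hy hy1 j)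
  obtain ⟨v, hv, hyv⟩ := P.exists_move hy hy1 i
  obtain ⟨v', hv', hyv'⟩ := P.exists_move hy hy1 j
  have hwZ := hti v hv
  have hwZ' := htj v' hv'
  set w := y * v * y⁻¹ * v⁻¹ with hw
  set w' := y * v' * y⁻¹ * v'⁻¹ with hw'
  have e1 : y * v * y⁻¹ = w * v := by rw [hw]; group
  have e1' : y * v' * y⁻¹ = w' * v' := by rw [hw']; group
  have hw'1 : w' ≠ 1 := by
    intro h
    apply hyv'
    calc y * v' = w' * (v' * y) := by rw [hw']; group
      _ = _ := by rw [h, one_mul]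
  obtain ⟨m, hm⟩ := (P.F.blk 0).powZ hwZ' hw'1 (inv_mem hwZ)
  have cwv : Commute w' v' := P.F.zc hwZ' (P.F.UleQ j hv')
  have cvw : Commute v w := (P.F.zc hwZ (P.F.UleQ i hv)).symm
  have hA1 : y * (v * v' ^ m.val) * y⁻¹ = v * v' ^ m.val := by
    calc y * (v * v' ^ m.val) * y⁻¹ = (y * v * y⁻¹) * (y * v' ^ m.val * y⁻¹) := by group
      _ = (w * v) * (w' * v') ^ m.val := by rw [← conj_pow, e1, e1']
      _ = (v * w) * (w' ^ m.val * v' ^ m.val) := by rw [cwv.mul_pow, cvw.eq]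
      _ = v * w * w⁻¹ * v' ^ m.val := by rw [← hm]; group
      _ = _ := by group
  have hA2 : y * (v * v' ^ m.val) = (v * v' ^ m.val) * y := by
    calc y * (v * v' ^ m.val) = (y * (v * v' ^ m.val) * y⁻¹) * y := by group
      _ = _ := by rw [hA1]
  have hmemA := P.memA hy hy1 (mul_mem (P.F.UleQ i hv) (pow_mem (P.F.UleQ j hv') _)) hA2
  have hxA := P.memA hy hy1 (P.F.UleQ i hx.xU) hx.comm
  have h3 : Commute (v * v' ^ m.val) x := P.A_comm _ hmemA _ hxA
  have h4' : Commute v' x := (P.F.comm i j hij x hx.xU v' hv').symm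
  have h4 : Commute (v' ^ m.val) x := h4'.pow_left _
  have h5 : Commute v x := by
    have : v = (v * v' ^ m.val) * (v' ^ m.val)⁻¹ := by group
    rw [this]
    exact h3.mul_left h4.inv_left
  obtain ⟨n, w2, hw2, hvn⟩ := P.F.cenx hx.xU hx.xZ hv h5
  apply hyv
  rw [hvn]
  have c1 : Commute y x := hx.comm
  have c2 : Commute y w2 := (Subgroup.mem_centralizer_iff.1 hyZ w2 hw2).symm
  exact (c1.pow_right _).mul_right c2

/-- the key step: `y` is nontrivial on each block -/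
theorem not_triv (P : Pair Z Q U e Y Q' U' e') [Finite G] {y : G} (hy : y ∈ Y) (hy1 : y ≠ 1)
    (hs : P.F.sg y = 1) (i : Fin 3) : ¬ Triv Z (U i) y := by
  classical
  intro hti
  have hyZ := P.symm.ZC hy
  have hy3 : y ^ 3 = 1 := P.F'.exp y (P.F'.ZleQ hy)
  have hsi : ∀ j, P.F.sg y j = j := fun j => by rw [hs]; rfl
  obtain ⟨x, hx⟩ := P.F.exists_half hyZ (hsi i) hti (P.exists_move hy hy1 i)
  obtain ⟨j, k, hij, hik, hjk⟩ := exists_jk i
  have hntj := P.not_half_two hy hy1 hij hx hti (hsi j)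
  have hntk := P.not_half_two hy hy1 hik hx hti (hsi k)
  have hAct : ∀ l, Act Z (U l) y := fun l => P.F.act_of_sg hyZ (hsi l)
  obtain ⟨rj, cj, Hj⟩ := (P.F.blk j).unip (hAct j) hy3 hntj
  obtain ⟨rk, ck, Hk⟩ := (P.F.blk k).unip (hAct k) hy3 hntk
  have hceq := cent_eq P.F' hy hy1
  have hxA := P.memA hy hy1 (P.F.UleQ i hx.xU) hx.comm
  -- the subgroup `W`
  set W : Subgroup G := CZ Z Q P.F.QleC y ⊓ Subgroup.centralizer {e i} with hWdef
  have hWe : ∀ g ∈ W, e i * g * (e i)⁻¹ = g := by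
    intro g hg
    have := Subgroup.mem_centralizer_iff.1 (Subgroup.mem_inf.1 hg).2 (e i) rfl
    rw [this]; group
  have hmemW : ∀ g, g ∈ Q → y * g * y⁻¹ * g⁻¹ ∈ Z → e i * g * (e i)⁻¹ = g → g ∈ W := by
    intro g h1 h2 h3
    refine Subgroup.mem_inf.2 ⟨⟨h1, h2⟩, ?_⟩
    rw [Subgroup.mem_centralizer_iff]
    intro g' hg'
    rw [Set.mem_singleton_iff.1 hg']
    calc e i * g = (e i * g * (e i)⁻¹) * e i := by group
      _ = _ := by rw [h3]
  -- elements of `W`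
  have hWform : ∀ g ∈ W, ∃ m n : Fin 3, ∃ w ∈ Z, g = cj ^ m.val * ck ^ n.val * w := by
    intro g hg
    have hgQ := (Subgroup.mem_inf.1 hg).1.1
    have hgf := (Subgroup.mem_inf.1 hg).1.2
    have hge := hWe g hg
    obtain ⟨u, hu, v, hv, t, ht, rfl⟩ := P.F.mul3 hij hik hjk g hgQ
    obtain ⟨f1, f2, f3⟩ := P.F.comp hij hik hjk hAct hu hv ht hgf
    have h1 := P.F.eU i j hij.symm v hv
    have h2 := P.F.eU i k hik.symm t ht
    have h3 : e i * u * (e i)⁻¹ = u := by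
      have h4 : e i * (u * v * t) * (e i)⁻¹ = (e i * u * (e i)⁻¹) * v * t := by
        calc e i * (u * v * t) * (e i)⁻¹
            = (e i * u * (e i)⁻¹) * (e i * v * (e i)⁻¹) * (e i * t * (e i)⁻¹) := by group
          _ = _ := by rw [h1, h2]
      rw [h4] at hge
      simpa using hge
    have h5 := P.F.einv i u hu
    rw [h3] at h5
    have huZ : u ∈ Z := by
      have h6 := P.F.exp u (P.F.UleQ i hu)
      have h7 : u = (u * u) * (u * u) := by
        calc u = u ^ 3 * u := by rw [h6, one_mul]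
          _ = (u * u) * (u * u) := by simp only [pow_succ, pow_zero, one_mul, mul_assoc]
      rw [h7]; exact mul_mem h5 h5
    obtain ⟨m, w1, hw1, rfl⟩ := Hj.fix v hv f2
    obtain ⟨n, w2, hw2, rfl⟩ := Hk.fix t ht f3
    refine ⟨m, n, u * w1 * w2, mul_mem (mul_mem huZ hw1) hw2, ?_⟩
    have c1 : u * cj ^ m.val = cj ^ m.val * u :=
      P.F.zc huZ (pow_mem (P.F.UleQ j Hj.cU) _)
    have c2 : (u * w1) * ck ^ n.val = ck ^ n.val * (u * w1) :=
      P.F.zc (mul_mem huZ hw1) (pow_mem (P.F.UleQ k Hk.cU) _)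
    calc u * (cj ^ m.val * w1) * (ck ^ n.val * w2)
        = (u * cj ^ m.val) * w1 * ck ^ n.val * w2 := by group
      _ = cj ^ m.val * ((u * w1) * ck ^ n.val) * w2 := by rw [c1]; group
      _ = _ := by rw [c2]; group
  have hWcard : Nat.card W ≤ 27 := by
    have hsurj : Function.Surjective (fun p : (Fin 3 × Fin 3) × Z =>
        (if h : cj ^ p.1.1.val * ck ^ p.1.2.val * (p.2 : G) ∈ W then
          (⟨_, h⟩ : W) else 1)) := by
      rintro ⟨g, hg⟩
      obtain ⟨m, n, w, hw, rfl⟩ := hWform g hg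
      exact ⟨((m, n), ⟨w, hw⟩), by simp only; rw [dif_pos hg]⟩
    have h1 := Nat.card_le_card_of_surjective _ hsurj
    have h2 : Nat.card ((Fin 3 × Fin 3) × Z) = 27 := by
      rw [Nat.card_prod, Nat.card_prod, P.F.cardZ]; simp
    rw [h2] at h1; exact h1
  -- the orbit of `y` lies in `y W`
  have hblk : ∀ l, ∀ u ∈ U l, y⁻¹ * u * y * u⁻¹ ∈ U l ∧ y⁻¹ * u * y * u⁻¹ ∈ W := by
    intro l u hu
    have hyu : y⁻¹ * u * y ∈ U l := by
      have h1 := (hAct l).nor _ ((hAct l).nor u hu)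
      have h2 := Blk.conj_cube hy3 u
      have h3 : y⁻¹ * u * y = y * (y * u * y⁻¹) * y⁻¹ := by
        calc y⁻¹ * u * y = y⁻¹ * (y * (y * (y * u * y⁻¹) * y⁻¹) * y⁻¹) * y := by rw [h2]
          _ = _ := by group
      rw [h3]; exact h1
    have h4 : y⁻¹ * u * y * u⁻¹ ∈ U l := mul_mem hyu (inv_mem hu)
    refine ⟨h4, ?_⟩
    by_cases hl : l = i
    · subst hl
      have h5 : y⁻¹ * u * y * u⁻¹ ∈ Z := by
        have h6 := hti _ hyu
        have h7 : y * (y⁻¹ * u * y) * y⁻¹ * (y⁻¹ * u * y)⁻¹ = (y⁻¹ * u * y * u⁻¹)⁻¹ := by group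
        rw [h7] at h6
        exact inv_mem_iff.1 h6
      apply hmemW _ (P.F.UleQ _ h4)
      · rw [Frame.cz hyZ h5, mul_inv_cancel]; exact one_mem _
      · exact Frame.cz (P.F.eC _) h5
    · apply hmemW _ (P.F.UleQ _ h4)
      · rcases cov3 i j k hij hik hjk l with rfl | rfl | rfl
        · exact absurd rfl hl
        · exact Hj.two u hu
        · exact Hk.two u hu
      · exact P.F.eU i l hl _ h4
  have horb : ∀ g ∈ Q, y⁻¹ * g * y * g⁻¹ ∈ W := by
    intro g hg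
    obtain ⟨u, hu, v, hv, w, hw, rfl⟩ := P.F.mul3 hij hik hjk g hg
    obtain ⟨hu1, hu2⟩ := hblk i u hu
    obtain ⟨hv1, hv2⟩ := hblk j v hv
    obtain ⟨hw1, hw2⟩ := hblk k w hw
    have h1 : y⁻¹ * (u * v * w) * y * (u * v * w)⁻¹ =
        (y⁻¹ * u * y * u⁻¹) * (y⁻¹ * v * y * v⁻¹) * (y⁻¹ * w * y * w⁻¹) := by
      have c1 : Commute (y⁻¹ * v * y) u⁻¹ := (P.F.comm i j hij _ (inv_mem hu) _ (by
        have : y⁻¹ * v * y = (y⁻¹ * v * y * v⁻¹) * v := by group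
        rw [this]; exact mul_mem hv1 hv)).symm
      have c2 : Commute (y⁻¹ * w * y * w⁻¹) u⁻¹ :=
        (P.F.comm i k hik _ (inv_mem hu) _ hw1).symm
      have c3 : Commute (y⁻¹ * w * y * w⁻¹) v⁻¹ :=
        (P.F.comm j k hjk _ (inv_mem hv) _ hw1).symm
      calc y⁻¹ * (u * v * w) * y * (u * v * w)⁻¹
          = (y⁻¹ * u * y) * (y⁻¹ * v * y) * ((y⁻¹ * w * y * w⁻¹) * v⁻¹) * u⁻¹ := by group
        _ = (y⁻¹ * u * y) * (y⁻¹ * v * y) * (v⁻¹ * (y⁻¹ * w * y * w⁻¹)) * u⁻¹ := by rw [c3.eq]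
        _ = (y⁻¹ * u * y) * (y⁻¹ * v * y) * v⁻¹ * ((y⁻¹ * w * y * w⁻¹) * u⁻¹) := by group
        _ = (y⁻¹ * u * y) * (y⁻¹ * v * y) * v⁻¹ * (u⁻¹ * (y⁻¹ * w * y * w⁻¹)) := by rw [c2.eq]
        _ = (y⁻¹ * u * y) * (y⁻¹ * v * y) * (v⁻¹ * u⁻¹) * (y⁻¹ * w * y * w⁻¹) := by group
        _ = (y⁻¹ * u * y) * (y⁻¹ * v * y) * (u⁻¹ * v⁻¹) * (y⁻¹ * w * y * w⁻¹) := by
            rw [(P.F.comm i j hij _ (inv_mem hu) _ (inv_mem hv))]
        _ = (y⁻¹ * u * y) * ((y⁻¹ * v * y) * u⁻¹) * v⁻¹ * (y⁻¹ * w * y * w⁻¹) := by group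
        _ = (y⁻¹ * u * y) * (u⁻¹ * (y⁻¹ * v * y)) * v⁻¹ * (y⁻¹ * w * y * w⁻¹) := by rw [c1.eq]
        _ = _ := by group
    rw [h1]
    exact mul_mem (mul_mem hu2 hv2) hw2
  obtain ⟨ho1, ho2⟩ := orb Q y (W : Set G) horb
  rw [hceq, P.F.cardQ] at ho1 ho2
  have hWc : Nat.card ((W : Subgroup G) : Set G) = Nat.card W := rfl
  rw [hWc] at ho1 ho2
  -- the form of the elements of `A`
  have hAform : ∀ a ∈ Q ⊓ Subgroup.centralizer (Y : Set G), ∃ l : Fin 3, ∃ w0 ∈ W,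
      a = x ^ l.val * w0 := by
    intro a ha
    obtain ⟨haQ, haY⟩ := Subgroup.mem_inf.1 ha
    have haf : y * a * y⁻¹ * a⁻¹ ∈ Z := by
      have := Subgroup.mem_centralizer_iff.1 haY y hy
      rw [this]; simp
    have hax : Commute a x := P.A_comm _ ha _ hxA
    obtain ⟨u, hu, v, hv, t, ht, rfl⟩ := P.F.mul3 hij hik hjk a haQ
    obtain ⟨f1, f2, f3⟩ := P.F.comp hij hik hjk hAct hu hv ht haf
    have c1 : Commute v x := (P.F.comm i j hij x hx.xU v hv).symm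
    have c2 : Commute t x := (P.F.comm i k hik x hx.xU t ht).symm
    have c3 : Commute u x := by
      have : u = (u * v * t) * t⁻¹ * v⁻¹ := by group
      rw [this]
      exact (hax.mul_left c2.inv_left).mul_left c1.inv_left
    obtain ⟨l, w, hw, rfl⟩ := P.F.cenx hx.xU hx.xZ hu c3
    refine ⟨l, w * v * t, ?_, by group⟩
    have hwW : w ∈ W := hmemW w (P.F.ZleQ hw) (by
      rw [Frame.cz hyZ hw, mul_inv_cancel]; exact one_mem _) (Frame.cz (P.F.eC _) hw)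
    exact mul_mem (mul_mem hwW (hmemW v (P.F.UleQ j hv) f2 (P.F.eU i j hij.symm v hv)))
      (hmemW t (P.F.UleQ k ht) f3 (P.F.eU i k hik.symm t ht))
  have hAcard : Nat.card (Q ⊓ Subgroup.centralizer (Y : Set G) : Subgroup G) ≤ 81 := by
    have hsurj : Function.Surjective (fun p : Fin 3 × W =>
        (if h : x ^ p.1.val * (p.2 : G) ∈ Q ⊓ Subgroup.centralizer (Y : Set G) then
          (⟨_, h⟩ : (Q ⊓ Subgroup.centralizer (Y : Set G) : Subgroup G)) else 1)) := by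
      rintro ⟨g, hg⟩
      obtain ⟨l, w, hw, rfl⟩ := hAform g hg
      exact ⟨(l, ⟨w, hw⟩), by simp only; rw [dif_pos hg]⟩
    have h1 := Nat.card_le_card_of_surjective _ hsurj
    rw [Nat.card_prod] at h1
    simp only [Nat.card_eq_fintype_card (α := Fin 3), Fintype.card_fin] at h1
    omega
  have hsurjW := ho2 (by
    calc Nat.card W * Nat.card (Q ⊓ Subgroup.centralizer (Y : Set G) : Subgroup G)
        ≤ 27 * 81 := Nat.mul_le_mul hWcard hAcard
      _ = 3 ^ 7 := by norm_num)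
  have hAge : 81 ≤ Nat.card (Q ⊓ Subgroup.centralizer (Y : Set G) : Subgroup G) := by
    by_contra hlt
    have : Nat.card W * Nat.card (Q ⊓ Subgroup.centralizer (Y : Set G) : Subgroup G)
        ≤ 27 * 80 := Nat.mul_le_mul hWcard (by omega)
    omega
  -- `D ≠ ⊥`
  have hD : Q ⊓ Q' ≠ ⊥ := by
    intro hD
    have := (P.ab hD P.A_comm).card_le P.F'
    omega
  obtain ⟨⟨d, hd⟩, hd1⟩ := Subgroup.ne_bot_iff_exists_ne_one.1 hD
  have hd1' : d ≠ 1 := fun h => hd1 (Subtype.ext h)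
  obtain ⟨hdQ, hdQ'⟩ := Subgroup.mem_inf.1 hd
  -- conjugates
  have key1 : ∀ w0 ∈ W, w0 ∈ Q' → w0 = 1 := by
    intro w0 hw0 hw0'
    obtain ⟨g, _, hg⟩ := hsurjW w0 hw0
    exact P.W1' hy hy1 (Subgroup.mem_inf.1 hw0).1.1 hw0' hg
  have key2 : ∀ w0 ∈ W, x * w0 ∈ Q' → x * w0 = 1 := by
    intro w0 hw0 hw0'
    obtain ⟨g, _, hg⟩ := hsurjW w0 hw0
    have hconj : (e i * g) * y * (e i * g)⁻¹ = y * (x * w0) := by
      have h1 : g * y * g⁻¹ = y * w0 := by rw [← hg]; group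
      calc (e i * g) * y * (e i * g)⁻¹ = e i * (g * y * g⁻¹) * (e i)⁻¹ := by group
        _ = (e i * y * (e i)⁻¹) * (e i * w0 * (e i)⁻¹) := by rw [h1]; group
        _ = y * x * w0 := by rw [hx.eye, hWe w0 hw0]
        _ = _ := by group
    exact P.W1 hy hy1 (mul_mem (P.F.UleQ i hx.xU) (Subgroup.mem_inf.1 hw0).1.1) hw0' hconj
  obtain ⟨l, w0, hw0, hdl⟩ := hAform d (P.D_le hd)
  have hcx : Commute x w0 := by
    have h1 : w0 = (x ^ l.val)⁻¹ * d := by rw [hdl]; group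
    rw [h1]
    have h2 : Commute x d := (P.A_comm _ hxA _ (P.D_le hd))
    exact (((Commute.refl x).pow_right _).inv_right).mul_right h2
  have hx3 : x ^ 3 = 1 := P.F.exp x (P.F.UleQ i hx.xU)
  have hl : l = 0 ∨ l = 1 ∨ l = 2 := by fin_cases l <;> simp
  rcases hl with rfl | rfl | rfl
  · apply hd1'
    have : d = w0 := by rw [hdl]; simp
    rw [this]
    exact key1 w0 hw0 (this ▸ hdQ')
  · apply hd1'
    have : d = x * w0 := by rw [hdl]; simp
    rw [this]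
    exact key2 w0 hw0 (this ▸ hdQ')
  · apply hd1'
    have h2 : d⁻¹ = x * w0⁻¹ := by
      have h3 : d = x ^ 2 * w0 := by rw [hdl]; rfl
      have h4 : (x ^ 2)⁻¹ = x := by
        rw [inv_eq_iff_mul_eq_one, ← pow_succ]; exact hx3
      calc d⁻¹ = w0⁻¹ * (x ^ 2)⁻¹ := by rw [h3]; group
        _ = w0⁻¹ * x := by rw [h4]
        _ = x * w0⁻¹ := (hcx.inv_right.eq).symm
    have h5 := key2 w0⁻¹ (inv_mem hw0) (by rw [← h2]; exact inv_mem hdQ')
    rw [← h2] at h5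
    exact inv_eq_one.1 h5

end Pair

end Cfsg.Agent.H341.Weak
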