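import Mathlib
import Cfsg.Agent.H341.WeakThree

/-!
# `Z` does not permute the blocks of `Q'`
-/

set_option autoImplicit false

namespace Cfsg.Agent.H341.Weak

variable {G : Type*} [Group G]

namespace Frame

variable {Z Q : Subgroup G} {U : Fin 3 → Subgroup G} {e : Fin 3 → G}

/-- the conjugates of `e 0` under a permuting element commute -/
theorem Cyc.e_comm (F : Frame Z Q U e) {z : G} (H : F.Cyc z) :
    e 0 * (z * e 0 * z⁻¹) = (z * e 0 * z⁻¹) * e 0 := by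
  obtain ⟨h1, h2, h3⟩ := H.dist F 0
  set f := z * e 0 * z⁻¹ with hf
  have hfC : f ∈ Subgroup.centralizer (Z : Set G) :=
    mul_mem (mul_mem H.cen (F.eC 0)) (inv_mem H.cen)
  have hf2 : f * f = 1 := by
    rw [hf]
    calc z * e 0 * z⁻¹ * (z * e 0 * z⁻¹) = z * (e 0 * e 0) * z⁻¹ := by group
      _ = 1 := by rw [F.e2]; group
  -- `f` centralizes the blocks other than `s 0`
  have hfx : ∀ k, k ≠ F.sg z 0 → ∀ x ∈ U k, f * x * f⁻¹ = x := by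
    intro k hk x hx
    obtain ⟨l, rfl⟩ : ∃ l, k = F.sg z l := ⟨(F.sg z)⁻¹ k, by simp⟩
    have hl : l ≠ 0 := fun h => hk (by rw [h])
    have hx' := F.conj_inv_mem H.cen hx
    have h4 := F.eU 0 l hl _ hx'
    calc f * x * f⁻¹ = z * (e 0 * (z⁻¹ * x * z) * (e 0)⁻¹) * z⁻¹ := by rw [hf]; group
      _ = x := by rw [h4]; group
  have he0 := F.e2 0
  have hfi : f⁻¹ = f := inv_eq_of_mul_eq_one_left hf2
  have hei : (e 0)⁻¹ = e 0 := F.e_inv 0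
  set w := e 0 * f * e 0 * f with hw
  have hwx : ∀ k, ∀ x ∈ U k, w * x = x * w := by
    intro k x hx
    have hwi : w * x * w⁻¹ = x := by
      have hgen : w * x * w⁻¹ = e 0 * (f * (e 0 * (f * x * f⁻¹) * (e 0)⁻¹) * f⁻¹) * (e 0)⁻¹ := by
        rw [hw]; group
      rw [hgen]
      rcases cov3 0 (F.sg z 0) (F.sg z (F.sg z 0)) h1 h2 h3 k with rfl | rfl | rfl
      · have hx0 : e 0 * x * (e 0)⁻¹ ∈ U 0 := (F.act_e 0 0).nor x hx
        rw [hfx 0 h1 x hx, hfx 0 h1 _ hx0]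
        calc e 0 * (e 0 * x * (e 0)⁻¹) * (e 0)⁻¹ = (e 0 * e 0) * x * (e 0 * e 0)⁻¹ := by group
          _ = x := by rw [he0]; group
      · have hfx' : f * x * f⁻¹ ∈ U (F.sg z 0) := by
          have hs : F.sg f = 1 := by
            rw [hf, F.sg_mul (mul_mem H.cen (F.eC 0)) (inv_mem H.cen), F.sg_mul H.cen (F.eC 0),
              F.sg_e, F.sg_inv H.cen]; group
          have := F.sg_spec hfC _ hx
          rwa [hs] at this
        have h5 : ∀ u ∈ U (F.sg z 0), e 0 * u * (e 0)⁻¹ = u :=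
          fun u hu => F.eU 0 _ h1.symm u hu
        rw [h5 _ hfx']
        have h6 : f * (f * x * f⁻¹) * f⁻¹ = x := by
          calc f * (f * x * f⁻¹) * f⁻¹ = (f * f) * x * (f * f)⁻¹ := by group
            _ = x := by rw [hf2]; group
        rw [h6, h5 x hx]
      · have h5 : ∀ u ∈ U (F.sg z (F.sg z 0)), e 0 * u * (e 0)⁻¹ = u :=
          fun u hu => F.eU 0 _ h2.symm u hu
        rw [hfx _ h3.symm x hx, h5 x hx, hfx _ h3.symm x hx, h5 x hx]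
    calc w * x = (w * x * w⁻¹) * w := by group
      _ = x * w := by rw [hwi]
  have hwQ : w ∈ Q := by
    apply F.CQ
    rw [Subgroup.mem_centralizer_iff]
    intro x hx
    exact (F.commQ (fun i u hu => hwx i u hu) x hx).symm
  have hwZ : w ∈ Z := F.cenZ w hwQ (F.commQ (fun i u hu => hwx i u hu))
  have h7 : e 0 * w * (e 0)⁻¹ = w := cz (F.eC 0) hwZ
  have h8 : e 0 * w * (e 0)⁻¹ = w⁻¹ := by
    have h9 : w⁻¹ = f * e 0 * f * e 0 := by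
      calc w⁻¹ = f⁻¹ * (e 0)⁻¹ * f⁻¹ * (e 0)⁻¹ := by rw [hw]; group
        _ = _ := by rw [hfi, hei]
    calc e 0 * w * (e 0)⁻¹ = (e 0 * e 0) * f * e 0 * f * (e 0)⁻¹ := by rw [hw]; group
      _ = f * e 0 * f * (e 0)⁻¹ := by rw [he0]; group
      _ = _ := by rw [h9, hei]
  have h9 : w * w = 1 := by
    have : w = w⁻¹ := by rw [← h8, h7]
    calc w * w = w * w⁻¹ := by rw [← this]
      _ = 1 := by group
  have h10 : w = 1 := sq_one_of (F.exp w hwQ) h9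
  calc e 0 * f = w * (f⁻¹ * (e 0)⁻¹) := by rw [hw]; group
    _ = f * e 0 := by rw [h10, hfi, hei, one_mul]

end Frame

namespace Pair

variable {Z Q : Subgroup G} {U : Fin 3 → Subgroup G} {e : Fin 3 → G}
  {Y Q' : Subgroup G} {U' : Fin 3 → Subgroup G} {e' : Fin 3 → G}

theorem card_A (P : Pair Z Q U e Y Q' U' e') [Finite G] {y : G} (hy : y ∈ Y) (hy1 : y ≠ 1) :
    27 ≤ Nat.card (Q ⊓ Subgroup.centralizer (Y : Set G) : Subgroup G) := by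
  have hyZ := P.symm.ZC hy
  have hy3 : y ^ 3 = 1 := P.F'.exp y (P.F'.ZleQ hy)
  rw [← cent_eq P.F' hy hy1]
  by_cases hs : P.F.sg y = 1
  · obtain ⟨r, c, H⟩ := P.F.exists_full hyZ hy3 hs (P.not_triv hy hy1 hs)
    exact (H.cards P.F).2.1
  · exact Frame.Cyc.card_cen P.F ⟨hyZ, hy3, hs⟩

theorem no_cyc (P : Pair Z Q U e Y Q' U' e') [Finite G] {z : G} (hz : z ∈ Z) (hz1 : z ≠ 1) :
    P.F'.sg z = 1 := by
  by_contra hs
  have hzY := P.ZC hz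
  have hz3 : z ^ 3 = 1 := P.F.exp z (P.F.ZleQ hz)
  have H : P.F'.Cyc z := ⟨hzY, hz3, hs⟩
  -- a nontrivial element of `Y`
  obtain ⟨y, hy, hy1⟩ : ∃ y ∈ Y, y ≠ 1 := by
    by_contra hcon
    push Not at hcon
    have : Y = ⊥ := by
      rw [eq_bot_iff]; intro y hy; rw [Subgroup.mem_bot]; exact hcon y hy
    have h3 := P.F'.cardZ
    rw [this] at h3
    simp at h3
  have hceqz := cent_eq P.F hz hz1
  -- `D ≠ ⊥`
  have hD : Q ⊓ Q' ≠ ⊥ := by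
    intro hD
    have h1 := (P.ab hD P.A_comm).card_perm P.F' (b0 := z)
      (Subgroup.mem_inf.2 ⟨P.F.ZleQ hz, hzY⟩) hs
    have h2 := P.card_A hy hy1
    omega
  obtain ⟨⟨d, hd⟩, hd1⟩ := Subgroup.ne_bot_iff_exists_ne_one.1 hD
  have hd1' : d ≠ 1 := fun h => hd1 (Subtype.ext h)
  obtain ⟨hdQ, hdQ'⟩ := Subgroup.mem_inf.1 hd
  have hzd : z * d * z⁻¹ = d := by
    rw [P.F.zc hz hdQ]; group
  -- the involution `t`
  set f0 := e' 0 with hf0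
  set f1 := z * f0 * z⁻¹ with hf1
  set f2 := z * f1 * z⁻¹ with hf2
  have hf3 : z * f2 * z⁻¹ = f0 := by
    rw [hf2, hf1]; exact Blk.conj_cube hz3 f0
  have c01 : f0 * f1 = f1 * f0 := Frame.Cyc.e_comm P.F' H
  have c12 : f1 * f2 = f2 * f1 := by
    calc f1 * f2 = (z * f0 * z⁻¹) * (z * f1 * z⁻¹) := by rw [← hf1, ← hf2]
      _ = z * (f0 * f1) * z⁻¹ := by group
      _ = z * (f1 * f0) * z⁻¹ := by rw [c01]
      _ = (z * f1 * z⁻¹) * (z * f0 * z⁻¹) := by group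
      _ = f2 * f1 := by rw [← hf1, ← hf2]
  have c20 : f2 * f0 = f0 * f2 := by
    calc f2 * f0 = (z * f1 * z⁻¹) * (z * f2 * z⁻¹) := by rw [← hf2, hf3]
      _ = z * (f1 * f2) * z⁻¹ := by group
      _ = z * (f2 * f1) * z⁻¹ := by rw [c12]
      _ = (z * f2 * z⁻¹) * (z * f1 * z⁻¹) := by group
      _ = f0 * f2 := by rw [← hf2, hf3]
  set t := f0 * f1 * f2 with ht
  have hfC : f0 ∈ Subgroup.centralizer (Y : Set G) ∧ f1 ∈ Subgroup.centralizer (Y : Set G) ∧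
      f2 ∈ Subgroup.centralizer (Y : Set G) := by
    have h0 : f0 ∈ Subgroup.centralizer (Y : Set G) := P.F'.eC 0
    have h1 : f1 ∈ Subgroup.centralizer (Y : Set G) := mul_mem (mul_mem hzY h0) (inv_mem hzY)
    exact ⟨h0, h1, mul_mem (mul_mem hzY h1) (inv_mem hzY)⟩
  have htY : t ∈ Subgroup.centralizer (Y : Set G) := mul_mem (mul_mem hfC.1 hfC.2.1) hfC.2.2
  have hzt : z * t * z⁻¹ = t := by
    calc z * t * z⁻¹ = (z * f0 * z⁻¹) * (z * f1 * z⁻¹) * (z * f2 * z⁻¹) := by rw [ht]; group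
      _ = f1 * f2 * f0 := by rw [hf3]
      _ = f1 * (f2 * f0) := by group
      _ = f1 * (f0 * f2) := by rw [c20]
      _ = (f1 * f0) * f2 := by group
      _ = f0 * f1 * f2 := by rw [c01]
      _ = t := ht.symm
  have htZ : t ∈ Subgroup.centralizer (Z : Set G) := by
    rw [← hceqz, Subgroup.mem_centralizer_iff]
    intro z' hz'
    rw [Set.mem_singleton_iff.1 hz']
    calc z * t = (z * t * z⁻¹) * z := by group
      _ = t * z := by rw [hzt]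
  -- `f1`, `f2` centralize block 0
  obtain ⟨n1, n2, n3⟩ := H.dist P.F' 0
  set s1 := P.F'.sg z 0 with hs1
  set s2 := P.F'.sg z s1 with hs2
  have hs3 : P.F'.sg z s2 = 0 := by
    have h3 := Frame.Cyc.s3 P.F' H
    have h4 : (P.F'.sg z ^ 3) 0 = 0 := by rw [h3]; rfl
    simpa [pow_succ] using h4
  have hf1x : ∀ x ∈ U' 0, f1 * x * f1⁻¹ = x := by
    intro x hx
    rw [← hs3] at hx
    have hx' := P.F'.conj_inv_mem hzY hx
    have h4 := P.F'.eU 0 s2 n2.symm _ hx'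
    calc f1 * x * f1⁻¹ = z * (e' 0 * (z⁻¹ * x * z) * (e' 0)⁻¹) * z⁻¹ := by rw [hf1, hf0]; group
      _ = x := by rw [h4]; group
  have hf1x2 : ∀ x ∈ U' s2, f1 * x * f1⁻¹ = x := by
    intro x hx
    have hx' : z⁻¹ * x * z ∈ U' s1 := P.F'.conj_inv_mem hzY (by rw [← hs2]; exact hx)
    have h4 := P.F'.eU 0 s1 n1.symm _ hx'
    calc f1 * x * f1⁻¹ = z * (e' 0 * (z⁻¹ * x * z) * (e' 0)⁻¹) * z⁻¹ := by rw [hf1, hf0]; group
      _ = x := by rw [h4]; group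
  have hf2x : ∀ x ∈ U' 0, f2 * x * f2⁻¹ = x := by
    intro x hx
    rw [← hs3] at hx
    have hx' := P.F'.conj_inv_mem hzY hx
    have h4 := hf1x2 _ hx'
    calc f2 * x * f2⁻¹ = z * (f1 * (z⁻¹ * x * z) * f1⁻¹) * z⁻¹ := by rw [hf2]; group
      _ = x := by rw [h4]; group
  have htx : ∀ x ∈ U' 0, t * x * t⁻¹ * x ∈ Y := by
    intro x hx
    have h4 := P.F'.einv 0 x hx
    have h5 : t * x * t⁻¹ = f0 * x * f0⁻¹ := by
      calc t * x * t⁻¹ = f0 * (f1 * (f2 * x * f2⁻¹) * f1⁻¹) * f0⁻¹ := by rw [ht]; group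
        _ = _ := by rw [hf2x x hx, hf1x x hx]
    rw [h5]; exact h4
  -- `t` inverts all blocks
  have htzc : ∀ g : G, t * (z * g * z⁻¹) * t⁻¹ = z * (t * g * t⁻¹) * z⁻¹ := by
    intro g
    have h4 : t * z = z * t := by
      calc t * z = (z * t * z⁻¹) * z := by rw [hzt]
        _ = z * t := by group
    calc t * (z * g * z⁻¹) * t⁻¹ = (t * z) * g * (t * z)⁻¹ := by group
      _ = (z * t) * g * (z * t)⁻¹ := by rw [h4]
      _ = _ := by group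
  have htx1 : ∀ k, (∀ x ∈ U' k, t * x * t⁻¹ * x ∈ Y) → ∀ x ∈ U' (P.F'.sg z k),
      t * x * t⁻¹ * x ∈ Y := by
    intro k hk x hx
    have hx' := P.F'.conj_inv_mem hzY hx
    have h4 := hk _ hx'
    have h5 : t * x * t⁻¹ * x = z * (t * (z⁻¹ * x * z) * t⁻¹ * (z⁻¹ * x * z)) * z⁻¹ := by
      have h6 := htzc (z⁻¹ * x * z)
      have h7 : z * (z⁻¹ * x * z) * z⁻¹ = x := by group
      rw [h7] at h6
      rw [h6]; group
    rw [h5, Frame.cz hzY h4]; exact h4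
  have hts1 := htx1 0 htx
  have hts2 := htx1 _ hts1
  -- components of `d`
  obtain ⟨u0, hu0, u1, hu1, u2, hu2, hdu⟩ := P.F'.mul3 n1 n2 n3 d hdQ'
  -- `t` inverts `d`
  have htd : t * d * t⁻¹ = d⁻¹ := by
    have k0 := htx u0 hu0
    have k1 := hts1 u1 hu1
    have k2 := hts2 u2 hu2
    have h1 : t * d * t⁻¹ * d ∈ Y := by
      have c1 : Commute u0 u1 := P.F'.comm _ _ n1 _ hu0 _ hu1
      have hact : ∀ k, ∀ x ∈ U' k, t * x * t⁻¹ * x ∈ Y → t * x * t⁻¹ ∈ U' k := by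
        intro k x hx h
        have h3 : t * x * t⁻¹ = (t * x * t⁻¹ * x) * x⁻¹ := by group
        rw [h3]; exact mul_mem (P.F'.ZleU k h) (inv_mem hx)
      have v1 := hact s1 u1 hu1 k1
      have v2 := hact s2 u2 hu2 k2
      have c3 : Commute (t * u1 * t⁻¹) u0 := (P.F'.comm _ _ n1 _ hu0 _ v1).symm
      have c4 : Commute (t * u2 * t⁻¹) u0 := (P.F'.comm _ _ n2 _ hu0 _ v2).symm
      have c5 : Commute (t * u2 * t⁻¹) u1 := (P.F'.comm _ _ n3 _ hu1 _ v2).symm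
      have h4 : t * d * t⁻¹ * d =
          (t * u0 * t⁻¹ * u0) * (t * u1 * t⁻¹ * u1) * (t * u2 * t⁻¹ * u2) := by
        calc t * d * t⁻¹ * d
            = (t * u0 * t⁻¹) * (t * u1 * t⁻¹) * ((t * u2 * t⁻¹) * u0) * u1 * u2 := by
              rw [hdu]; group
          _ = (t * u0 * t⁻¹) * (t * u1 * t⁻¹) * (u0 * (t * u2 * t⁻¹)) * u1 * u2 := by rw [c4.eq]
          _ = (t * u0 * t⁻¹) * ((t * u1 * t⁻¹) * u0) * ((t * u2 * t⁻¹) * u1) * u2 := by group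
          _ = (t * u0 * t⁻¹) * (u0 * (t * u1 * t⁻¹)) * (u1 * (t * u2 * t⁻¹)) * u2 := by
              rw [c3.eq, c5.eq]
          _ = _ := by group
      rw [h4]; exact mul_mem (mul_mem k0 k1) k2
    have h2 : t * d * t⁻¹ * d ∈ Y ⊓ Q :=
      Subgroup.mem_inf.2 ⟨h1, mul_mem (P.F.conjQ t htZ d hdQ) hdQ⟩
    rw [P.YQ, Subgroup.mem_bot] at h2
    exact eq_inv_of_mul_eq_one_left h2
  -- `d` is a norm modulo `Y`
  obtain ⟨w, hw, hdw⟩ : ∃ w ∈ Y, Nm z u0 = d * w := by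
    have hv1 : z * u0 * z⁻¹ ∈ U' s1 := P.F'.sg_spec hzY 0 hu0
    have hv2 : z * u1 * z⁻¹ ∈ U' s2 := P.F'.sg_spec hzY s1 hu1
    have hv0 : z * u2 * z⁻¹ ∈ U' 0 := by
      have := P.F'.sg_spec hzY s2 hu2
      rwa [hs3] at this
    have h1 : (z * u2 * z⁻¹ * u0⁻¹) * (z * u0 * z⁻¹ * u1⁻¹) * (z * u1 * z⁻¹ * u2⁻¹) = 1 := by
      have hzd2 : (z * u0 * z⁻¹) * (z * u1 * z⁻¹) * (z * u2 * z⁻¹) = u0 * u1 * u2 := by
        calc (z * u0 * z⁻¹) * (z * u1 * z⁻¹) * (z * u2 * z⁻¹) = z * d * z⁻¹ := by rw [hdu]; group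
          _ = _ := by rw [hzd, hdu]
      have c1 : Commute (z * u2 * z⁻¹) (z * u0 * z⁻¹) := (P.F'.comm _ _ n1 _ hv0 _ hv1)
      have c2 : Commute (z * u2 * z⁻¹) (z * u1 * z⁻¹) := (P.F'.comm _ _ n2 _ hv0 _ hv2)
      have c3 : Commute u0⁻¹ (z * u0 * z⁻¹) := (P.F'.comm _ _ n1 _ (inv_mem hu0) _ hv1)
      have c4 : Commute u0⁻¹ (z * u1 * z⁻¹) := (P.F'.comm _ _ n2 _ (inv_mem hu0) _ hv2)
      have c5 : Commute u1⁻¹ (z * u1 * z⁻¹) := (P.F'.comm _ _ n3 _ (inv_mem hu1) _ hv2)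
      have c6 : Commute u0⁻¹ u1⁻¹ := P.F'.comm _ _ n1 _ (inv_mem hu0) _ (inv_mem hu1)
      calc (z * u2 * z⁻¹ * u0⁻¹) * (z * u0 * z⁻¹ * u1⁻¹) * (z * u1 * z⁻¹ * u2⁻¹)
          = (z * u2 * z⁻¹) * (u0⁻¹ * (z * u0 * z⁻¹)) * (u1⁻¹ * (z * u1 * z⁻¹)) * u2⁻¹ := by group
        _ = (z * u2 * z⁻¹) * ((z * u0 * z⁻¹) * u0⁻¹) * ((z * u1 * z⁻¹) * u1⁻¹) * u2⁻¹ := by
            rw [c3.eq, c5.eq]
        _ = ((z * u2 * z⁻¹) * (z * u0 * z⁻¹)) * (u0⁻¹ * (z * u1 * z⁻¹)) * u1⁻¹ * u2⁻¹ := by group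
        _ = ((z * u0 * z⁻¹) * (z * u2 * z⁻¹)) * ((z * u1 * z⁻¹) * u0⁻¹) * u1⁻¹ * u2⁻¹ := by
            rw [c1.eq, c4.eq]
        _ = (z * u0 * z⁻¹) * ((z * u2 * z⁻¹) * (z * u1 * z⁻¹)) * (u0⁻¹ * u1⁻¹) * u2⁻¹ := by group
        _ = (z * u0 * z⁻¹) * ((z * u1 * z⁻¹) * (z * u2 * z⁻¹)) * (u1⁻¹ * u0⁻¹) * u2⁻¹ := by
            rw [c2.eq, c6.eq]
        _ = ((z * u0 * z⁻¹) * (z * u1 * z⁻¹) * (z * u2 * z⁻¹)) * (u0 * u1)⁻¹ * u2⁻¹ := by group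
        _ = (u0 * u1 * u2) * (u0 * u1)⁻¹ * u2⁻¹ := by rw [hzd2]
        _ = (u0 * u1) * (u2 * (u0 * u1)⁻¹) * u2⁻¹ := by group
        _ = (u0 * u1) * ((u0 * u1)⁻¹ * u2) * u2⁻¹ := by
            have c7a : Commute u2 u0 := (P.F'.comm _ _ n2 _ hu0 _ hu2).symm
            have c7b : Commute u2 u1 := (P.F'.comm _ _ n3 _ hu1 _ hu2).symm
            have c7 : Commute u2 (u0 * u1) := c7a.mul_right c7b
            rw [c7.inv_right.eq]
        _ = 1 := by group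
    obtain ⟨_, j1, j2⟩ := P.F'.indep n1 n2 n3 (mul_mem hv0 (inv_mem hu0))
      (mul_mem hv1 (inv_mem hu1)) (mul_mem hv2 (inv_mem hu2)) (by rw [h1]; exact one_mem _)
    set y1 := z * u0 * z⁻¹ * u1⁻¹ with hy1d
    set y2 := z * u1 * z⁻¹ * u2⁻¹ with hy2d
    have g1 : z * u0 * z⁻¹ = y1 * u1 := by rw [hy1d]; group
    have g2 : z * u1 * z⁻¹ = y2 * u2 := by rw [hy2d]; group
    have cy : ∀ v ∈ Y, ∀ q ∈ Q', Commute v q := fun v hv q hq => P.F'.zc hv hq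
    refine ⟨y1 * (y1 * y2), mul_mem j1 (mul_mem j1 j2), ?_⟩
    unfold Nm
    have g3 : z * (z * u0 * z⁻¹) * z⁻¹ = y1 * y2 * u2 := by
      rw [g1]
      calc z * (y1 * u1) * z⁻¹ = (z * y1 * z⁻¹) * (z * u1 * z⁻¹) := by group
        _ = y1 * (y2 * u2) := by rw [Frame.cz hzY j1, g2]
        _ = _ := by group
    rw [g3, g1]
    have q0 := P.F'.UleQ _ hu0
    have q1 := P.F'.UleQ _ hu1
    have q2 := P.F'.UleQ _ hu2
    calc u0 * (y1 * u1) * (y1 * y2 * u2) = (u0 * y1) * (u1 * (y1 * y2)) * u2 := by group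
      _ = (y1 * u0) * ((y1 * y2) * u1) * u2 := by
          rw [← (cy y1 j1 u0 q0).eq, ← (cy _ (mul_mem j1 j2) u1 q1).eq]
      _ = y1 * (u0 * (y1 * y2)) * u1 * u2 := by group
      _ = y1 * ((y1 * y2) * u0) * u1 * u2 := by rw [← (cy _ (mul_mem j1 j2) u0 q0).eq]
      _ = (y1 * (y1 * y2)) * d := by rw [hdu]; group
      _ = d * (y1 * (y1 * y2)) := (cy _ (mul_mem j1 (mul_mem j1 j2)) d hdQ').eq
  -- correct `u0`
  set v := u0 * (t * u0 * t⁻¹ * u0) with hv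
  have hwt := htx u0 hu0
  have hvU : v ∈ U' 0 := mul_mem hu0 (P.F'.ZleU 0 hwt)
  have hNv : Nm z v = d * w := by
    rw [hv, H.Nm_mul P.F' hu0 (P.F'.ZleU 0 hwt), H.Nm_Z P.F' hwt, mul_one, hdw]
  have htv : t * v * t⁻¹ = v⁻¹ := by
    set k := t * u0 * t⁻¹ * u0 with hk
    have h1 : t * u0 * t⁻¹ = k * u0⁻¹ := by rw [hk]; group
    have ck : Commute k u0 := P.F'.zc hwt (P.F'.UleQ 0 hu0)
    have hk3 : k ^ 3 = 1 := P.F'.exp k (P.F'.ZleQ hwt)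
    calc t * v * t⁻¹ = (t * u0 * t⁻¹) * (t * k * t⁻¹) := by rw [hv]; group
      _ = (k * u0⁻¹) * k := by rw [h1, Frame.cz htY hwt]
      _ = k * (u0⁻¹ * k) := by group
      _ = k * (k * u0⁻¹) := by rw [ck.symm.inv_left.eq]
      _ = (k * k) * u0⁻¹ := by group
      _ = k⁻¹ * u0⁻¹ := by rw [Frame.cube_inv hk3]
      _ = v⁻¹ := by rw [hv]; group
  -- `t` inverts `Nm z v`
  have htN : t * Nm z v * t⁻¹ = (Nm z v)⁻¹ := by
    have h1 : t * Nm z v * t⁻¹ = Nm z v⁻¹ := by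
      unfold Nm
      calc t * (v * (z * v * z⁻¹) * (z * (z * v * z⁻¹) * z⁻¹)) * t⁻¹
          = (t * v * t⁻¹) * (t * (z * v * z⁻¹) * t⁻¹) * (t * (z * (z * v * z⁻¹) * z⁻¹) * t⁻¹) := by
            group
        _ = _ := by rw [htzc, htzc, htzc, htv]
    have h2 : Nm z v⁻¹ * Nm z v = 1 := by
      rw [← H.Nm_mul P.F' (inv_mem hvU) hvU, inv_mul_cancel]
      simp [Nm]
    rw [h1]
    exact eq_inv_of_mul_eq_one_left h2
  have hw1 : w = 1 := by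
    rw [hNv] at htN
    have cdw : Commute w d := P.F'.zc hw hdQ'
    have h1 : t * (d * w) * t⁻¹ = d⁻¹ * w := by
      calc t * (d * w) * t⁻¹ = (t * d * t⁻¹) * (t * w * t⁻¹) := by group
        _ = _ := by rw [htd, Frame.cz htY hw]
    rw [h1] at htN
    have h2 : (d * w)⁻¹ = d⁻¹ * w⁻¹ := by
      rw [mul_inv_rev]
      exact cdw.inv_inv.eq
    rw [h2] at htN
    have h3 : w = w⁻¹ := by simpa using htN
    have h4 : w * w = 1 := by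
      calc w * w = w * w⁻¹ := by rw [← h3]
        _ = 1 := by group
    exact sq_one_of (P.F'.exp w (P.F'.ZleQ hw)) h4
  rw [hw1, mul_one] at hNv
  -- the final conjugation
  obtain ⟨m1, m2, m3⟩ := H.comms P.F' hvU hvU
  have hv3 := Blk.conj_cube hz3 v
  set q1 := z * v * z⁻¹ with hq1
  set q2 := z * q1 * z⁻¹ with hq2
  have hdq : d = v * q1 * q2 := by rw [← hNv]; rfl
  have hzq1 : z⁻¹ * q1 * z = v := by rw [hq1]; group
  have hzq2 : z⁻¹ * q2 * z = q1 := by rw [hq2]; group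
  have hq13 : q1 ^ 3 = 1 := by
    rw [hq1, conj_pow, P.F'.exp v (P.F'.UleQ 0 hvU)]; group
  have hfin : z⁻¹ * (q1⁻¹ * q2) * z * (q1⁻¹ * q2)⁻¹ = d⁻¹ := by
    calc z⁻¹ * (q1⁻¹ * q2) * z * (q1⁻¹ * q2)⁻¹
        = (z⁻¹ * q1 * z)⁻¹ * (z⁻¹ * q2 * z) * q2⁻¹ * q1 := by group
      _ = v⁻¹ * (q1 * q2⁻¹) * q1 := by rw [hzq1, hzq2]; group
      _ = v⁻¹ * (q2⁻¹ * q1) * q1 := by rw [m3.inv_right.eq]
      _ = v⁻¹ * q2⁻¹ * (q1 * q1) := by group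
      _ = v⁻¹ * q2⁻¹ * q1⁻¹ := by rw [Frame.cube_inv hq13]
      _ = (q2⁻¹ * v⁻¹) * q1⁻¹ := by rw [m2.inv_inv.eq]
      _ = q2⁻¹ * (v⁻¹ * q1⁻¹) := by group
      _ = q2⁻¹ * (q1⁻¹ * v⁻¹) := by rw [m1.inv_inv.eq]
      _ = d⁻¹ := by rw [hdq]; group
  have := P.symm.W1' hz hz1 (inv_mem hdQ') (inv_mem hdQ) hfin
  exact hd1' (inv_eq_one.1 this)

end Pair

end Cfsg.Agent.H341.Weak
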