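import Mathlib
import Cfsg.Agent.H341.WeakTwo

/-!
# `Z` is not weakly closed in `Q`
-/

set_option autoImplicit false

namespace Cfsg.Agent.H341.Weak

variable {G : Type*} [Group G]

theorem block3 {Z : Subgroup G} (hZ : Nat.card Z = 3) {v0 v1 v2 : G} (h0 : v0 ∈ Z) (h1 : v1 ∈ Z)
    (h2 : v2 ∈ Z) : v0 = 1 ∨ v1 = 1 ∨ v2 = 1 ∨ v0 * v1 = 1 ∨ v1 * v2 = 1 ∨ v0 * v1 * v2 = 1 := by
  haveI : Fact (Nat.Prime 3) := ⟨by norm_num⟩
  haveI : Finite Z := Nat.finite_of_card_ne_zero (by rw [hZ]; norm_num)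
  by_cases k0 : v0 = 1
  · exact Or.inl k0
  by_cases k1 : v1 = 1
  · exact Or.inr (Or.inl k1)
  by_cases k2 : v2 = 1
  · exact Or.inr (Or.inr (Or.inl k2))
  have h3 : ∀ v ∈ Z, v ^ 3 = 1 := by
    intro v hv
    have : (⟨v, hv⟩ : Z) ^ 3 = 1 := by rw [← hZ]; exact pow_card_eq_one'
    exact congrArg Subtype.val this
  have hpw : ∀ v ∈ Z, v ≠ 1 → v = v0 ∨ v = v0 * v0 := by
    intro v hv hv1
    have g1 : (⟨v0, h0⟩ : Z) ≠ 1 := fun h => k0 (congrArg Subtype.val h)
    obtain ⟨n, hn⟩ := Subgroup.mem_zpowers_iff.1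
      (mem_zpowers_of_prime_card (G := Z) (p := 3) hZ (g := ⟨v0, h0⟩) (g' := ⟨v, hv⟩) g1)
    have hn' : v0 ^ n = v := congrArg Subtype.val hn
    have h30 : v0 ^ (3 : ℤ) = 1 := by exact_mod_cast h3 v0 h0
    have h31 : v0 ^ (n % 3) = v := by
      rw [← hn']
      conv_rhs => rw [← Int.emod_add_mul_ediv n 3, zpow_add, zpow_mul, h30, one_zpow, mul_one]
    have hr : n % 3 = 0 ∨ n % 3 = 1 ∨ n % 3 = 2 := by omega
    rcases hr with hr | hr | hr
    · rw [hr] at h31; exact absurd (by simpa using h31.symm) hv1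
    · rw [hr] at h31; left; simpa using h31.symm
    · rw [hr] at h31; right
      rw [← h31, zpow_ofNat, pow_two]
  have h30 := h3 v0 h0
  have h33 : v0 * v0 * v0 = 1 := by rw [← h30]; simp only [pow_succ, pow_zero, one_mul]
  rcases hpw v1 h1 k1 with e1 | e1
  · rcases hpw v2 h2 k2 with e2 | e2
    · right; right; right; right; right
      rw [e1, e2, h33]
    · right; right; right; right; left
      rw [e1, e2, ← mul_assoc, h33]
  · right; right; right; left
    rw [e1, ← mul_assoc, h33]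

namespace Frame

variable {Z Q : Subgroup G} {U : Fin 3 → Subgroup G} {e : Fin 3 → G}

theorem sq_mem (F : Frame Z Q U e) {x : G} (hx : x ∈ Q) (h : x * x ∈ Z) : x ∈ Z := by
  have h5 := F.exp x hx
  have h6 : x = (x * x) * (x * x) := by
    calc x = x ^ 3 * x := by rw [h5, one_mul]
      _ = (x * x) * (x * x) := by simp only [pow_succ, pow_zero, one_mul, mul_assoc]
  rw [h6]; exact mul_mem h h

theorem e_ne_one (F : Frame Z Q U e) (i : Fin 3) : e i ≠ 1 := by
  intro h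
  obtain ⟨x, hx, hxZ⟩ := F.exists_notZ i
  apply hxZ
  have := F.einv i x hx
  rw [h] at this
  exact F.sq_mem (F.UleQ i hx) (by simpa using this)

end Frame

namespace Pair

variable {Z Q : Subgroup G} {U : Fin 3 → Subgroup G} {e : Fin 3 → G}
  {Y Q' : Subgroup G} {U' : Fin 3 → Subgroup G} {e' : Fin 3 → G}

/-- an involution commuting with `z`, `Y` and one vector of the fixed space of `z` is trivial
on that block -/
theorem triv_of_fix (F' : Frame Y Q' U' e') {z t : G} {r c : Fin 3 → G}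
    (H : Frame.Full Y U' z r c) (htY : t ∈ Subgroup.centralizer (Y : Set G)) (ht2 : t * t = 1)
    (hzt : z * t = t * z) {j : Fin 3} (htc : t * c j = c j * t) :
    F'.sg t j = j ∧ Triv Y (U' j) t := by
  have h1 : t * c j * t⁻¹ = c j := by rw [htc]; group
  have hs : F'.sg t j = j := F'.sg_eq htY (H.H j).cU (H.H j).cZ (by rw [h1]; exact (H.H j).cU)
  refine ⟨hs, ?_⟩
  have hn : ¬ Triv Y (U' j) z := by
    intro h
    have h2 := h _ (H.H j).rU
    rw [(H.H j).yr] at h2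
    apply (H.H j).cZ
    simpa using h2
  rcases (F'.blk j).comm2 (H.act j) H.y3 hn (F'.act_of_sg htY hs) ht2 hzt with h | h
  · exact h
  · exfalso
    have h2 := h _ (H.H j).cU
    rw [h1] at h2
    exact (H.H j).cZ (F'.sq_mem (F'.UleQ j (H.H j).cU) h2)

theorem exists_D (P : Pair Z Q U e Y Q' U' e') [Finite G] {z : G} (hz : z ∈ Z) (hz1 : z ≠ 1)
    {r c : Fin 3 → G} (H : Frame.Full Y U' z r c) (hall : ∀ i, z * c i = c i * z) {i : Fin 3}
    (hei : e i ∈ Subgroup.centralizer (Y : Set G)) : ∃ d ∈ Q ⊓ Q', d ∈ U i ∧ d ≠ 1 := by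
  by_contra hcon
  push Not at hcon
  have hte : ∀ a ∈ Q' ⊓ Subgroup.centralizer (Z : Set G), e i * a = a * e i := by
    intro a ha
    have h1 := (P.symm.X (i := i) hei ha).2
    by_contra hne
    obtain ⟨h2, h3⟩ := Subgroup.mem_inf.1 h1
    have hU : e i * a * (e i)⁻¹ * a⁻¹ ∈ U i := by
      apply P.F.mem_U_of_inv h3
      have he2 := P.F.e2 i
      have hei' := P.F.e_inv i
      calc e i * (e i * a * (e i)⁻¹ * a⁻¹) * (e i)⁻¹
          = (e i * e i) * a * (e i)⁻¹ * a⁻¹ * (e i)⁻¹ := by group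
        _ = a * (e i)⁻¹ * a⁻¹ * (e i)⁻¹ := by rw [he2]; group
        _ = a * e i * a⁻¹ * (e i)⁻¹ := by rw [hei']
        _ = _ := by group
    have h4 := hcon (e i * a * (e i)⁻¹ * a⁻¹) (Subgroup.mem_inf.2 ⟨h3, h2⟩) hU
    apply hne
    calc e i * a = (e i * a * (e i)⁻¹ * a⁻¹) * (a * e i) := by group
      _ = a * e i := by rw [h4, one_mul]
  have ht2 := P.F.e2 i
  have hzt : z * e i = e i * z := Subgroup.mem_centralizer_iff.1 (P.F.eC i) z hz
  have hT : ∀ j, Triv Y (U' j) (e i) := by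
    intro j
    have hcA : c j ∈ Q' ⊓ Subgroup.centralizer (Z : Set G) :=
      P.symm.memA hz hz1 (P.F'.UleQ j (H.H j).cU) (hall j)
    exact (triv_of_fix P.F' H hei ht2 hzt (hte _ hcA)).2
  have hQ' := P.F'.mem_Q hei hT
  exact P.F.e_ne_one i (sq_one_of (P.F'.exp _ hQ') ht2)

/-- the case `Q ⊓ Q' ≠ ⊥` -/
theorem bot (P : Pair Z Q U e Y Q' U' e') [Finite G] {z y : G} (hz : z ∈ Z) (hz1 : z ≠ 1)
    (hy : y ∈ Y) (hy1 : y ≠ 1)
    {r c r' c' : Fin 3 → G} (H : Frame.Full Z U y r c) (H' : Frame.Full Y U' z r' c') :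
    Q ⊓ Q' = ⊥ := by
  by_contra hD
  have hall : ∀ i, y * c i = c i * y := by
    intro i
    by_contra h
    exact hD (by rw [inf_comm]; exact P.symm.bot_of_not hy hy1 H h)
  have hall' : ∀ i, z * c' i = c' i * z := by
    intro i
    by_contra h
    exact hD (P.bot_of_not hz hz1 H' h)
  obtain ⟨q, hqQ, hq⟩ := H.exists_conj P.F (fun _ => True) (fun i _ => hall i)
  have P1 := P.conjE hqQ
  have hfC : ∀ i, q * e i * q⁻¹ ∈ Subgroup.centralizer (Y : Set G) := by
    intro i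
    rw [← cent_eq P.F' hy hy1, Subgroup.mem_centralizer_iff]
    intro y' hy'
    rw [Set.mem_singleton_iff.1 hy']
    exact hq i trivial
  -- elements of `D`
  have hg : ∀ i, ∃ g ∈ Q ⊓ Q', ∃ v ∈ Z, g ∈ U i ∧ g ≠ 1 ∧ y⁻¹ * r i * y * (r i)⁻¹ = g * v := by
    intro i
    obtain ⟨d, hd, hdU, hd1⟩ := P1.exists_D hz hz1 H' hall' (i := i) (hfC i)
    have hdA := (Subgroup.mem_inf.1 (P.D_le hd)).2
    have hdy : y * d * y⁻¹ * d⁻¹ ∈ Z := by
      have := Subgroup.mem_centralizer_iff.1 hdA y hy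
      rw [this]; simp
    obtain ⟨n, w, hw, hdn⟩ := (H.H i).fix d hdU hdy
    have hyr : y⁻¹ * r i * y * (r i)⁻¹ = (c i)⁻¹ := by
      have h1 : y * ((c i)⁻¹ * r i) * y⁻¹ = r i := by
        have h2 : Commute y (c i) := hall i
        calc y * ((c i)⁻¹ * r i) * y⁻¹ = (y * (c i)⁻¹) * r i * y⁻¹ := by group
          _ = ((c i)⁻¹ * y) * r i * y⁻¹ := by rw [h2.inv_right.eq]
          _ = (c i)⁻¹ * (y * r i * y⁻¹) := by group
          _ = r i := by rw [(H.H i).yr]; group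
      calc y⁻¹ * r i * y * (r i)⁻¹ = y⁻¹ * (y * ((c i)⁻¹ * r i) * y⁻¹) * y * (r i)⁻¹ := by rw [h1]
        _ = _ := by group
    have hc3 : c i ^ 3 = 1 := P.F.exp _ (H.c_mem P.F i)
    have cwc : Commute w (c i) := P.F.zc hw (H.c_mem P.F i)
    have hn : n = 0 ∨ n = 1 ∨ n = 2 := by fin_cases n <;> simp
    rcases hn with rfl | rfl | rfl
    · exfalso
      have : d = w := by rw [hdn]; simp
      have h2 : d ∈ Z ⊓ Q' := Subgroup.mem_inf.2 ⟨this ▸ hw, (Subgroup.mem_inf.1 hd).2⟩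
      rw [P.ZQ'] at h2
      exact hd1 (Subgroup.mem_bot.1 h2)
    · have hd' : d = c i * w := by rw [hdn]; simp
      refine ⟨d⁻¹, inv_mem hd, w, hw, inv_mem hdU, inv_ne_one.2 hd1, ?_⟩
      rw [hyr, hd', mul_inv_rev]
      calc (c i)⁻¹ = (c i)⁻¹ * (w⁻¹ * w) := by group
        _ = ((c i)⁻¹ * w⁻¹) * w := by group
        _ = (w⁻¹ * (c i)⁻¹) * w := by rw [cwc.inv_inv.eq]
    · have hd' : d = (c i)⁻¹ * w := by
        rw [hdn]
        show c i ^ 2 * w = _
        rw [pow_two, Frame.cube_inv hc3]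
      refine ⟨d, hd, w⁻¹, inv_mem hw, hdU, hd1, ?_⟩
      rw [hyr, hd']; group
  choose g hgD v hvZ hgU hg1 hgr using hg
  have hrU := fun i => (H.H i).rU
  have hgQ' := fun i => (Subgroup.mem_inf.1 (hgD i)).2
  have hgQ := fun i => (Subgroup.mem_inf.1 (hgD i)).1
  -- two blocks
  have two : ∀ i j, i ≠ j → y⁻¹ * (r i * r j) * y * (r i * r j)⁻¹ = g i * g j * (v i * v j) := by
    intro i j hij
    have c1 : Commute (g j * v j) (r i)⁻¹ := by
      have a1 : Commute (g j) (r i)⁻¹ := (P.F.comm i j hij _ (inv_mem (hrU i)) _ (hgU j)).symm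
      have a2 : Commute (v j) (r i)⁻¹ := P.F.zc (hvZ j) (inv_mem (P.F.UleQ i (hrU i)))
      exact a1.mul_left a2
    have c2 : Commute (v i) (g j) := P.F.zc (hvZ i) (P.F.UleQ j (hgU j))
    calc y⁻¹ * (r i * r j) * y * (r i * r j)⁻¹
        = (y⁻¹ * r i * y) * ((y⁻¹ * r j * y * (r j)⁻¹) * (r i)⁻¹) := by group
      _ = (y⁻¹ * r i * y) * ((r i)⁻¹ * (g j * v j)) := by rw [hgr, c1.eq]
      _ = (y⁻¹ * r i * y * (r i)⁻¹) * (g j * v j) := by group
      _ = g i * (v i * g j) * v j := by rw [hgr]; group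
      _ = g i * (g j * v i) * v j := by rw [c2.eq]
      _ = _ := by group
  have ne2 : ∀ i j, i ≠ j → g i * g j ≠ 1 := by
    intro i j hij h
    have h1 : g i = (g j)⁻¹ := eq_inv_of_mul_eq_one_left h
    have h2 : g i ∈ Z := P.F.inter hij (hgU i) (by rw [h1]; exact inv_mem (hgU j))
    have h3 : g i ∈ Z ⊓ Q' := Subgroup.mem_inf.2 ⟨h2, hgQ' i⟩
    rw [P.ZQ'] at h3
    exact hg1 i (Subgroup.mem_bot.1 h3)
  rcases block3 P.F.cardZ (hvZ 0) (hvZ 1) (hvZ 2) with h | h | h | h | h | h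
  · exact hg1 0 (P.W1' hy hy1 (hgQ 0) (hgQ' 0) (x := r 0) (by rw [hgr, h, mul_one]))
  · exact hg1 1 (P.W1' hy hy1 (hgQ 1) (hgQ' 1) (x := r 1) (by rw [hgr, h, mul_one]))
  · exact hg1 2 (P.W1' hy hy1 (hgQ 2) (hgQ' 2) (x := r 2) (by rw [hgr, h, mul_one]))
  · exact ne2 0 1 (by decide) (P.W1' hy hy1 (mul_mem (hgQ 0) (hgQ 1)) (mul_mem (hgQ' 0) (hgQ' 1))
      (x := r 0 * r 1) (by rw [two 0 1 (by decide), h, mul_one]))
  · exact ne2 1 2 (by decide) (P.W1' hy hy1 (mul_mem (hgQ 1) (hgQ 2)) (mul_mem (hgQ' 1) (hgQ' 2))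
      (x := r 1 * r 2) (by rw [two 1 2 (by decide), h, mul_one]))
  · have h3 : y⁻¹ * (r 0 * (r 1 * r 2)) * y * (r 0 * (r 1 * r 2))⁻¹ = g 0 * g 1 * g 2 := by
      have t12 := two 1 2 (by decide)
      have c1 : Commute (g 1 * g 2 * (v 1 * v 2)) (r 0)⁻¹ := by
        have a1 : Commute (g 1) (r 0)⁻¹ :=
          (P.F.comm 0 1 (by decide) _ (inv_mem (hrU 0)) _ (hgU 1)).symm
        have a2 : Commute (g 2) (r 0)⁻¹ :=
          (P.F.comm 0 2 (by decide) _ (inv_mem (hrU 0)) _ (hgU 2)).symm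
        have a3 : Commute (v 1 * v 2) (r 0)⁻¹ :=
          P.F.zc (mul_mem (hvZ 1) (hvZ 2)) (inv_mem (P.F.UleQ 0 (hrU 0)))
        exact (a1.mul_left a2).mul_left a3
      have c2 : Commute (v 0) (g 1 * g 2) :=
        P.F.zc (hvZ 0) (mul_mem (P.F.UleQ 1 (hgU 1)) (P.F.UleQ 2 (hgU 2)))
      calc y⁻¹ * (r 0 * (r 1 * r 2)) * y * (r 0 * (r 1 * r 2))⁻¹
          = (y⁻¹ * r 0 * y) * ((y⁻¹ * (r 1 * r 2) * y * (r 1 * r 2)⁻¹) * (r 0)⁻¹) := by group
        _ = (y⁻¹ * r 0 * y) * ((r 0)⁻¹ * (g 1 * g 2 * (v 1 * v 2))) := by rw [t12, c1.eq]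
        _ = (y⁻¹ * r 0 * y * (r 0)⁻¹) * (g 1 * g 2 * (v 1 * v 2)) := by group
        _ = g 0 * (v 0 * (g 1 * g 2)) * (v 1 * v 2) := by rw [hgr]; group
        _ = g 0 * ((g 1 * g 2) * v 0) * (v 1 * v 2) := by rw [c2.eq]
        _ = g 0 * g 1 * g 2 * (v 0 * v 1 * v 2) := by group
        _ = _ := by rw [h, mul_one]
    have h4 := P.W1' hy hy1 (mul_mem (mul_mem (hgQ 0) (hgQ 1)) (hgQ 2))
      (mul_mem (mul_mem (hgQ' 0) (hgQ' 1)) (hgQ' 2)) h3
    have h5 := P.F.indep1 (i := 0) (j := 1) (k := 2) (by decide) (by decide) (hgU 0) (hgU 1)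
      (hgU 2) (by rw [h4]; exact one_mem _)
    have h6 : g 0 ∈ Z ⊓ Q' := Subgroup.mem_inf.2 ⟨h5, hgQ' 0⟩
    rw [P.ZQ'] at h6
    exact hg1 0 (Subgroup.mem_bot.1 h6)

/-- the case `Q ⊓ Q' = ⊥`: all but one of the `c l` commute with `y` -/
theorem exists_i (P : Pair Z Q U e Y Q' U' e') [Finite G] {z y : G} (hz : z ∈ Z) (hz1 : z ≠ 1)
    (hy : y ∈ Y) (hy1 : y ≠ 1) (hD : Q ⊓ Q' = ⊥)
    {r c : Fin 3 → G} (H : Frame.Full Z U y r c) :
    ∃ i, ∀ l, l ≠ i → y * c l = c l * y := by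
  classical
  have hceq := cent_eq P.F' hy hy1
  have hyZ := P.symm.ZC hy
  -- some `c i` does not commute with `y`
  obtain ⟨i, hi⟩ : ∃ i, y * c i ≠ c i * y := by
    by_contra hcon
    push Not at hcon
    have hle : CZ Z Q P.F.QleC y ≤ Q ⊓ Subgroup.centralizer (Y : Set G) := by
      intro x hx
      obtain ⟨n, w, hw, hxn⟩ := H.mem P.F hx
      apply P.memA hy hy1 hx.1
      rw [hxn]
      have c0 : ∀ i, Commute y (c i) := hcon
      have cw : Commute y w := (Subgroup.mem_centralizer_iff.1 hyZ w hw).symm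
      exact ((((c0 0).pow_right _).mul_right ((c0 1).pow_right _)).mul_right
        ((c0 2).pow_right _)).mul_right cw
    have h1 := Subgroup.card_le_of_le hle
    rw [(H.cards P.F).1] at h1
    have h2 := (P.ab hD P.A_comm).card_le P.F'
    omega
  obtain ⟨j, k, hij, hik, hjk⟩ := exists_jk i
  have hAb := P.symm.ab (by rw [inf_comm]; exact hD) P.symm.A_comm
  obtain ⟨b, hb, hbN, hbt, hbn⟩ := hAb.exists_single P.F (P.symm.card_A hz hz1) i
  obtain ⟨hbQ', hbZ⟩ := Subgroup.mem_inf.1 hb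
  have hyb : y * b = b * y := P.F'.zc hy hbQ'
  have hb3 : b ^ 3 = 1 := P.F'.exp b hbQ'
  have hbc : ∀ l, l ≠ i → Commute b (c l) := fun l hl =>
    (P.F.blk l).comm_of_triv (H.H l) (H.act l) (hbt l hl) hyb
  have hbw : ∀ w ∈ Z, Commute b w := fun w hw =>
    (Subgroup.mem_centralizer_iff.1 hbZ w hw).symm
  have hnt : ¬ Triv Z (U i) y := by
    intro h
    have h2 := h _ (H.H i).rU
    rw [(H.H i).yr] at h2
    apply (H.H i).cZ
    simpa using h2
  -- `b` does not commute with `c i`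
  have hbci : ¬ Commute b (c i) := by
    intro hbc'
    obtain ⟨m, hm⟩ := (P.F.blk i).comm3 (H.act i) H.y3 hnt (P.F.N0_act hbN i) hb3 hyb
    have hyy : Commute y (y ^ m.val * b) :=
      ((Commute.refl y).pow_right _).mul_right hyb
    have h1 : Commute (y ^ m.val * b) (c i) :=
      (P.F.blk i).comm_of_triv (H.H i) (H.act i) hm hyy
    have h2 : Commute (y ^ m.val) (c i) := by
      have : y ^ m.val = (y ^ m.val * b) * b⁻¹ := by group
      rw [this]; exact h1.mul_left hbc'.inv_left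
    have hm3 : m = 0 ∨ m = 1 ∨ m = 2 := by fin_cases m <;> simp
    rcases hm3 with rfl | rfl | rfl
    · apply hbn
      have : y ^ (0 : Fin 3).val * b = b := by simp
      rw [this] at hm; exact hm
    · apply hi
      have : y ^ (1 : Fin 3).val = y := by simp
      rw [this] at h2; exact h2
    · apply hi
      have h4 : y = (y ^ 2) ^ 2 := by
        calc y = y ^ 3 * y := by rw [H.y3, one_mul]
          _ = (y ^ 2) ^ 2 := by rw [← pow_succ, ← pow_mul]
      have h5 : Commute (y ^ 2) (c i) := h2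
      have h6 : Commute ((y ^ 2) ^ 2) (c i) := h5.pow_left 2
      rw [← h4] at h6; exact h6
  -- the form of the elements of `A`
  have hform : ∀ a : (Q ⊓ Subgroup.centralizer (Y : Set G) : Subgroup G),
      ∃ p : (Fin 3 × Fin 3) × Z, (a : G) = c j ^ p.1.1.val * c k ^ p.1.2.val * (p.2 : G) := by
    rintro ⟨a, ha⟩
    obtain ⟨haQ, haY⟩ := Subgroup.mem_inf.1 ha
    have haf : y * a * y⁻¹ * a⁻¹ ∈ Z := by
      have := Subgroup.mem_centralizer_iff.1 haY y hy
      rw [this]; simp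
    obtain ⟨u, hu, v, hv, t, ht, hat⟩ := P.F.mul3 hij hik hjk a haQ
    rw [hat] at haf
    obtain ⟨f1, f2, f3⟩ := P.F.comp hij hik hjk H.act hu hv ht haf
    obtain ⟨n0, w0, hw0, e0⟩ := (H.H i).fix u hu f1
    obtain ⟨n1, w1, hw1, e1⟩ := (H.H j).fix v hv f2
    obtain ⟨n2, w2, hw2, e2⟩ := (H.H k).fix t ht f3
    have cba : Commute b a := (P.comm_of_bot hD ha hb).symm
    have cbv : Commute b v := by
      rw [e1]; exact ((hbc j hij.symm).pow_right _).mul_right (hbw w1 hw1)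
    have cbt : Commute b t := by
      rw [e2]; exact ((hbc k hik.symm).pow_right _).mul_right (hbw w2 hw2)
    have cbu : Commute b u := by
      have : u = a * t⁻¹ * v⁻¹ := by rw [hat]; group
      rw [this]
      exact (cba.mul_right cbt.inv_right).mul_right cbv.inv_right
    have hn0 : n0 = 0 := by
      by_contra hn
      apply hbci
      have h1 : Commute b (c i ^ n0.val) := by
        have : c i ^ n0.val = u * w0⁻¹ := by rw [e0]; group
        rw [this]; exact cbu.mul_right (hbw w0 hw0).inv_right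
      have hn' : n0 = 1 ∨ n0 = 2 := by fin_cases n0 <;> simp_all
      rcases hn' with rfl | rfl
      · simpa using h1
      · have hc3 : c i ^ 3 = 1 := P.F.exp _ (H.c_mem P.F i)
        have h4 : c i = (c i ^ 2) ^ 2 := by
          calc c i = c i ^ 3 * c i := by rw [hc3, one_mul]
            _ = (c i ^ 2) ^ 2 := by rw [← pow_succ, ← pow_mul]
        have h5 : Commute b (c i ^ 2) := h1
        rw [h4]; exact h5.pow_right 2
    subst hn0
    have e0' : u = w0 := by rw [e0]; simp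
    refine ⟨((n1, n2), ⟨w0 * w1 * w2, mul_mem (mul_mem hw0 hw1) hw2⟩), ?_⟩
    show a = c j ^ n1.val * c k ^ n2.val * (w0 * w1 * w2)
    have c1 : w0 * c j ^ n1.val = c j ^ n1.val * w0 := P.F.zc hw0 (pow_mem (H.c_mem P.F j) _)
    have c2 : (w0 * w1) * c k ^ n2.val = c k ^ n2.val * (w0 * w1) :=
      P.F.zc (mul_mem hw0 hw1) (pow_mem (H.c_mem P.F k) _)
    rw [hat, e0', e1, e2]
    calc w0 * (c j ^ n1.val * w1) * (c k ^ n2.val * w2)
        = (w0 * c j ^ n1.val) * w1 * c k ^ n2.val * w2 := by group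
      _ = c j ^ n1.val * ((w0 * w1) * c k ^ n2.val) * w2 := by rw [c1]; group
      _ = _ := by rw [c2]; group
  choose p hp using hform
  have hinj : Function.Injective p := by
    intro a b hab
    apply Subtype.ext
    rw [hp a, hp b, hab]
  have hcard : Nat.card ((Fin 3 × Fin 3) × Z) = 27 := by
    rw [Nat.card_prod, Nat.card_prod, P.F.cardZ]; simp
  have hge := P.card_A hy hy1
  haveI : Finite Z := Nat.finite_of_card_ne_zero (by rw [P.F.cardZ]; norm_num)
  have hle := Nat.card_le_card_of_injective p hinj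
  have hsurj : Function.Surjective p :=
    ((Nat.bijective_iff_injective_and_card p).2 ⟨hinj, by omega⟩).2
  have hcA : ∀ m n : Fin 3, c j ^ m.val * c k ^ n.val ∈ Q ⊓ Subgroup.centralizer (Y : Set G) := by
    intro m n
    obtain ⟨a, ha⟩ := hsurj ((m, n), 1)
    have := hp a
    rw [ha] at this
    simp only [OneMemClass.coe_one, mul_one] at this
    rw [← this]; exact a.2
  refine ⟨i, fun l hl => ?_⟩
  have hcl : c l ∈ Subgroup.centralizer (Y : Set G) := by
    rcases cov3 i j k hij hik hjk l with rfl | rfl | rfl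
    · exact absurd rfl hl
    · have := (Subgroup.mem_inf.1 (hcA 1 0)).2
      simpa using this
    · have := (Subgroup.mem_inf.1 (hcA 0 1)).2
      simpa using this
  exact Subgroup.mem_centralizer_iff.1 hcl y hy

theorem false (P : Pair Z Q U e Y Q' U' e') [Finite G] : False := by
  have hex : ∀ {Z Q : Subgroup G} {U : Fin 3 → Subgroup G} {e : Fin 3 → G},
      Frame Z Q U e → ∃ z ∈ Z, z ≠ 1 := by
    intro Z Q U e F
    by_contra hcon
    push Not at hcon
    have : Z = ⊥ := by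
      rw [eq_bot_iff]; intro y hy; rw [Subgroup.mem_bot]; exact hcon y hy
    have h3 := F.cardZ
    rw [this] at h3
    simp at h3
  obtain ⟨z, hz, hz1⟩ := hex P.F
  obtain ⟨y, hy, hy1⟩ := hex P.F'
  have hsz := P.no_cyc hz hz1
  have hsy := P.symm.no_cyc hy hy1
  obtain ⟨r, c, H⟩ := P.F.exists_full (P.symm.ZC hy) (P.F'.exp y (P.F'.ZleQ hy)) hsy
    (P.not_triv hy hy1 hsy)
  obtain ⟨r', c', H'⟩ := P.F'.exists_full (P.ZC hz) (P.F.exp z (P.F.ZleQ hz)) hsz
    (P.symm.not_triv hz hz1 hsz)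
  have hD := P.bot hz hz1 hy hy1 H H'
  obtain ⟨i, hi⟩ := P.exists_i hz hz1 hy hy1 hD H
  obtain ⟨i', hi'⟩ := P.symm.exists_i hy hy1 hz hz1 (by rw [inf_comm]; exact hD) H'
  obtain ⟨q, hqQ, hq⟩ := H.exists_conj P.F (fun l => l ≠ i) hi
  have P1 := P.conjE hqQ
  set f : Fin 3 → G := fun l => q * e l * q⁻¹ with hf
  obtain ⟨j, k, hij, hik, hjk⟩ := exists_jk i
  obtain ⟨j', k', hij', hik', hjk'⟩ := exists_jk i'
  -- the action of `f l` on the blocks of `Q'`
  have key : ∀ l, l ≠ i → f l ∈ P.F'.N0 ∧ (∀ l', l' ≠ i' → Triv Y (U' l') (f l)) ∧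
      ∀ x ∈ U' i', f l * x * (f l)⁻¹ * x ∈ Y := by
    intro l hl
    have hfY : f l ∈ Subgroup.centralizer (Y : Set G) := by
      rw [← cent_eq P.F' hy hy1, Subgroup.mem_centralizer_iff]
      intro y' hy'
      rw [Set.mem_singleton_iff.1 hy']
      exact hq l hl
    have ht2 : f l * f l = 1 := P1.F.e2 l
    have hzt : z * f l = f l * z := Subgroup.mem_centralizer_iff.1 (P1.F.eC l) z hz
    have hcom : ∀ a ∈ Q' ⊓ Subgroup.centralizer (Z : Set G), f l * a = a * f l := by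
      intro a ha
      have h1 := (P1.symm.X (i := l) hfY ha).2
      rw [inf_comm, hD, Subgroup.mem_bot] at h1
      calc f l * a = (f l * a * (f l)⁻¹ * a⁻¹) * (a * f l) := by group
        _ = a * f l := by
            have h2 : f l * a * (f l)⁻¹ * a⁻¹ = 1 := h1
            rw [h2, one_mul]
    have hT : ∀ l', l' ≠ i' → P.F'.sg (f l) l' = l' ∧ Triv Y (U' l') (f l) := by
      intro l' hl'
      have hcA : c' l' ∈ Q' ⊓ Subgroup.centralizer (Z : Set G) :=
        P.symm.memA hz hz1 (P.F'.UleQ l' (H'.H l').cU) (hi' l' hl')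
      exact triv_of_fix P.F' H' hfY ht2 hzt (hcom _ hcA)
    have hsgi : P.F'.sg (f l) i' = i' := by
      have h1 := (hT j' hij'.symm).1
      have h2 := (hT k' hik'.symm).1
      rcases cov3 i' j' k' hij' hik' hjk' (P.F'.sg (f l) i') with h | h | h
      · exact h
      · exfalso
        have : P.F'.sg (f l) i' = P.F'.sg (f l) j' := by rw [h, h1]
        exact hij' ((P.F'.sg (f l)).injective this)
      · exfalso
        have : P.F'.sg (f l) i' = P.F'.sg (f l) k' := by rw [h, h2]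
        exact hik' ((P.F'.sg (f l)).injective this)
    have hsg : P.F'.sg (f l) = 1 := by
      ext1 l'
      by_cases h : l' = i'
      · subst h; exact hsgi
      · exact (hT l' h).1
    have hnt : ¬ Triv Y (U' i') z := P.symm.not_triv hz hz1 hsz i'
    refine ⟨⟨hfY, hsg⟩, fun l' hl' => (hT l' hl').2, ?_⟩
    rcases (P.F'.blk i').comm2 (H'.act i') H'.y3 hnt (P.F'.act_of_sg hfY hsgi) ht2 hzt with h | h
    · exfalso
      have hQ' : f l ∈ Q' := P.F'.mem_Q hfY (by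
        intro l'
        by_cases h' : l' = i'
        · subst h'; exact h
        · exact (hT l' h').2)
      exact P1.F.e_ne_one l (sq_one_of (P.F'.exp _ hQ') ht2)
    · exact h
  obtain ⟨hNj, hTj, hIj⟩ := key j hij.symm
  obtain ⟨hNk, hTk, hIk⟩ := key k hik.symm
  have hgQ : f j * f k ∈ Q' := by
    apply P.F'.mem_Q (mul_mem hNj.1 hNk.1)
    intro l'
    by_cases h' : l' = i'
    · subst h'
      intro x hx
      have h1 := hIk x hx
      have hact := (P.F'.N0_act hNk l').nor x hx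
      have h2 := hIj _ hact
      set x' := f k * x * (f k)⁻¹ with hx'
      have h3 : f j * f k * x * (f j * f k)⁻¹ * x⁻¹ = (f j * x' * (f j)⁻¹ * x') * (x * x')⁻¹ := by
        rw [hx']; group
      have h4 : x * x' ∈ Y := by
        have h5 : x * x' = x * (x' * x) * x⁻¹ := by group
        rw [h5, ← P.F'.zc h1 (P.F'.UleQ _ hx), mul_inv_cancel_right]
        exact h1
      rw [h3]; exact mul_mem h2 (inv_mem h4)
    · exact (hTj l' h').mul (hTk l' h') (P.F'.N0_act hNk l')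
  have hfe : f j * f k = f k * f j := P1.F.ee j k
  have h1 : (f j * f k) * (f j * f k) = 1 := by
    calc (f j * f k) * (f j * f k) = f j * (f k * f j) * f k := by group
      _ = (f j * f j) * (f k * f k) := by rw [← hfe]; group
      _ = 1 := by
          have a1 : f j * f j = 1 := P1.F.e2 j
          have a2 : f k * f k = 1 := P1.F.e2 k
          rw [a1, a2, one_mul]
  have h2 : f j * f k = 1 := sq_one_of (P.F'.exp _ hgQ) h1
  have h3 : f j = f k := by
    have a2 : (f k)⁻¹ = f k := P1.F.e_inv k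
    rw [← a2]; exact eq_inv_of_mul_eq_one_left h2
  obtain ⟨x, hx, hxZ⟩ := P.F.exists_notZ j
  apply hxZ
  have h4 : f j * x * (f j)⁻¹ * x ∈ Z := P1.F.einv j x hx
  have h5 : f k * x * (f k)⁻¹ = x := P1.F.eU k j hjk x hx
  rw [h3, h5] at h4
  exact P.F.sq_mem (P.F.UleQ j hx) h4

end Pair

/-- **Theorem A.** If some conjugate of `Z` other than `Z` centralizes `Z`, then some conjugate
of `Z` other than `Z` lies in `Q`. -/
theorem main [Finite G] {Z Q : Subgroup G} {U : Fin 3 → Subgroup G} {e : Fin 3 → G}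
    (F : Frame Z Q U e) (g : G)
    (h1 : ∀ x ∈ Z, g * x * g⁻¹ ∈ Subgroup.centralizer (Z : Set G))
    (h2 : ¬ ∀ x ∈ Z, g * x * g⁻¹ ∈ Z) :
    ∃ g : G, (∀ x ∈ Z, g * x * g⁻¹ ∈ Q) ∧ ¬ ∀ x ∈ Z, g * x * g⁻¹ ∈ Z := by
  by_contra hcon
  push Not at hcon
  have hwc : ∀ g : G, (∀ z ∈ Z, g * z * g⁻¹ ∈ Q) → ∀ z ∈ Z, g * z * g⁻¹ ∈ Z := by
    intro g hg z hz
    exact hcon g hg z hz
  have hmem : ∀ (K : Subgroup G) (x : G), x ∈ K.map (MulAut.conj g).toMonoidHom ↔
      g⁻¹ * x * g ∈ K := by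
    intro K x
    rw [Subgroup.mem_map_equiv, MulAut.conj_symm_apply]
  -- prime order: a subgroup of order 3 is contained in another or meets it trivially
  have hprime : ∀ {K L : Subgroup G}, Nat.card K = 3 → ¬ K ≤ L → K ⊓ L = ⊥ := by
    intro K L hK hKL
    by_contra hne
    obtain ⟨⟨x, hx⟩, hx1⟩ := Subgroup.ne_bot_iff_exists_ne_one.1 hne
    obtain ⟨hxK, hxL⟩ := Subgroup.mem_inf.1 hx
    apply hKL
    intro k hk
    haveI : Fact (Nat.Prime 3) := ⟨by norm_num⟩
    have g1 : (⟨x, hxK⟩ : K) ≠ 1 := fun h =>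
      hx1 (Subtype.ext (show x = 1 from congrArg Subtype.val h))
    obtain ⟨n, hn⟩ := Subgroup.mem_zpowers_iff.1
      (mem_zpowers_of_prime_card (G := K) (p := 3) hK (g := ⟨x, hxK⟩) (g' := ⟨k, hk⟩) g1)
    have hn' : x ^ n = k := congrArg Subtype.val hn
    rw [← hn']; exact zpow_mem hxL n
  have F' := F.map (MulAut.conj g)
  have hYZ : ∀ z ∈ Z, ∀ y ∈ Z.map (MulAut.conj g).toMonoidHom, z * y = y * z := by
    intro z hz y hy
    have h3 := h1 _ ((hmem Z y).1 hy)
    have h4 : g * (g⁻¹ * y * g) * g⁻¹ = y := by group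
    rw [h4] at h3
    exact Subgroup.mem_centralizer_iff.1 h3 z hz
  have hYQ : ¬ Z.map (MulAut.conj g).toMonoidHom ≤ Q := by
    intro h
    apply h2
    apply hwc g
    intro z hz
    apply h
    rw [hmem]
    have h4 : g⁻¹ * (g * z * g⁻¹) * g = z := by group
    rw [h4]; exact hz
  have hZQ : ¬ Z ≤ Q.map (MulAut.conj g).toMonoidHom := by
    intro h
    -- `g⁻¹ Z g ≤ Q`, hence `g⁻¹ Z g ≤ Z`
    have h3 : ∀ z ∈ Z, g⁻¹ * z * g⁻¹⁻¹ ∈ Z := by
      apply hwc g⁻¹
      intro z hz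
      have := (hmem Q z).1 (h hz)
      simpa using this
    -- then `g Z g⁻¹ ≤ Z`
    apply h2
    intro z hz
    have hfin : Finite Z := Nat.finite_of_card_ne_zero (by rw [F.cardZ]; norm_num)
    have hinj : Function.Injective (fun z : Z => (⟨g⁻¹ * z * g⁻¹⁻¹, h3 z z.2⟩ : Z)) := by
      intro a b hab
      have := congrArg Subtype.val hab
      simp only at this
      apply Subtype.ext
      simpa using this
    obtain ⟨w, hw⟩ := (Finite.injective_iff_surjective.1 hinj) ⟨z, hz⟩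
    have h5 : g⁻¹ * w * g⁻¹⁻¹ = z := congrArg Subtype.val hw
    have h6 : g * z * g⁻¹ = w := by rw [← h5]; group
    rw [h6]; exact w.2
  refine Pair.false (Z := Z) (Q := Q) (U := U) (e := e)
    (Y := Z.map (MulAut.conj g).toMonoidHom) (Q' := Q.map (MulAut.conj g).toMonoidHom)
    (U' := fun i => (U i).map (MulAut.conj g).toMonoidHom)
    (e' := fun i => (MulAut.conj g) (e i))
    { F := F
      F' := F'
      comm := hYZ
      YQ := hprime F'.cardZ hYQ
      ZQ' := hprime F.cardZ hZQ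
      wc := hwc
      wc' := ?_ }
  intro k hk y hy
  rw [hmem]
  have h3 := hwc (g⁻¹ * k * g) (by
    intro z hz
    have h4 := (hmem Q _).1 (hk (g * z * g⁻¹) ((hmem Z _).2 (by
      have h5 : g⁻¹ * (g * z * g⁻¹) * g = z := by group
      rw [h5]; exact hz)))
    have h6 : g⁻¹ * (k * (g * z * g⁻¹) * k⁻¹) * g = (g⁻¹ * k * g) * z * (g⁻¹ * k * g)⁻¹ := by group
    rw [h6] at h4; exact h4) _ ((hmem Z y).1 hy)
  have h7 : g⁻¹ * (k * y * k⁻¹) * g = (g⁻¹ * k * g) * (g⁻¹ * y * g) * (g⁻¹ * k * g)⁻¹ := by group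
  rw [h7]; exact h3

end Cfsg.Agent.H341.Weak
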